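import Mathlib
import Cfsg.Agent.L0.SC3Main
import Cfsg.Agent.H1.T3Quot
import Cfsg.Agent.H1.T3More

/-!
# Elements of order three with centralizer of type at most `(3,2,2)`: definitions
-/

set_option autoImplicit false

namespace Cfsg.Agent.L0.C12

open Subgroup Cfsg.Agent.L0.SC3

universe u

section
variable {G : Type*} [Group G]

/-- `x` has order three, `5 ∤ |G|` and `C(x) = ⟨x⟩ × V` with `V` elementary of order at most 4. -/
structure T3 (x : G) : Prop where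
  ne : x ≠ 1
  cube : x ^ 3 = 1
  five : ¬ 5 ∣ Nat.card G
  ab : ∀ a b, Commute x a → Commute x b → Commute a b
  six : ∀ a, Commute x a → a ^ 6 = 1
  dvd : Nat.card (centralizer ({x} : Set G)) ∣ 12

abbrev L7 := Matrix.ProjectiveSpecialLinearGroup (Fin 2) (ZMod 7)
abbrev L13 := Matrix.ProjectiveSpecialLinearGroup (Fin 2) (ZMod 13)

/-- `M / K ≅ S`. -/
def Quo (S : Type) [Group S] (K M : Subgroup G) : Prop :=
  ∃ π : M →* S, Function.Surjective π ∧ ∀ g : M, π g = 1 ↔ (g : G) ∈ K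

/-- Type I: `K` is a normal `3'`-subgroup of `L` and `L/K` is `Z₃` or `S₃`. -/
structure TI (x : G) (L K : Subgroup G) : Prop extends Core x L K where
  cen : ∀ g ∈ L, Commute x g → g * g = 1 → g ∈ K

/-- Type II: `K ≤ M` normal in `L`, `K` a `3'`-group, `M/K` is `L₂(7)` or `L₂(13)`,
`L = M C_L(x)`, and `K` is the largest normal subgroup of `L` without `x`. -/
structure TII (x : G) (L K M : Subgroup G) : Prop where
  le : K ≤ M
  le' : M ≤ L
  nK : ∀ l ∈ L, ∀ k ∈ K, l * k * l⁻¹ ∈ K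
  nM : ∀ l ∈ L, ∀ m ∈ M, l * m * l⁻¹ ∈ M
  cube : ∀ b ∈ K, b ^ 3 = 1 → b = 1
  mem : x ∈ M
  quo : Quo L7 K M ∨ Quo L13 K M
  fra : ∀ g ∈ L, ∃ m ∈ M, ∃ c ∈ L, Commute x c ∧ c * c = 1 ∧ g = m * c
  max : ∀ N ≤ L, (∀ l ∈ L, ∀ n ∈ N, l * n * l⁻¹ ∈ N) → x ∉ N → N ≤ K

/-- The structure statement for a subgroup `L ∋ x`. -/
def Str (x : G) (L : Subgroup G) : Prop := (∃ K, TI x L K) ∨ ∃ K M, TII x L K M

end

/-- The induction hypothesis. -/
def IH (n : ℕ) : Prop :=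
  ∀ (X : Type u) [Group X] [Finite X] (y : X), Nat.card X < n → T3 y → Str y ⊤

/-- The minimal simple configuration: `N(⟨x⟩) = ⟨x, s⟩ × V ≅ S₃ × V`. -/
structure Ctx {G : Type u} [Group G] (x s : G) (V : Subgroup G) : Prop where
  t3 : T3 x
  simple : IsSimpleGroup G
  nab : ∃ a b : G, a * b ≠ b * a
  ih : IH.{u} (Nat.card G)
  sx : s * x * s⁻¹ = x⁻¹
  ss : s * s = 1
  memV : ∀ g, g ∈ V ↔ Commute x g ∧ g * g = 1
  sV : ∀ v ∈ V, Commute s v

/-- Number of `σ ∈ sV` conjugate to `u`. -/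
noncomputable def fcl {G : Type*} [Group G] (s : G) (V : Subgroup G) (u : G) : ℕ :=
  Nat.card {v : V // IsConj u (s * v)}

/-- The output of the principal `3`-block: `y u = χ(1) - χ(u)`. -/
structure Chars {G : Type*} [Group G] (s : G) (V : Subgroup G) (d γ e b : ℕ) (y : G → ℕ) :
    Prop where
  conj : ∀ u g, y (g * u * g⁻¹) = y u
  one : y 1 = 0
  pos : ∀ u, u * u = 1 → u ≠ 1 → 0 < y u
  fpos : ∀ u, u * u = 1 → u ≠ 1 → ∃ v ∈ V, IsConj u (s * v)
  form : ∀ u u', u * u = 1 → u ≠ 1 → u' * u' = 1 → u' ≠ 1 →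
    Nat.card V * Nat.card G * y u * y u' = 3 * fcl s V u * fcl s V u' *
      Nat.card (centralizer ({u} : Set G)) * Nat.card (centralizer ({u'} : Set G)) * d * (d + 1)
  deg : d = 3 * b + 3 * γ + 1
  ge : 2 * γ ≤ e
  sumV : ∑ᶠ v : V, y v = 3 * Nat.card V * b
  sumS : ∑ᶠ v : V, y (s * v) = Nat.card V * (3 * b + e)
  lo : ∀ v ∈ V, 2 * b + e ≤ y (s * v)
  hi : ∀ v ∈ V, y (s * v) ≤ 4 * b + e

/-- The configuration `|V| = 2`, `V = ⟨t⟩`, `t ~ s`, with the character-theoretic output. -/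
structure C2 {G : Type u} [Group G] (x s t : G) : Prop extends Ctx x s (zpowers t) where
  t1 : t ≠ 1
  ts : IsConj t s
  cls : ∀ u : G, u * u = 1 → u ≠ 1 → IsConj u t ∨ IsConj u (s * t)
  one : IsConj t (s * t) → Nat.card G ≤ 14 * Nat.card (centralizer ({t} : Set G)) ^ 2
  lo : ¬ IsConj t (s * t) →
    2 * Nat.card (centralizer ({t} : Set G)) ≤ 3 * Nat.card (centralizer ({s * t} : Set G))
  hi : ¬ IsConj t (s * t) →
    3 * Nat.card (centralizer ({s * t} : Set G)) ≤ 4 * Nat.card (centralizer ({t} : Set G))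

/-- `B` is an `x`-invariant `3'`-group on which `x` acts without fixed points modulo `D`. -/
structure Fpf {G : Type*} [Group G] (x : G) (B D : Subgroup G) : Prop where
  cube : x ^ 3 = 1
  ne : x ≠ 1
  inv : Inv x B
  le : D ≤ B
  nD : ∀ b ∈ B, ∀ d ∈ D, b * d * b⁻¹ ∈ D
  xD : ∀ d ∈ D, x * d * x⁻¹ ∈ D
  fix : ∀ b ∈ B, Commute x b → b ∈ D

end Cfsg.Agent.L0.C12
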