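import Mathlib
import Cfsg.Agent.L0.T3Def

/-!
# Basic facts on `T3`, `Ctx` and `Fpf`
-/

set_option autoImplicit false

namespace Cfsg.Agent.L0.C12

open Subgroup Cfsg.Agent.L0.SC3 Cfsg.Agent.H9 Cfsg.Agent.H1.T3
open scoped commutatorElement Pointwise

universe u

section
variable {G : Type*} [Group G]

/-- Elements of order three in a coset of a subgroup of order prime to three. -/
theorem conj_of_coset {E : Subgroup G} [Finite G] (hE : ∀ b ∈ E, b ^ 3 = 1 → b = 1) {b y : G}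
    (hb : ∀ e ∈ E, b * e * b⁻¹ ∈ E) (b3 : b ^ 3 = 1) (y3 : y ^ 3 = 1) (h : y * b⁻¹ ∈ E) :
    ∃ f ∈ E, y = f * b * f⁻¹ := by
  classical
  have := Fact.mk Nat.prime_three
  have := Fintype.ofFinite E
  have hE' := not_dvd_card_iff.2 hE
  let σ : Function.End E := fun f => ⟨y * f * b⁻¹, by
    simpa [mul_assoc] using mul_mem h (hb f f.2)⟩
  have h1 := Equiv.Perm.card_fixedPoints_modEq (f := σ) (p := 3) (n := 1) (funext fun f =>
    Subtype.ext (by
      change y * (y * (y * f * b⁻¹) * b⁻¹) * b⁻¹ = f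
      calc _ = y ^ 3 * f * (b ^ 3)⁻¹ := by
            simp only [pow_succ, pow_zero, one_mul, mul_inv_rev, mul_assoc]
        _ = _ := by rw [y3, b3]; simp))
  obtain ⟨f, hf⟩ : Nonempty σ.fixedPoints := Fintype.card_pos_iff.mp (Nat.pos_of_ne_zero
    fun e => hE' (by rwa [e, Nat.modEq_zero_iff_dvd, ← Nat.card_eq_fintype_card] at h1))
  have h2 : y * f * b⁻¹ = f := congrArg Subtype.val hf
  exact ⟨f, f.2, by rw [← h2, inv_mul_cancel_right, h2, mul_inv_cancel_right]⟩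

namespace T3

variable {x : G} (h : T3 x)
include h

theorem orderOf_eq : orderOf x = 3 := orderOf_three h.cube h.ne

theorem mul_self : x * x = x⁻¹ := mul_self_of_cube h.cube

theorem ne_inv : x ≠ x⁻¹ := fun e => h.ne (two_ne_three h.cube (by nth_rw 2 [e]; simp))

theorem inv : T3 x⁻¹ where
  ne := inv_ne_one.mpr h.ne
  cube := by rw [inv_pow, h.cube, inv_one]
  five := h.five
  ab := fun a b ha hb => h.ab a b (by simpa using ha.inv_left) (by simpa using hb.inv_left)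
  six := fun a ha => h.six a (by simpa using ha.inv_left)
  dvd := by
    have : centralizer ({x⁻¹} : Set G) = centralizer {x} := by
      ext g
      rw [SC3.mem_cent, SC3.mem_cent, Commute.inv_right_iff]
    rw [this]; exact h.dvd

omit h in
theorem commute_conj {g k : G} (hk : Commute (g * x * g⁻¹) k) : Commute x (g⁻¹ * k * g) := by
  have e := hk.eq
  change x * (g⁻¹ * k * g) = g⁻¹ * k * g * x
  calc x * (g⁻¹ * k * g) = g⁻¹ * (g * x * g⁻¹ * k) * g := by group
    _ = _ := by rw [e]; group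

theorem conj (g : G) : T3 (g * x * g⁻¹) where
  ne := by simpa using h.ne
  cube := by rw [conj_pow, h.cube]; simp
  five := h.five
  ab := fun a b ha hb => by
    have := (h.ab _ _ (commute_conj ha) (commute_conj hb)).conj g
    simpa [mul_assoc] using this
  six := fun a ha => by
    have := h.six _ (commute_conj ha)
    rw [show g⁻¹ * a * g = g⁻¹ * a * g⁻¹⁻¹ by simp, conj_pow] at this
    calc a ^ 6 = g * (g⁻¹ * a ^ 6 * g⁻¹⁻¹) * g⁻¹ := by group
      _ = 1 := by rw [this]; group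
  dvd := by rw [← card_cent_conj (isConj_mk g x)]; exact h.dvd

variable [Finite G]

theorem sub {L : Subgroup G} (hx : x ∈ L) : T3 (⟨x, hx⟩ : L) where
  ne := fun e => h.ne (congrArg Subtype.val e)
  cube := Subtype.ext h.cube
  five := fun e => h.five (e.trans L.card_subgroup_dvd_card)
  ab := fun a b ha hb => Subtype.ext
    (h.ab a b (congrArg Subtype.val ha) (congrArg Subtype.val hb))
  six := fun a ha => Subtype.ext (h.six a (congrArg Subtype.val ha))
  dvd := by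
    refine dvd_trans ?_ h.dvd
    rw [← card_map_of_injective (f := L.subtype) Subtype.val_injective]
    refine card_dvd_of_le ?_
    rintro _ ⟨a, ha, rfl⟩
    rw [SetLike.mem_coe, SC3.mem_cent] at ha
    exact SC3.mem_cent.2 (congrArg Subtype.val ha)

theorem cent3 {g : G} (hg : Commute x g) (h3 : g ^ 3 = 1) : g = 1 ∨ g = x ∨ g = x⁻¹ := by
  by_cases g1 : g = 1
  · exact Or.inl g1
  obtain ⟨l, hl, e⟩ := exists_conj_three (L := centralizer {x}) (SC3.mem_cent.2 (Commute.refl x))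
    (SC3.mem_cent.2 hg.symm) h.cube h.ne h3 g1 (fun e => by have := e.trans h.dvd; omega)
  rw [(SC3.mem_cent.1 hl).eq, mul_inv_cancel_right] at e
  exact Or.inr (e.imp Eq.symm fun e => by rw [e, inv_inv])

theorem cent {g : G} (hg : Commute x g) :
    ∃ v, Commute x v ∧ v * v = 1 ∧ (g = v ∨ g = v * x ∨ g = v * x⁻¹) := by
  have h6 := h.six g hg
  have e : g = g ^ 3 * g ^ 4 := by rw [← pow_add, pow_succ, h6, one_mul]
  refine ⟨g ^ 3, hg.pow_right 3, by rw [← pow_add, h6], ?_⟩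
  rcases h.cent3 (hg.pow_right 4) (by rw [← pow_mul, show 4 * 3 = 6 * 2 from rfl, pow_mul, h6,
    one_pow]) with e' | e' | e' <;> rw [e'] at e
  · exact Or.inl (by simpa using e)
  · exact Or.inr (Or.inl e)
  · exact Or.inr (Or.inr e)

/-- A `3'`-element commuting with `x` is an involution or trivial. -/
theorem sq_of_commute {B : Subgroup G} (hB : ∀ b ∈ B, b ^ 3 = 1 → b = 1) {g : G} (hgB : g ∈ B)
    (hg : Commute x g) : g * g = 1 :=
  hB _ (mul_mem hgB hgB) (by rw [← pow_two, ← pow_mul]; exact h.six g hg)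

theorem eq_zpowers_of_le {P : Subgroup G} (hP : IsPGroup 3 P) (hx : x ∈ P) : P = zpowers x := by
  have : Fact (Nat.Prime 3) := ⟨Nat.prime_three⟩
  have : Nontrivial P := ⟨⟨⟨x, hx⟩, 1, fun e => h.ne (congrArg Subtype.val e)⟩⟩
  have := hP.center_nontrivial
  have key : ∀ g ∈ P, Commute x g → g = 1 ∨ g = x ∨ g = x⁻¹ := fun g hg hc => by
    refine h.cent3 hc ?_
    obtain ⟨k, hk⟩ := hP ⟨g, hg⟩
    have hk' : g ^ 3 ^ k = 1 := congrArg Subtype.val hk
    have h1 := orderOf_dvd_of_pow_eq_one hk'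
    have h2 := orderOf_dvd_of_pow_eq_one (h.six g hc)
    exact orderOf_dvd_iff_pow_eq_one.1 ((Nat.Coprime.coprime_dvd_left h1
      (Nat.Coprime.pow_left k (by norm_num : Nat.Coprime 3 2))).dvd_of_dvd_mul_left
      (by simpa using h2))
  obtain ⟨⟨c, hc⟩, hc1⟩ := exists_ne (1 : center P)
  rw [mem_center_iff] at hc
  have h1 : ∀ g ∈ P, Commute g c := fun g hg => congrArg Subtype.val (hc ⟨g, hg⟩)
  have h2 : ∀ g ∈ P, Commute x g := by
    intro g hg
    rcases key c c.2 (h1 x hx) with e | e | e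
    · exact absurd (Subtype.ext (Subtype.ext e)) hc1
    · exact e ▸ (h1 g hg).symm
    · simpa using (e ▸ (h1 g hg).symm : Commute x⁻¹ g).inv_left
  exact le_antisymm (fun g hg => (mem_zpowers_three h.cube).2 (key g hg (h2 g hg)))
    (zpowers_le_of_mem hx)

theorem not_nine : ¬ 9 ∣ Nat.card G := by
  have : Fact (Nat.Prime 3) := ⟨Nat.prime_three⟩
  have hp : IsPGroup 3 (zpowers x) :=
    IsPGroup.of_card (n := 1) (by rw [Nat.card_zpowers, h.orderOf_eq]; rfl)
  obtain ⟨P, hP⟩ := hp.exists_le_sylow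
  have h1 := P.not_dvd_index
  rw [h.eq_zpowers_of_le P.2 (hP (mem_zpowers x))] at h1
  intro e
  rw [← (zpowers x).card_mul_index, Nat.card_zpowers, h.orderOf_eq] at e
  exact h1 (Nat.dvd_of_mul_dvd_mul_left (by norm_num : 0 < 3) e)

theorem not_nine' (L : Subgroup G) : ¬ 9 ∣ Nat.card L :=
  fun e => h.not_nine (e.trans L.card_subgroup_dvd_card)

theorem not_five' (L : Subgroup G) : ¬ 5 ∣ Nat.card L :=
  fun e => h.five (e.trans L.card_subgroup_dvd_card)

/-- Sylow's theorem for `⟨x⟩` in a subgroup. -/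
theorem exists_conj {L : Subgroup G} (hx : x ∈ L) {y : G} (hyL : y ∈ L) (hy : y ≠ 1)
    (hy3 : y ^ 3 = 1) : ∃ l ∈ L, y = l * x * l⁻¹ ∨ y = l * x⁻¹ * l⁻¹ := by
  obtain ⟨l, hl, e⟩ := exists_conj_three hx hyL h.cube h.ne hy3 hy (h.not_nine' L)
  exact ⟨l, hl, e.imp Eq.symm fun e => by rw [← inv_inv y, ← e]; group⟩

theorem of_cube {y : G} (hy : y ≠ 1) (hy3 : y ^ 3 = 1) : T3 y := by
  obtain ⟨l, -, rfl | rfl⟩ := h.exists_conj (mem_top x) (mem_top y) hy hy3
  exacts [h.conj l, h.inv.conj l]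

/-- A subgroup normalised by `L ∋ x` with an element of order three contains `x`. -/
theorem mem_of_normal {L N : Subgroup G} (hx : x ∈ L) (hN : N ≤ L)
    (hn : ∀ l ∈ L, ∀ n ∈ N, l * n * l⁻¹ ∈ N) {y : G} (hy : y ∈ N) (hy1 : y ≠ 1)
    (hy3 : y ^ 3 = 1) : x ∈ N := by
  obtain ⟨l, hl, e | e⟩ := h.exists_conj hx (hN hy) hy1 hy3
  · simpa [e, mul_assoc] using hn _ (inv_mem hl) _ hy
  · simpa [e, mul_assoc] using hn _ (inv_mem hl) _ hy

theorem cube_of_normal {L N : Subgroup G} (hx : x ∈ L) (hN : N ≤ L)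
    (hn : ∀ l ∈ L, ∀ n ∈ N, l * n * l⁻¹ ∈ N) (hxN : x ∉ N) : ∀ b ∈ N, b ^ 3 = 1 → b = 1 :=
  fun _ hb h3 => by_contra fun e => hxN (h.mem_of_normal hx hN hn hb e h3)

end T3

theorem Str.map {L : Subgroup G} {y : L} (h : Str y ⊤) : Str (y : G) L := by
  rcases h with ⟨K, c⟩ | ⟨K, M, c⟩
  · exact Or.inl ⟨_, c.toCore.map, fun g hg h1 h2 =>
      ⟨⟨g, hg⟩, c.cen ⟨g, hg⟩ trivial (Subtype.ext h1) (Subtype.ext h2), rfl⟩⟩
  refine Or.inr ⟨K.map L.subtype, M.map L.subtype, map_mono c.le, map_subtype_le _, ?_, ?_, ?_,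
    ⟨y, c.mem, rfl⟩, ?_, fun g hg => ?_, fun N hN hn hx n hnN => ?_⟩
  · rintro l hl _ ⟨r, hr, rfl⟩
    exact ⟨_, c.nK ⟨l, hl⟩ trivial r hr, rfl⟩
  · rintro l hl _ ⟨r, hr, rfl⟩
    exact ⟨_, c.nM ⟨l, hl⟩ trivial r hr, rfl⟩
  · rintro _ ⟨r, hr, rfl⟩ h3
    exact congrArg Subtype.val (c.cube r hr (Subtype.ext h3))
  · have key : ∀ (S : Type) [Group S], Quo S K M →
        Quo S (K.map L.subtype) (M.map L.subtype) := fun S _ ⟨π, hπ, hk⟩ => by
      let e := M.equivMapOfInjective L.subtype Subtype.val_injective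
      refine ⟨π.comp e.symm.toMonoidHom, hπ.comp e.symm.surjective, fun g => ?_⟩
      obtain ⟨g, rfl⟩ := e.surjective g
      simp only [MulEquiv.toMonoidHom_eq_coe, MonoidHom.coe_comp, MonoidHom.coe_coe,
        Function.comp_apply, MulEquiv.symm_apply_apply, hk]
      exact ⟨fun hg => ⟨_, hg, rfl⟩, fun ⟨a, ha, e'⟩ => by
        rwa [show a = g from Subtype.ext e'] at ha⟩
    exact c.quo.imp (key _) (key _)
  · obtain ⟨m, hm, k, -, h1, h2, e⟩ := c.fra ⟨g, hg⟩ trivial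
    exact ⟨m, ⟨m, hm, rfl⟩, k, k.2, congrArg Subtype.val h1, congrArg Subtype.val h2,
      congrArg Subtype.val e⟩
  · exact ⟨⟨n, hN hnN⟩, c.max (N.subgroupOf L) le_top (fun l _ n hn' => hn l l.2 n hn') hx hnN,
      rfl⟩

end

namespace Ctx

variable {G : Type u} [Group G] {x s : G} {V : Subgroup G} (c : Ctx x s V)
include c

theorem sq {v : G} (hv : v ∈ V) : v * v = 1 := ((c.memV v).1 hv).2

theorem cx {v : G} (hv : v ∈ V) : Commute x v := ((c.memV v).1 hv).1

theorem comm {v w : G} (hv : v ∈ V) (hw : w ∈ V) : Commute v w :=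
  c.t3.ab v w (c.cx hv) (c.cx hw)

theorem s_ne : s ≠ 1 := fun e => c.t3.ne_inv (by simpa [e] using c.sx)

theorem s_notMem : s ∉ V := fun e =>
  c.t3.ne_inv (by rw [← c.sx, ← (c.cx e).eq, mul_inv_cancel_right])

/-- Replacing `s` by `s v`. -/
theorem shift {v : G} (hv : v ∈ V) : Ctx x (s * v) V where
  t3 := c.t3
  simple := c.simple
  nab := c.nab
  ih := c.ih
  sx := by rw [mul_assoc s, ← (c.cx hv).eq, ← c.sx]; group
  ss := by rw [mul_assoc, ← mul_assoc v, ← (c.sV v hv).eq, mul_assoc, c.sq hv, mul_one, c.ss]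
  memV := c.memV
  sV := fun w hw => (c.sV w hw).mul_left (c.comm hv hw)

theorem inv : Ctx x⁻¹ s V where
  t3 := c.t3.inv
  simple := c.simple
  nab := c.nab
  ih := c.ih
  sx := by rw [← conj_inv, c.sx]
  ss := c.ss
  memV := fun g => by rw [c.memV, Commute.inv_left_iff]
  sV := c.sV

theorem conj (g : G) : Ctx (g * x * g⁻¹) (g * s * g⁻¹) (MulAut.conj g • V) where
  t3 := c.t3.conj g
  simple := c.simple
  nab := c.nab
  ih := c.ih
  sx := by rw [show g * s * g⁻¹ * (g * x * g⁻¹) * (g * s * g⁻¹)⁻¹ = g * (s * x * s⁻¹) * g⁻¹ by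
    group, c.sx]; group
  ss := by rw [show g * s * g⁻¹ * (g * s * g⁻¹) = g * (s * s) * g⁻¹ by group, c.ss]; group
  memV := fun k => by
    rw [mem_conj_smul_iff, c.memV]
    refine and_congr ⟨fun e => ?_, T3.commute_conj⟩ ⟨fun e => ?_, fun e => ?_⟩
    · simpa [mul_assoc] using e.conj g
    · calc k * k = g * (g⁻¹ * k * g * (g⁻¹ * k * g)) * g⁻¹ := by group
        _ = 1 := by rw [e]; group
    · calc _ = g⁻¹ * (k * k) * g := by group
        _ = 1 := by rw [e]; group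
  sV := fun v hv => by
    simpa [mul_assoc] using (c.sV _ (mem_conj_smul_iff.1 hv)).conj g

theorem eq_top_of_idx2 {N : Subgroup G} (h : Idx2 N ⊤) : N = ⊤ := by
  have := c.simple
  have hN : N.Normal := ⟨fun a ha g => (h.conj trivial trivial).2 ha⟩
  refine hN.eq_bot_or_eq_top.resolve_left fun e => c.t3.ne ?_
  simpa [e] using h.cube (mem_top x) c.t3.cube

theorem normalizer_ne_top {D : Subgroup G} (h1 : D ≠ ⊥) (h2 : D ≠ ⊤) :
    normalizer (D : Set G) ≠ ⊤ := fun e => by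
  have := c.simple
  exact (normalizer_eq_top_iff.1 e).eq_bot_or_eq_top.elim h1 h2

theorem normalizer_ne_top' {D : Subgroup G} (h1 : D ≠ ⊥) (h2 : ∀ b ∈ D, b ^ 3 = 1 → b = 1) :
    normalizer (D : Set G) ≠ ⊤ :=
  c.normalizer_ne_top h1 fun e => c.t3.ne (h2 x (e ▸ mem_top x) c.t3.cube)

theorem centralizer_ne_top {u : G} (h1 : u ≠ 1) : centralizer ({u} : Set G) ≠ ⊤ := fun e => by
  have := c.simple
  have hu : u ∈ center G := mem_center_iff.2 fun g => SC3.mem_cent.1 (e ▸ mem_top g)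
  rcases (inferInstance : (center G).Normal).eq_bot_or_eq_top with e' | e'
  · exact h1 (by simpa [e'] using hu)
  · obtain ⟨a, b, hab⟩ := c.nab
    exact hab (mem_center_iff.1 (e' ▸ mem_top b) a)

variable [Finite G]

theorem cent {g : G} (hg : Commute x g) : ∃ v ∈ V, g = v ∨ g = v * x ∨ g = v * x⁻¹ := by
  obtain ⟨v, h1, h2, e⟩ := c.t3.cent hg
  exact ⟨v, (c.memV v).2 ⟨h1, h2⟩, e⟩

theorem mem_of_commute {B : Subgroup G} (hB : ∀ b ∈ B, b ^ 3 = 1 → b = 1) {g : G} (hgB : g ∈ B)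
    (hg : Commute x g) : g ∈ V :=
  (c.memV g).2 ⟨hg, c.t3.sq_of_commute hB hgB hg⟩

theorem inverts {g : G} (hg : g * x * g⁻¹ = x⁻¹) :
    ∃ v ∈ V, g = s * v ∨ g = s * v * x ∨ g = s * v * x⁻¹ := by
  have s1 : s⁻¹ = s := inv_eq_of_mul_eq_one_right c.ss
  obtain ⟨v, hv, e⟩ := c.cent (g := s * g) (by
    change x * (s * g) = s * g * x
    have e1 : g * x = x⁻¹ * g := by rw [← hg]; group
    have e2 : s * x⁻¹ = x * s := by
      calc s * x⁻¹ = (s * x * s⁻¹)⁻¹ * s := by group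
        _ = _ := by rw [c.sx, inv_inv]
    rw [mul_assoc, e1, ← mul_assoc, ← mul_assoc, e2])
  refine ⟨v, hv, ?_⟩
  have : g = s * (s * g) := by rw [← mul_assoc, c.ss, one_mul]
  rcases e with e | e | e <;> rw [e] at this <;> simp [this, mul_assoc]

/-- Every element inverting `x` is an involution. -/
theorem sq_of_inverts {g : G} (hg : g * x * g⁻¹ = x⁻¹) : g * g = 1 := by
  obtain ⟨v, hv, e⟩ := c.inverts hg
  have c' := c.shift hv
  have s1 : (s * v)⁻¹ = s * v := inv_eq_of_mul_eq_one_right c'.ss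
  have e1 := c'.sx
  have e2 := c'.inv.sx
  rw [s1] at e1 e2
  rcases e with rfl | rfl | rfl
  · exact c'.ss
  · rw [← mul_assoc, e1, inv_mul_cancel]
  · rw [← mul_assoc, e2, inv_mul_cancel]

/-- An element inverting `x` is conjugate under `⟨x⟩` to an element of `sV`. -/
theorem isConj_of_inverts {g : G} (hg : g * x * g⁻¹ = x⁻¹) :
    ∃ v ∈ V, ∃ k ∈ zpowers x, g = k * (s * v) * k⁻¹ := by
  obtain ⟨v, hv, e⟩ := c.inverts hg
  have c' := c.shift hv
  have e1 : s * v * x = x⁻¹ * (s * v) := by rw [← c'.sx]; group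
  have e2 : s * v * x⁻¹ = x * (s * v) := by
    have := c'.inv.sx
    rw [inv_inv] at this
    nth_rw 2 [← this]; group
  refine ⟨v, hv, ?_⟩
  rcases e with rfl | rfl | rfl
  · exact ⟨1, one_mem _, by simp⟩
  · refine ⟨x, mem_zpowers x, ?_⟩
    rw [mul_assoc x, e2, ← mul_assoc, c.t3.mul_self, e1]
  · refine ⟨x⁻¹, inv_mem (mem_zpowers x), ?_⟩
    rw [inv_inv, mul_assoc x⁻¹, e1, ← mul_assoc, inv_mul_inv_of_cube c.t3.cube, e2]

theorem comm_of_norm {g v : G} (hg : g * x * g⁻¹ = x ∨ g * x * g⁻¹ = x⁻¹) (hv : v ∈ V) :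
    Commute g v := by
  rcases hg with hg | hg
  · exact c.t3.ab _ _ (conj_eq_iff.1 hg).symm (c.cx hv)
  · have h1 := (c.cx hv)
    obtain ⟨w, hw, rfl | rfl | rfl⟩ := c.inverts hg
    · exact (c.shift hw).sV v hv
    · exact ((c.shift hw).sV v hv).mul_left h1
    · exact ((c.shift hw).sV v hv).mul_left h1.inv_left

/-- Distinct elements of `V` are not conjugate. -/
theorem eq_of_isConj {v w : G} (hv : v ∈ V) (hw : w ∈ V) (h : IsConj v w) : v = w := by
  obtain ⟨g, rfl⟩ := isConj_iff.1 h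
  obtain ⟨l, hl, e⟩ := c.t3.exists_conj (L := centralizer {g * v * g⁻¹})
    (SC3.mem_cent.2 (c.cx hw)) (y := g * x * g⁻¹) (SC3.mem_cent.2 ((c.cx hv).conj g))
    (c.t3.conj g).ne (c.t3.conj g).cube
  have h1 := c.comm_of_norm (g := l⁻¹ * g) (v := v) (e.imp (fun e => ?_) fun e => ?_) hv
  · have h2 := (SC3.mem_cent.1 hl).inv_left.eq
    calc v = l⁻¹ * g * v * (l⁻¹ * g)⁻¹ := by rw [h1.eq]; group
      _ = l⁻¹ * (g * v * g⁻¹) * l := by group
      _ = _ := by rw [h2]; group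
  · calc _ = l⁻¹ * (g * x * g⁻¹) * l := by group
      _ = _ := by rw [e]; group
  · calc _ = l⁻¹ * (g * x * g⁻¹) * l := by group
      _ = _ := by rw [e]; group

/-- An involution commuting with an element of order three is conjugate into `V`. -/
theorem isConj_of_commute {u y : G} (hu : u * u = 1) (hy : y ≠ 1) (hy3 : y ^ 3 = 1)
    (h : Commute y u) : ∃ v ∈ V, IsConj u v := by
  obtain ⟨l, -, e⟩ := c.t3.exists_conj (mem_top x) (mem_top y) hy hy3
  refine ⟨l⁻¹ * u * l, (c.memV _).2 ⟨?_, ?_⟩, by simpa using isConj_mk l⁻¹ u⟩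
  · rcases e with rfl | rfl
    · exact T3.commute_conj h
    · exact Commute.inv_left_iff.1 (T3.commute_conj h)
  · calc _ = l⁻¹ * (u * u) * l := by group
      _ = 1 := by rw [hu]; group

/-- Every element of order three carries a configuration. -/
theorem of_cube {y : G} (hy : y ≠ 1) (hy3 : y ^ 3 = 1) :
    ∃ g : G, Ctx y (g * s * g⁻¹) (MulAut.conj g • V) := by
  obtain ⟨l, -, rfl | rfl⟩ := c.t3.exists_conj (mem_top x) (mem_top y) hy hy3
  exacts [⟨l, c.conj l⟩, ⟨l, c.inv.conj l⟩]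

theorem card_V_dvd : Nat.card V ∣ 4 := by
  have := factTwo
  have h1 : Nat.card V ∣ 12 := (card_dvd_of_le fun v hv => SC3.mem_cent.2 (c.cx hv).symm).trans
    c.t3.dvd
  obtain ⟨k, hk⟩ := IsPGroup.iff_card.1 (isPGroup_of_el2 fun v hv => El2.of_sq (c.sq hv))
  rw [hk] at h1 ⊢
  exact (Nat.Coprime.pow_left k (by norm_num : Nat.Coprime 2 3)).dvd_of_dvd_mul_left h1

theorem str_sub {L : Subgroup G} (hL : L ≠ ⊤) (hx : x ∈ L) : Str x L :=
  (c.ih L ⟨x, hx⟩ (by
    have := L.card_mul_index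
    have h1 := index_eq_one.not.2 hL
    have h2 := L.index_ne_zero_of_finite
    have h3 : 0 < Nat.card L := Nat.card_pos
    nlinarith [show 2 ≤ L.index by omega]) (c.t3.sub hx)).map

end Ctx

theorem C2.conj {G : Type u} [Group G] {x s t : G} (c : C2 x s t) (g : G) :
    C2 (g * x * g⁻¹) (g * s * g⁻¹) (g * t * g⁻¹) := by
  have e : g * s * g⁻¹ * (g * t * g⁻¹) = g * (s * t) * g⁻¹ := by group
  have h1 := isConj_mk g t
  have h2 := isConj_mk g (s * t)
  have h3 : IsConj (g * t * g⁻¹) (g * (s * t) * g⁻¹) ↔ IsConj t (s * t) :=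
    ⟨fun h => h1.trans (h.trans h2.symm), fun h => h1.symm.trans (h.trans h2)⟩
  refine ⟨?_, by simpa using c.t1, h1.symm.trans (c.ts.trans (isConj_mk g s)), fun u a b => ?_,
    ?_, ?_, ?_⟩
  · have := c.toCtx.conj g
    rwa [show MulAut.conj g • zpowers t = zpowers (g * t * g⁻¹) from
      MonoidHom.map_zpowers _ _] at this
  · rw [e]
    exact (c.cls u a b).imp (·.trans h1) (·.trans h2)
  all_goals rw [e, h3, ← card_cent_conj h1]
  · exact c.one
  · rw [← card_cent_conj h2]; exact c.lo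
  · rw [← card_cent_conj h2]; exact c.hi

end Cfsg.Agent.L0.C12
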