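import Mathlib
import Cfsg.Agent.L0.C12Basic

/-!
# Fixed point free action of an element of order three modulo a normal subgroup
-/

set_option autoImplicit false

namespace Cfsg.Agent.L0.C12

open Subgroup Cfsg.Agent.L0.SC3 Cfsg.Agent.H9 Cfsg.Agent.H1.T3
open scoped commutatorElement Pointwise

variable {G : Type*} [Group G]

theorem mem_normalizer_of_conj [Finite G] {B : Subgroup G} {g : G}
    (h : ∀ b ∈ B, g * b * g⁻¹ ∈ B) : g ∈ normalizer (B : Set G) :=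
  mem_normalizer_fintype h

theorem conj_mem_of_mem_normalizer {B : Subgroup G} {g b : G} (h : g ∈ normalizer (B : Set G))
    (hb : b ∈ B) : g * b * g⁻¹ ∈ B := (mem_normalizer_iff.1 h b).1 hb

/-- The subgroup `B ⟨x⟩`. -/
def ext3 {x : G} (h3 : x ^ 3 = 1) {B : Subgroup G} (hB : ∀ b ∈ B, x * b * x⁻¹ ∈ B) :
    Subgroup G where
  carrier := {g | ∃ b ∈ B, ∃ i : ℕ, g = b * x ^ i}
  one_mem' := ⟨1, one_mem _, 0, by simp⟩
  mul_mem' := by
    have key : ∀ i : ℕ, ∀ b ∈ B, x ^ i * b * (x ^ i)⁻¹ ∈ B := fun i => by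
      induction i with
      | zero => simp
      | succ i ih => intro b hb; convert hB _ (ih b hb) using 1; rw [pow_succ']; group
    rintro _ _ ⟨a, ha, i, rfl⟩ ⟨b, hb, j, rfl⟩
    exact ⟨_, mul_mem ha (key i b hb), i + j, by group⟩
  inv_mem' := by
    rintro _ ⟨a, ha, i, rfl⟩
    have key : ∀ i : ℕ, ∀ b ∈ B, x ^ i * b * (x ^ i)⁻¹ ∈ B := fun i => by
      induction i with
      | zero => simp
      | succ i ih => intro b hb; convert hB _ (ih b hb) using 1; rw [pow_succ']; group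
    have e : (x ^ i)⁻¹ = x ^ (2 * i) := by
      rw [inv_eq_iff_mul_eq_one, ← pow_add, show i + 2 * i = 3 * i by ring, pow_mul, h3, one_pow]
    exact ⟨_, key (2 * i) _ (inv_mem ha), 2 * i, by rw [mul_inv_rev, e]; group⟩

namespace Fpf

variable {x : G} {B D : Subgroup G} (f : Fpf x B D)
include f

theorem conj' {b : G} (hb : b ∈ B) : x⁻¹ * b * x ∈ B := by
  have := f.inv.conj _ (f.inv.conj _ hb)
  rwa [show x * (x * b * x⁻¹) * x⁻¹ = (x * x) * b * (x * x)⁻¹ by group, mul_self_of_cube f.cube,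
    inv_inv] at this

theorem xD' {b : G} (hb : b ∈ D) : x⁻¹ * b * x ∈ D := by
  have := f.xD _ (f.xD _ hb)
  rwa [show x * (x * b * x⁻¹) * x⁻¹ = (x * x) * b * (x * x)⁻¹ by group, mul_self_of_cube f.cube,
    inv_inv] at this

theorem mono {B' : Subgroup G} (h1 : D ≤ B') (h2 : B' ≤ B) (h3 : ∀ b ∈ B', x * b * x⁻¹ ∈ B') :
    Fpf x B' D :=
  ⟨f.cube, f.ne, ⟨h3, fun b hb => f.inv.cube b (h2 hb)⟩, h1, fun b hb => f.nD b (h2 hb), f.xD,
    fun b hb => f.fix b (h2 hb)⟩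

theorem mono' {D' : Subgroup G} (h1 : D ≤ D') (h2 : D' ≤ B)
    (h3 : ∀ b ∈ B, ∀ d ∈ D', b * d * b⁻¹ ∈ D') (h4 : ∀ d ∈ D', x * d * x⁻¹ ∈ D') : Fpf x B D' :=
  ⟨f.cube, f.ne, f.inv, h2, h3, h4, fun b hb hc => h1 (f.fix b hb hc)⟩

theorem symm : Fpf x⁻¹ B D :=
  ⟨by rw [inv_pow, f.cube, inv_one], inv_ne_one.2 f.ne,
    ⟨fun b hb => by simpa using f.conj' hb, f.inv.cube⟩, f.le, f.nD,
    fun b hb => by simpa using f.xD' hb, fun b hb hc => f.fix b hb (Commute.inv_left_iff.1 hc)⟩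

variable [Finite G]

/-- Fixed points modulo `D`. -/
theorem fix' {b : G} (hb : b ∈ B) (h : b * x * b⁻¹ * x⁻¹ ∈ D) : b ∈ D := by
  obtain ⟨d, hd, e⟩ := conj_of_coset (fun b hb => f.inv.cube b (f.le hb)) f.xD f.cube
    (by rw [conj_pow, f.cube]; simp) h
  have := f.fix (d⁻¹ * b) (mul_mem (inv_mem (f.le hd)) hb) (by
    change x * (d⁻¹ * b) = d⁻¹ * b * x
    calc _ = d⁻¹ * (d * x * d⁻¹) * b := by group
      _ = _ := by rw [← e]; group)
  simpa using mul_mem hd this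

theorem fix'' {b : G} (hb : b ∈ B) (h : x * b * x⁻¹ * b⁻¹ ∈ D) : b ∈ D :=
  f.fix' hb (by simpa [mul_assoc] using inv_mem h)

theorem quot : ∃ (L : Subgroup G) (hx : x ∈ L) (_ : B ≤ L) (_ : (D.subgroupOf L).Normal)
    (B' : Subgroup (L ⧸ D.subgroupOf L)), SC (QuotientGroup.mk' (D.subgroupOf L) ⟨x, hx⟩) ∧
    Inv (QuotientGroup.mk' (D.subgroupOf L) ⟨x, hx⟩) B' ∧
    (∀ g : L, QuotientGroup.mk' (D.subgroupOf L) g = 1 ↔ (g : G) ∈ D) ∧
    (∀ g : L, QuotientGroup.mk' (D.subgroupOf L) g ∈ B' ↔ (g : G) ∈ B) := by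
  let L := ext3 f.cube f.inv.conj
  have hx : x ∈ L := ⟨1, one_mem _, 1, by simp⟩
  have hB : B ≤ L := fun b hb => ⟨b, hb, 0, by simp⟩
  have hn : L ≤ normalizer (D : Set G) := by
    rintro _ ⟨b, hb, i, rfl⟩
    exact mul_mem (mem_normalizer_of_conj (f.nD b hb)) (pow_mem (mem_normalizer_of_conj f.xD) i)
  have hN := normal_subgroupOf hn
  have hk : ∀ g : L, QuotientGroup.mk' (D.subgroupOf L) g = 1 ↔ (g : G) ∈ D := fun g =>
    QuotientGroup.eq_one_iff g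
  have hm : ∀ g : L, QuotientGroup.mk' (D.subgroupOf L) g ∈ (B.subgroupOf L).map
      (QuotientGroup.mk' (D.subgroupOf L)) ↔ (g : G) ∈ B := fun g => by
    refine ⟨fun ⟨a, ha, e⟩ => ?_, fun hg => ⟨g, hg, rfl⟩⟩
    have := f.le ((hk (a⁻¹ * g)).1 (by rw [map_mul, map_inv, e, inv_mul_cancel]))
    simpa using mul_mem (show (a : G) ∈ B from ha) this
  have xB : x ∉ B := fun e => f.ne (f.inv.cube x e f.cube)
  refine ⟨L, hx, hB, hN, _, sc_quot _ (QuotientGroup.mk'_surjective _) hk hx f.cube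
    (fun e => xB (f.le e)) ?_, ⟨?_, ?_⟩, hk, hm⟩
  · rintro _ ⟨b, hb, i, rfl⟩ h
    have hb' : b ∈ D := f.fix' hb (by convert h using 1; group)
    rcases (mem_zpowers_three f.cube).1 (pow_mem (mem_zpowers x) i) with e | e | e <;>
      simp [e, hb']
  · rintro _ ⟨a, ha, rfl⟩
    rw [← map_inv, ← map_mul, ← map_mul, hm]
    exact f.inv.conj _ ha
  · rintro _ ⟨a, ha, rfl⟩ h3
    rw [← map_pow, hk] at h3
    rw [hk]
    have h1 : (orderOf (a : G)).Coprime 3 := by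
      refine ((Nat.Prime.coprime_iff_not_dvd Nat.prime_three).2 fun e => ?_).symm
      exact not_dvd_card_iff.2 f.inv.cube (e.trans (B.orderOf_dvd_natCard ha))
    obtain ⟨k, hk'⟩ := exists_pow_eq_self_of_coprime h1.symm
    rw [← hk']
    exact pow_mem h3 k

theorem surj {b : G} (hb : b ∈ B) : ∃ w ∈ B, w * x * w⁻¹ * x⁻¹ * b⁻¹ ∈ D := by
  obtain ⟨L, hx, hB, _, B', h, hi, hk, hm⟩ := f.quot
  obtain ⟨w, hw, e⟩ := h.surj hi ((hm ⟨b, hB hb⟩).2 hb)
  obtain ⟨w, rfl⟩ := QuotientGroup.mk'_surjective _ w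
  refine ⟨w, (hm w).1 hw, (hk (w * ⟨x, hx⟩ * w⁻¹ * ⟨x, hx⟩⁻¹ * ⟨b, hB hb⟩⁻¹)).1 ?_⟩
  simp only [map_mul, map_inv, e]
  group

theorem norm {b : G} (hb : b ∈ B) : b * (x * b * x⁻¹) * (x⁻¹ * b * x) ∈ D := by
  obtain ⟨L, hx, hB, _, B', h, hi, hk, hm⟩ := f.quot
  have := h.norm hi ((hm ⟨b, hB hb⟩).2 hb)
  simp only [← map_inv, ← map_mul, hk] at this
  exact this

theorem comm_self {b : G} (hb : b ∈ B) : ⁅b, x * b * x⁻¹⁆ ∈ D := by
  obtain ⟨L, hx, hB, _, B', h, hi, hk, hm⟩ := f.quot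
  have := commutatorElement_eq_one_iff_commute.2 (h.comm_self hi ((hm ⟨b, hB hb⟩).2 hb))
  simp only [← map_inv, ← map_mul, ← map_commutatorElement, hk] at this
  exact this

theorem class_two {a v w : G} (ha : a ∈ B) (hv : v ∈ B) (hw : w ∈ B) : ⁅a, ⁅v, w⁆⁆ ∈ D := by
  obtain ⟨L, hx, hB, _, B', h, hi, hk, hm⟩ := f.quot
  have := commutatorElement_eq_one_iff_commute.2 (h.class_two hi ((hm ⟨a, hB ha⟩).2 ha)
    ((hm ⟨v, hB hv⟩).2 hv) ((hm ⟨w, hB hw⟩).2 hw))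
  simp only [← map_commutatorElement, hk] at this
  exact this

theorem comm_conj {a u : G} (ha : a ∈ B) (hu : u ∈ B) (hc : ⁅a, u⁆ ∈ D) :
    ⁅a, x * u * x⁻¹⁆ ∈ D := by
  obtain ⟨L, hx, hB, _, B', h, hi, hk, hm⟩ := f.quot
  have := commutatorElement_eq_one_iff_commute.2 (h.comm_conj hi ((hm ⟨a, hB ha⟩).2 ha)
    ((hm ⟨u, hB hu⟩).2 hu) (commutatorElement_eq_one_iff_commute.1 (by
      rw [← map_commutatorElement, hk]; exact hc)))
  simp only [← map_inv, ← map_mul, ← map_commutatorElement, hk] at this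
  exact this

theorem commute_of_coprime {a b : G} (ha : a ∈ B) (hb : b ∈ B) {m n : ℕ} (hm' : a ^ m ∈ D)
    (hn : b ^ n ∈ D) (hmn : m.Coprime n) : ⁅a, b⁆ ∈ D := by
  obtain ⟨L, hx, hB, _, B', h, hi, hk, hm⟩ := f.quot
  have := commutatorElement_eq_one_iff_commute.2 (h.commute_of_coprime hi ((hm ⟨a, hB ha⟩).2 ha)
    ((hm ⟨b, hB hb⟩).2 hb) (by rw [← map_pow, hk]; exact hm') (by rw [← map_pow, hk]; exact hn)
    hmn)
  simp only [← map_commutatorElement, hk] at this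
  exact this

/-- There is no `x`-invariant subgroup of index two above `D`. -/
theorem le_of_index_two {F : Subgroup G} (hD : D ≤ F) (hF : ∀ b ∈ F, x * b * x⁻¹ ∈ F)
    (h2 : ∀ a ∈ B, ∀ b ∈ B, a ∉ F → b ∉ F → a * b ∈ F) : B ≤ F := by
  intro b hb
  by_contra hbF
  have hF' : ∀ b ∈ F, x⁻¹ * b * x ∈ F := fun b hb => by
    have := hF _ (hF _ hb)
    rwa [show x * (x * b * x⁻¹) * x⁻¹ = (x * x) * b * (x * x)⁻¹ by group, mul_self_of_cube f.cube,
      inv_inv] at this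
  have h1 : x * b * x⁻¹ ∉ F := fun e => hbF (by simpa [mul_assoc] using hF' _ e)
  have h3 : x⁻¹ * b * x ∉ F := fun e => hbF (by simpa [mul_assoc] using hF _ e)
  exact h3 ((mul_mem_cancel_left (h2 _ hb _ (f.inv.conj b hb) hbF h1)).1 (hD (f.norm hb)))

/-- The centralizer modulo `D` of an element of `B`. -/
def cmod (a : G) (ha : a ∈ normalizer (D : Set G)) : Subgroup G where
  carrier := {u | u ∈ B ∧ ⁅a, u⁆ ∈ D}
  one_mem' := ⟨one_mem _, by simp⟩
  mul_mem' := fun {u v} hu hv => ⟨mul_mem hu.1 hv.1, by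
    have := mul_mem hu.2 (f.nD _ hu.1 _ hv.2)
    convert this using 1
    simp only [commutatorElement_def]; group⟩
  inv_mem' := fun {u} hu => ⟨inv_mem hu.1, by
    have := f.nD _ (inv_mem hu.1) _ (inv_mem hu.2)
    convert this using 1
    simp only [commutatorElement_def]; group⟩

/-- An element of `B` centralizing modulo `D` a subgroup of index at most two is central
modulo `D`. -/
theorem central_of_index_two {a : G} (ha : a ∈ B) {F : Subgroup G}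
    (hF : ∀ u ∈ F, u ∈ B → ⁅a, u⁆ ∈ D)
    (h2 : ∀ a ∈ B, ∀ b ∈ B, a ∉ F → b ∉ F → a * b ∈ F) : ∀ u ∈ B, ⁅a, u⁆ ∈ D := fun _ hu =>
  (f.le_of_index_two (F := f.cmod a (mem_normalizer_of_conj (f.nD a ha)))
    (fun d hd => ⟨f.le hd, by
      simpa [commutatorElement_def] using mul_mem (f.nD a ha d hd) (inv_mem hd)⟩)
    (fun b hb => ⟨f.inv.conj b hb.1, f.comm_conj ha hb.1 hb.2⟩)
    (fun u hu v hv h1 h3 => ⟨mul_mem hu hv, hF _ (h2 u hu v hv (fun e => h1 ⟨hu, hF u e hu⟩)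
      fun e => h3 ⟨hv, hF v e hv⟩) (mul_mem hu hv)⟩) hu).2

theorem relIndex_mod : D.relIndex B % 3 = 1 := by
  obtain ⟨L, hx, hB, _, B', h, hi, hk, hm⟩ := f.quot
  have e : Nat.card B' = D.relIndex B := by
    have h1 := card_pre (QuotientGroup.mk' (D.subgroupOf L)) (QuotientGroup.mk'_surjective _)
      (f.le.trans hB) hk B'
    have h2 : pre (QuotientGroup.mk' (D.subgroupOf L)) B' = B := by
      ext g
      exact ⟨fun hg => (hm ⟨g, pre_le _ _ hg⟩).1 ((mem_pre _ (pre_le _ _ hg)).1 hg),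
        fun hg => (mem_pre _ (hB hg)).2 ((hm ⟨g, hB hg⟩).2 hg)⟩
    rw [h2, ← card_mul_relIndex_of_le f.le] at h1
    exact (Nat.eq_of_mul_eq_mul_left Nat.card_pos h1).symm
  rw [← e]
  classical
  have := Fact.mk Nat.prime_three
  have := Fintype.ofFinite B'
  set y := QuotientGroup.mk' (D.subgroupOf L) ⟨x, hx⟩
  let σ : Function.End B' := fun b => ⟨y * b * y⁻¹, hi.conj _ b.2⟩
  have h1 := Equiv.Perm.card_fixedPoints_modEq (f := σ) (p := 3) (n := 1) (funext fun b =>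
    Subtype.ext (by
      change y * (y * (y * b * y⁻¹) * y⁻¹) * y⁻¹ = b
      calc _ = y ^ 3 * b * (y ^ 3)⁻¹ := by
            simp only [pow_succ, pow_zero, one_mul, mul_inv_rev, mul_assoc]
        _ = _ := by rw [h.cube]; simp))
  have h2 : Fintype.card σ.fixedPoints = 1 := Fintype.card_eq_one_iff.2
    ⟨⟨1, Subtype.ext (by simp [σ])⟩, fun b => Subtype.ext (Subtype.ext
      (h.fpf hi b.1.2 (conj_eq_iff.1 (congrArg Subtype.val b.2))))⟩
  rwa [h2, ← Nat.card_eq_fintype_card] at h1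

theorem card (h2 : IsPGroup 2 B) : ∃ j, Nat.card B = Nat.card D * 4 ^ j := by
  have := factTwo
  obtain ⟨k, hk⟩ := IsPGroup.iff_card.1 h2
  have h1 := card_mul_relIndex_of_le f.le
  obtain ⟨i, -, hi⟩ := (Nat.dvd_prime_pow Nat.prime_two).1 (hk ▸ Dvd.intro_left _ h1)
  have h3 := f.relIndex_mod
  rw [hi] at h1 h3
  obtain ⟨j, rfl | rfl⟩ := Nat.even_or_odd' i
  · exact ⟨j, by rw [← h1, pow_mul]; rfl⟩
  · rw [pow_succ, pow_mul, Nat.mul_mod, Nat.pow_mod] at h3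
    simp at h3

/-- The trick: modulo a central involution, an involution commutes with its `x`-conjugate. -/
theorem trick {t : G} (hD : ∀ d ∈ D, d = 1 ∨ d = t) (ht : ∀ b ∈ B, Commute t b) (htt : t * t = 1)
    {u : G} (hu : u ∈ B) (h2 : u * u = 1) : Commute u (x * u * x⁻¹) := by
  have e1 : x * u * x⁻¹ * (x * u * x⁻¹) = 1 := by
    rw [show x * u * x⁻¹ * (x * u * x⁻¹) = x * (u * u) * x⁻¹ by group, h2]; group
  have e2 : x⁻¹ * u * x * (x⁻¹ * u * x) = 1 := by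
    rw [show x⁻¹ * u * x * (x⁻¹ * u * x) = x⁻¹ * (u * u) * x by group, h2]; group
  have e3 : u * (x * u * x⁻¹) * (u * (x * u * x⁻¹)) = 1 := by
    rcases hD _ (f.norm hu) with e | e
    · rw [eq_inv_of_mul_eq_one_left e, ← mul_inv_rev, e2, inv_one]
    · rw [eq_mul_inv_of_mul_eq e, inv_eq_of_mul_eq_one_right e2, mul_assoc, ← mul_assoc _ t,
        ← (ht _ (f.conj' hu)).eq, mul_assoc, e2, mul_one, htt]
  have := inv_eq_of_mul_eq_one_right e3
  rw [mul_inv_rev, inv_eq_of_mul_eq_one_right e1, inv_eq_of_mul_eq_one_right h2] at this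
  exact this.symm

end Fpf

end Cfsg.Agent.L0.C12
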