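import Mathlib
import Cfsg.Agent.L0.C12Fpf

/-!
# The configurations with `|V| = 4`
-/

set_option autoImplicit false

namespace Cfsg.Agent.L0.C12

open Subgroup

universe u

/-- The configuration `|V| = 4` with the character-theoretic output. -/
structure C4 {G : Type u} [Group G] (x s : G) (V : Subgroup G) : Prop extends Ctx x s V where
  card : Nat.card V = 4
  fpos : ∀ u : G, u * u = 1 → u ≠ 1 → ∃ v ∈ V, IsConj u (s * v)
  ratio : ∀ u u' : G, u * u = 1 → u ≠ 1 → u' * u' = 1 → u' ≠ 1 →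
    4 * (fcl s V u * Nat.card (centralizer ({u} : Set G))) ≤
      7 * (fcl s V u' * Nat.card (centralizer ({u'} : Set G)))
  zb : ∀ h : ℕ, (∀ v ∈ V, v ≠ 1 → Nat.card (centralizer ({v} : Set G)) = h) →
    ∀ u : G, u * u = 1 → u ≠ 1 → (∀ v ∈ V, ¬ IsConj u v) →
      2 * h ≤ 3 * Nat.card (centralizer ({u} : Set G)) ∧
        3 * Nat.card (centralizer ({u} : Set G)) ≤ 4 * h

/-- The configuration `|V| = 4` in which the centralizers of the involutions of `V` are
extensions of `2`-groups `T v` by `S₃`, and `s` represents the fourth class. -/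
structure CS {G : Type u} [Group G] (x s : G) (V : Subgroup G) (T : G → Subgroup G) : Prop
    extends Ctx x s V where
  card : Nat.card V = 4
  cls : ∀ u : G, u * u = 1 → u ≠ 1 → IsConj u s ∨ ∃ v ∈ V, IsConj u v
  sz : ∀ v ∈ V, ¬ IsConj s v
  fus : ∀ v ∈ V, v ≠ 1 → ∃ w ∈ V, IsConj v (s * w)
  ti : ∀ v ∈ V, v ≠ 1 → TI x (centralizer {v}) (T v)
  two : ∀ v ∈ V, v ≠ 1 → IsPGroup 2 (T v)
  eq : ∀ v ∈ V, v ≠ 1 → ∀ w ∈ V, w ≠ 1 → Nat.card (T v) = Nat.card (T w)
  lo : ∀ v ∈ V, v ≠ 1 → 4 * Nat.card (T v) ≤ Nat.card (centralizer ({s} : Set G))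
  hi : ∀ v ∈ V, v ≠ 1 → Nat.card (centralizer ({s} : Set G)) ≤ 8 * Nat.card (T v)

/-- The output of the first part of the analysis of `CS`. -/
structure CS' {G : Type u} [Group G] (x s : G) (V : Subgroup G) (T : G → Subgroup G) : Prop
    extends CS x s V T where
  norm : ∀ v ∈ V, v ≠ 1 → normalizer (T v : Set G) = centralizer {v}
  big : ∀ v ∈ V, v ≠ 1 →
    16 * Nat.card (T v ⊓ centralizer (V : Set G) : Subgroup G) ≤ Nat.card (T v)

end Cfsg.Agent.L0.C12
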