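import Mathlib
import Cfsg.Agent.L0.C12Def4

/-!
# Subgroups of type I
-/

set_option autoImplicit false

namespace Cfsg.Agent.L0.C12

open Subgroup Cfsg.Agent.L0.SC3 Cfsg.Agent.H9 Cfsg.Agent.H1.T3
open scoped commutatorElement Pointwise

variable {G : Type*} [Group G]

theorem mem_of_cube_mem [Finite G] {B K : Subgroup G} (hB : ∀ b ∈ B, b ^ 3 = 1 → b = 1) {g : G}
    (hg : g ∈ B) (h : g ^ 3 ∈ K) : g ∈ K := by
  have h1 : (orderOf g).Coprime 3 := by
    refine ((Nat.Prime.coprime_iff_not_dvd Nat.prime_three).2 fun e => ?_).symm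
    exact not_dvd_card_iff.2 hB (e.trans (B.orderOf_dvd_natCard hg))
  obtain ⟨k, hk'⟩ := exists_pow_eq_self_of_coprime h1.symm
  rw [← hk']
  exact pow_mem h k

/-- Membership in `K ⟨s⟩` for an involution `s` normalising `K`. -/
theorem mem_sup_invol {K : Subgroup G} {s g : G} (ss : s * s = 1)
    (hs : ∀ k ∈ K, s * k * s⁻¹ ∈ K) : g ∈ K ⊔ zpowers s ↔ g ∈ K ∨ g * s ∈ K := by
  have s1 : s⁻¹ = s := inv_eq_of_mul_eq_one_right ss
  rw [s1] at hs
  let A : Subgroup G :=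
    { carrier := {g | g ∈ K ∨ g * s ∈ K}
      one_mem' := Or.inl (one_mem _)
      mul_mem' := by
        rintro a b (ha | ha) (hb | hb)
        · exact Or.inl (mul_mem ha hb)
        · exact Or.inr (by rw [mul_assoc]; exact mul_mem ha hb)
        · refine Or.inr ?_
          have := mul_mem ha (hs b hb)
          rwa [show a * s * (s * b * s) = a * (s * s) * b * s by group, ss, mul_one] at this
        · refine Or.inl ?_
          have := mul_mem ha (hs _ hb)
          rwa [show a * s * (s * (b * s) * s) = a * (s * s) * b * (s * s) by group, ss, mul_one,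
            mul_one] at this
      inv_mem' := by
        rintro a (ha | ha)
        · exact Or.inl (inv_mem ha)
        · refine Or.inr ?_
          have := hs _ (inv_mem ha)
          rwa [mul_inv_rev, s1, ← mul_assoc, ss, one_mul] at this }
  refine ⟨fun h => (sup_le (fun k hk => Or.inl hk) (zpowers_le.2 (Or.inr ?_)) : _ ≤ A) h, ?_⟩
  · rw [ss]; exact one_mem _
  · rintro (h | h)
    · exact mem_sup_left h
    · have := mul_mem (mem_sup_left h : _ ∈ K ⊔ zpowers s) (mem_sup_right (mem_zpowers s))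
      rwa [mul_assoc, ss, mul_one] at this

theorem idx2_sup_invol {K : Subgroup G} {s : G} (ss : s * s = 1)
    (hs : ∀ k ∈ K, s * k * s⁻¹ ∈ K) (hK : s ∉ K) : Idx2 K (K ⊔ zpowers s) := by
  have s1 : s⁻¹ = s := inv_eq_of_mul_eq_one_right ss
  refine ⟨le_sup_left, fun a ha b hb => ?_⟩
  rw [mem_sup_invol ss hs] at ha hb
  have key : ∀ a, a * s ∈ K → a ∉ K := fun a h1 h2 => hK ((mul_mem_cancel_left h2).1 h1)
  rcases ha with ha | ha
  · simp [ha, mul_mem_cancel_left]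
  rcases hb with hb | hb
  · simp [hb, mul_mem_cancel_right]
  simp only [key a ha, key b hb, iff_true]
  have := mul_mem ha (hs _ hb)
  rwa [s1, show a * s * (s * (b * s) * s) = a * (s * s) * b * (s * s) by group, ss, mul_one,
    mul_one] at this

theorem card_sup_invol {K : Subgroup G} {s : G} (ss : s * s = 1)
    (hs : ∀ k ∈ K, s * k * s⁻¹ ∈ K) (hK : s ∉ K) :
    Nat.card (K ⊔ zpowers s : Subgroup G) = 2 * Nat.card K := by
  rw [← (idx2_sup_invol ss hs hK).card (mem_sup_right (mem_zpowers s)) hK, mul_comm]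

theorem isPGroup_sup_invol {K : Subgroup G} {s : G} (ss : s * s = 1)
    (hs : ∀ k ∈ K, s * k * s⁻¹ ∈ K) (h2 : IsPGroup 2 K) :
    IsPGroup 2 (K ⊔ zpowers s : Subgroup G) :=
  isPGroup_of_el2 fun g hg => by
    have : g * g ∈ K := by
      by_cases hK : s ∈ K
      · rw [sup_eq_left.2 (zpowers_le.2 hK)] at hg
        exact mul_mem hg hg
      · exact (idx2_sup_invol ss hs hK).sq hg
    obtain ⟨k, hk⟩ := El2.of_mem h2 this
    exact ⟨k + 1, by rw [pow_succ', pow_mul, pow_two, hk]⟩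

namespace TI

variable {x : G} {L K : Subgroup G} (c : TI x L K)
include c

theorem conj (g : G) : TI (g * x * g⁻¹) (MulAut.conj g • L) (MulAut.conj g • K) where
  le := fun a ha => mem_conj_smul_iff.2 (c.le (mem_conj_smul_iff.1 ha))
  normal := fun l hl r hr => mem_conj_smul_iff.2 (by
    convert c.normal _ (mem_conj_smul_iff.1 hl) _ (mem_conj_smul_iff.1 hr) using 1; group)
  cube := fun b hb h3 => by
    have := c.cube _ (mem_conj_smul_iff.1 hb) (by
      rw [show g⁻¹ * b * g = g⁻¹ * b * g⁻¹⁻¹ by simp, conj_pow, h3]; simp)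
    calc b = g * (g⁻¹ * b * g) * g⁻¹ := by group
      _ = 1 := by rw [this]; group
  mem := conj_mem_conj_smul c.mem g
  act := fun l hl => (c.act _ (mem_conj_smul_iff.1 hl)).imp
    (fun e => mem_conj_smul_iff.2 (by convert e using 1; group))
    fun e => mem_conj_smul_iff.2 (by convert e using 1; group)
  cen := fun l hl h1 h2 => mem_conj_smul_iff.2 (c.cen _ (mem_conj_smul_iff.1 hl)
    (T3.commute_conj h1) (by
      calc _ = g⁻¹ * (l * l) * g := by group
        _ = 1 := by rw [h2]; group))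

theorem symm : TI x⁻¹ L K where
  le := c.le
  normal := c.normal
  cube := c.cube
  mem := inv_mem c.mem
  act := fun g hg => (c.act g hg).imp
    (fun e => by convert c.normal _ (inv_mem c.mem) _ (inv_mem e) using 1; group)
    fun e => by convert c.normal _ c.mem _ (inv_mem e) using 1; group
  cen := fun g hg h1 => c.cen g hg (Commute.inv_left_iff.1 h1)

theorem normal' {l r : G} (hl : l ∈ L) (hr : r ∈ K) : l⁻¹ * r * l ∈ K := by
  simpa using c.normal _ (inv_mem hl) _ hr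

theorem conj_mem_iff {l r : G} (hl : l ∈ L) : l * r * l⁻¹ ∈ K ↔ r ∈ K :=
  ⟨fun h => by simpa [mul_assoc] using c.normal' hl h, c.normal l hl r⟩

theorem inner_of_mem {g : G} (hg : g ∈ K) : g * x * g⁻¹ * x⁻¹ ∈ K := by
  simpa [mul_assoc] using mul_mem hg (c.normal x c.mem _ (inv_mem hg))

theorem inner_mul {g k : G} (hgL : g ∈ L) (hg : g * x * g⁻¹ * x⁻¹ ∈ K)
    (hk : k * x * k⁻¹ * x⁻¹ ∈ K) : g * k * x * (g * k)⁻¹ * x⁻¹ ∈ K := by
  convert mul_mem (c.normal g hgL _ hk) hg using 1; group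

variable (h : T3 x)
include h

theorem notMem : x ∉ K := fun e => h.ne (c.cube x e h.cube)

theorem not_both {g : G} (h1 : g * x * g⁻¹ * x⁻¹ ∈ K) (h2 : g * x * g⁻¹ * x ∈ K) : False := by
  have := c.normal _ (inv_mem c.mem) _ (mul_mem (inv_mem h1) h2)
  rw [show x⁻¹ * ((g * x * g⁻¹ * x⁻¹)⁻¹ * (g * x * g⁻¹ * x)) * x⁻¹⁻¹ = x * x * x * x * x⁻¹ * x⁻¹
    by group, show x * x * x * x * x⁻¹ * x⁻¹ = x * x by group, h.mul_self] at this
  exact c.notMem h (inv_mem_iff.1 this)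

theorem notMem_of_outer {g : G} (hg : g * x * g⁻¹ * x ∈ K) : g ∉ K :=
  fun e => c.not_both h (c.inner_of_mem e) hg

theorem notMem_of_inverts {s : G} (hs : s * x * s⁻¹ = x⁻¹) : s ∉ K :=
  c.notMem_of_outer h (by simp [hs])

variable [Finite G]

theorem decomp {g : G} (hgL : g ∈ L) (hg : g * x * g⁻¹ * x⁻¹ ∈ K) :
    g ∈ K ∨ g * x⁻¹ ∈ K ∨ g * x ∈ K := by
  obtain ⟨f, hf, e⟩ := conj_of_coset c.cube (c.normal x c.mem) h.cube
    (by rw [conj_pow, h.cube]; simp) hg
  have hc : Commute x (f⁻¹ * g) := by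
    change x * (f⁻¹ * g) = f⁻¹ * g * x
    calc _ = f⁻¹ * (f * x * f⁻¹) * g := by group
      _ = _ := by rw [← e]; group
  have hL : f⁻¹ * g ∈ L := mul_mem (inv_mem (c.le hf)) hgL
  obtain ⟨v, h1, h2, e'⟩ := h.cent hc
  have hv : v ∈ K := c.cen v (by
    rcases e' with e' | e' | e'
    · exact e' ▸ hL
    · exact (mul_mem_cancel_right c.mem).1 (e' ▸ hL)
    · exact (mul_mem_cancel_right (inv_mem c.mem)).1 (e' ▸ hL)) h1 h2
  have e2 : g = f * (f⁻¹ * g) := by group
  rcases e' with e' | e' | e' <;> rw [e'] at e2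
  · exact Or.inl (e2 ▸ mul_mem hf hv)
  · exact Or.inr (Or.inl (by simpa [e2, mul_assoc] using mul_mem hf hv))
  · exact Or.inr (Or.inr (by simpa [e2, mul_assoc] using mul_mem hf hv))

theorem cube_mem {g : G} (hgL : g ∈ L) (hg : g * x * g⁻¹ * x⁻¹ ∈ K) : g ^ 3 ∈ K := by
  have key : ∀ y ∈ L, y ^ 3 = 1 → g * y⁻¹ ∈ K → g ^ 3 ∈ K := fun y hy h3 hk => by
    have := mul_mem (mul_mem hk (c.normal y hy _ hk)) (c.normal' hy hk)
    have e : y⁻¹ = y * y := (mul_self_of_cube h3).symm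
    convert this using 1
    calc g ^ 3 = g * g * (y ^ 3)⁻¹ * g := by rw [h3]; simp [pow_succ]
      _ = _ := by simp only [pow_succ]; group
  rcases c.decomp h hgL hg with e | e | e
  · exact pow_mem e 3
  · exact key x c.mem h.cube e
  · exact key x⁻¹ (inv_mem c.mem) h.inv.cube (by simpa using e)

/-- An inner element of order prime to three lies in `K`. -/
theorem mem_of_inner {B : Subgroup G} (hB : ∀ b ∈ B, b ^ 3 = 1 → b = 1) {g : G} (hg : g ∈ B)
    (hgL : g ∈ L) (hi : g * x * g⁻¹ * x⁻¹ ∈ K) : g ∈ K :=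
  mem_of_cube_mem hB hg (c.cube_mem h hgL hi)

theorem outer_of_notMem {B : Subgroup G} (hB : ∀ b ∈ B, b ^ 3 = 1 → b = 1) {g : G} (hg : g ∈ B)
    (hgL : g ∈ L) (hK : g ∉ K) : g * x * g⁻¹ * x ∈ K :=
  (c.act g hgL).resolve_left fun e => hK (c.mem_of_inner h hB hg hgL e)

theorem outer_of_el2 {g : G} (hg : El2 g) (hgL : g ∈ L) (hK : g ∉ K) : g * x * g⁻¹ * x ∈ K :=
  c.outer_of_notMem h (cube_of_two hg.isPGroup) (mem_zpowers g) hgL hK

/-- A `3'`-subgroup of `L` meets `K` in index at most two. -/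
theorem mul_mem_of_notMem {B : Subgroup G} (hB : ∀ b ∈ B, b ^ 3 = 1 → b = 1) (hBL : B ≤ L)
    {a b : G} (ha : a ∈ B) (hb : b ∈ B) (h1 : a ∉ K) (h2 : b ∉ K) : a * b ∈ K :=
  c.mem_of_inner h hB (mul_mem ha hb) (hBL (mul_mem ha hb))
    (c.act_mul (hBL ha) (c.outer_of_notMem h hB ha (hBL ha) h1)
      (c.outer_of_notMem h hB hb (hBL hb) h2))

theorem le_of_inv {B : Subgroup G} (hB : Inv x B) (hBL : B ≤ L) : B ≤ K := fun g hg => by
  by_contra hK
  have h1 := c.outer_of_notMem h hB.cube hg (hBL hg) hK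
  have h2 : g * (x * g⁻¹ * x⁻¹) ∈ K :=
    c.mul_mem_of_notMem h hB.cube hBL hg (hB.conj _ (inv_mem hg)) hK (by
      rwa [c.conj_mem_iff c.mem, inv_mem_iff])
  exact c.not_both h (by simpa [mul_assoc] using h2) h1

theorem le_of_normal {N : Subgroup G} (hN : N ≤ L) (hn : ∀ l ∈ L, ∀ n ∈ N, l * n * l⁻¹ ∈ N)
    (hx : x ∉ N) : N ≤ K :=
  c.le_of_inv h ⟨hn x c.mem, h.cube_of_normal c.mem hN hn hx⟩ hN

theorem unique {K' : Subgroup G} (c' : TI x L K') : K = K' :=
  le_antisymm (c'.le_of_inv h c.inv c.le) (c.le_of_inv h c'.inv c'.le)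

/-- The type does not depend on the element of order three. -/
theorem of_cube {y : G} (hy : y ∈ L) (h1 : y ≠ 1) (h3 : y ^ 3 = 1) : TI y L K := by
  have key : ∀ l ∈ L, ∀ z, TI z L K → TI (l * z * l⁻¹) L K := fun l hl z c' => by
    have := c'.conj l
    rwa [conj_smul_eq_of_mem_normalizer (le_normalizer hl),
      conj_smul_eq_of_mem_normalizer (mem_normalizer_of_conj (c.normal l hl))] at this
  obtain ⟨l, hl, rfl | rfl⟩ := h.exists_conj c.mem hy h1 h3
  exacts [key l hl _ c, key l hl _ c.symm]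

variable {s : G} (hsL : s ∈ L) (hs : s * x * s⁻¹ = x⁻¹) (ss : s * s = 1)
include hsL hs

theorem decomp' {g : G} (hgL : g ∈ L) (hg : g * x * g⁻¹ * x ∈ K) :
    g * s ∈ K ∨ g * s * x⁻¹ ∈ K ∨ g * s * x ∈ K :=
  c.decomp h (mul_mem hgL hsL) (c.act_mul hgL hg (by simp [hs]))

theorem card : Nat.card L = 6 * Nat.card K := by
  let N := ext3 h.cube (c.normal x c.mem)
  have hN : ∀ g ∈ L, g ∈ N ↔ g * x * g⁻¹ * x⁻¹ ∈ K := fun g hg => by
    constructor
    · rintro ⟨b, hb, i, rfl⟩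
      convert c.inner_of_mem hb using 1; group
    · intro e
      rcases c.decomp h hg e with e | e | e
      · exact ⟨g, e, 0, by simp⟩
      · exact ⟨_, e, 1, by simp⟩
      · exact ⟨_, e, 2, by rw [mul_assoc, ← pow_succ', h.cube, mul_one]⟩
  have hNL : N ≤ L := by
    rintro _ ⟨b, hb, i, rfl⟩
    exact mul_mem (c.le hb) (pow_mem c.mem i)
  have h2 : Idx2 N L := ⟨hNL, fun a ha b hb => by
    refine ⟨fun e => ⟨fun e' => (mul_mem_cancel_left e').1 e,
      fun e' => (mul_mem_cancel_right e').1 e⟩, fun e => ?_⟩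
    by_cases e1 : a ∈ N
    · exact mul_mem e1 (e.1 e1)
    · rw [hN _ (mul_mem ha hb)]
      exact c.act_mul ha ((c.act a ha).resolve_left fun e2 => e1 ((hN a ha).2 e2))
        ((c.act b hb).resolve_left fun e2 => e1 (e.2 ((hN b hb).2 e2)))⟩
  have h3 := h2.card hsL fun e => c.not_both h ((hN s hsL).1 e) (by simp [hs])
  have h4 : Nat.card N = Nat.card K * 3 := by
    rw [← h.orderOf_eq, ← Nat.card_zpowers, ← Nat.card_prod]
    symm
    refine Nat.card_eq_of_bijective (fun p : K × zpowers x => (⟨p.1 * p.2, by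
      obtain ⟨i, hi⟩ := (mem_powers_iff_mem_zpowers.2 p.2.2)
      exact ⟨_, p.1.2, i, by rw [← hi]⟩⟩ : N)) ⟨fun p q e => ?_, ?_⟩
    · have e' : (p.1 : G) * p.2 = q.1 * q.2 := congrArg Subtype.val e
      have h5 : (p.2 : G) * (q.2 : G)⁻¹ = (p.1 : G)⁻¹ * q.1 := by
        rw [mul_inv_eq_iff_eq_mul, mul_assoc, ← e', inv_mul_cancel_left]
      have h6 : (p.2 : G) * (q.2 : G)⁻¹ = 1 := c.cube _ (h5 ▸ mul_mem (inv_mem p.1.2) q.1.2) (by
        rcases (mem_zpowers_three h.cube).1 (mul_mem p.2.2 (inv_mem q.2.2)) with e | e | e <;>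
          simp [e, h.cube])
      exact Prod.ext (Subtype.ext (inv_mul_eq_one.1 (h5 ▸ h6))) (Subtype.ext (mul_inv_eq_one.1 h6))
    · rintro ⟨_, b, hb, i, rfl⟩
      exact ⟨(⟨b, hb⟩, ⟨_, pow_mem (mem_zpowers x) i⟩), rfl⟩
  omega

include ss

theorem card_S : Nat.card (K ⊔ zpowers s : Subgroup G) = 2 * Nat.card K :=
  card_sup_invol ss (c.normal s hsL) (c.notMem_of_inverts h hs)

omit [Finite G] in
theorem idx2 : Idx2 K (K ⊔ zpowers s) :=
  idx2_sup_invol ss (c.normal s hsL) (c.notMem_of_inverts h hs)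

theorem sylow (h2 : IsPGroup 2 K) : IsSylowIn 2 (K ⊔ zpowers s) L := by
  have hle : K ⊔ zpowers s ≤ L := sup_le c.le (zpowers_le.2 hsL)
  refine ⟨hle, isPGroup_sup_invol ss (c.normal s hsL) h2, ?_⟩
  have h1 := card_mul_relIndex_of_le hle
  rw [c.card h hsL hs, c.card_S h hsL hs ss] at h1
  have h3 : 0 < Nat.card K := Nat.card_pos
  rw [show (K ⊔ zpowers s).relIndex L = 3 by nlinarith]
  norm_num

/-- An outer element is conjugate under `⟨x⟩` into `K s`. -/
theorem exists_conj_outer {g : G} (hgL : g ∈ L) (hg : g * x * g⁻¹ * x ∈ K) :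
    ∃ k ∈ zpowers x, k * g * k⁻¹ * s ∈ K := by
  have s1 : s⁻¹ = s := inv_eq_of_mul_eq_one_right ss
  have e1 : s * x = x⁻¹ * s := by rw [← hs]; group
  have e2 : s * x⁻¹ = x * s := by
    calc s * x⁻¹ = (s * x * s⁻¹)⁻¹ * s := by group
      _ = _ := by rw [hs, inv_inv]
  rcases c.decomp' h hsL hs hgL hg with e | e | e
  · exact ⟨1, one_mem _, by simpa using e⟩
  · refine ⟨x, mem_zpowers x, ?_⟩
    have := c.normal x c.mem _ e
    rwa [mul_assoc, mul_assoc _ x⁻¹, inv_mul_inv_of_cube h.cube, mul_assoc g, e1, ← mul_assoc,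
      ← mul_assoc] at this
  · refine ⟨x⁻¹, inv_mem (mem_zpowers x), ?_⟩
    have := c.normal' c.mem e
    rwa [mul_assoc, mul_assoc _ x, h.mul_self, mul_assoc g, e2, ← mul_assoc,
      ← mul_assoc, ← inv_inv x, inv_inv x⁻¹] at this

/-- `K ⟨s⟩` is self-normalizing in `L`. -/
theorem mem_S_of_norm {g : G} (hgL : g ∈ L) (hg : g * s * g⁻¹ ∈ K ⊔ zpowers s) :
    g ∈ K ⊔ zpowers s := by
  have s1 : s⁻¹ = s := inv_eq_of_mul_eq_one_right ss
  have hS := fun g => mem_sup_invol (g := g) ss (c.normal s hsL)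
  have sK := c.notMem_of_inverts h hs
  have h0 : g * s * g⁻¹ * s ∈ K :=
    ((hS _).1 hg).resolve_left (by rwa [c.conj_mem_iff hgL])
  have key : ∀ g ∈ L, g * s * g⁻¹ * s ∈ K → ∀ y ∈ L, g * y⁻¹ ∈ K → s * y⁻¹ * s⁻¹ = y →
      y * y ∈ K := fun g hg h1 y hy h2 h3 => by
    have := mul_mem (mul_mem (inv_mem h2) h1) (c.normal s hsL _ h2)
    have := c.normal s hsL _ this
    rw [show s * ((g * y⁻¹)⁻¹ * (g * s * g⁻¹ * s) * (s * (g * y⁻¹) * s⁻¹)) * s⁻¹ =
      (s * y⁻¹ * s⁻¹)⁻¹ * (s * s) * g⁻¹ * (s * s) * g * y⁻¹ * (s * s)⁻¹ by group, h3, ss] at this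
    simpa using inv_mem this
  have main : ∀ g ∈ L, g * s * g⁻¹ * s ∈ K → g * x * g⁻¹ * x⁻¹ ∈ K → g ∈ K := fun g hg h1 h2 => by
    rcases c.decomp h hg h2 with e | e | e
    · exact e
    · have := key g hg h1 x c.mem e (by rw [← conj_inv, hs, inv_inv])
      rw [h.mul_self, inv_mem_iff] at this
      exact (c.notMem h this).elim
    · have := key g hg h1 x⁻¹ (inv_mem c.mem) (by simpa using e) (by simpa using hs)
      rw [inv_mul_inv_of_cube h.cube] at this
      exact (c.notMem h this).elim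
  rw [hS]
  refine (c.act g hgL).imp (main g hgL h0) fun e => main _ (mul_mem hgL hsL) ?_
    (c.act_mul hgL e (by simp [hs]))
  convert h0 using 1; group

end TI

end Cfsg.Agent.L0.C12
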