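import Mathlib
import Cfsg.Agent.L0.C12TI
import Cfsg.Agent.H3.FrobCompl

/-!
# A Frobenius group of order 21 acting on a `2`-group
-/

set_option autoImplicit false

namespace Cfsg.Agent.L0.C12

open Subgroup Cfsg.Agent.L0.SC3 Cfsg.Agent.H9 Cfsg.Agent.H1.T3
open scoped commutatorElement Pointwise IsMulCommutative

universe u

theorem fc_add {A : Type*} [AddCommGroup A] (T X : A →+ A) (two : ∀ a : A, a + a = 0)
    (h7 : ∀ a, T (T (T (T (T (T (T a)))))) = a) (inj : ∀ a, T a = a → a = 0)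
    (hX : ∀ a, X (T a) = T (T (X a))) (h3 : ∀ a, X (X (X a)) = a) (a : A) :
    ∃ c0 c1 c2, X c0 = c0 ∧ X c1 = c1 ∧ X c2 = c2 ∧ a = c0 + T c1 + T (T c2) := by
  have hΦ : a + T a + T (T a) + T (T (T a)) + T (T (T (T a))) + T (T (T (T (T a)))) +
      T (T (T (T (T (T a))))) = 0 := inj _ (by simp only [map_add, h7]; abel)
  have hN : ∀ b, X (b + X b + X (X b)) = b + X b + X (X b) := fun b => by
    simp only [map_add, h3]; abel
  refine ⟨_, _, _, hN (T a + T (T (T a))), hN (T a + T (T (T (T a)))),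
    hN (T (T a) + T (T (T (T a)))), ?_⟩
  simp only [map_add, hX, h7]
  linear_combination (norm := abel1) two a - hΦ - two (T (T (X a))) - two (T (T (T (X a)))) -
    two (T (T (T (T (T (T (X a))))))) - two (T (T (T (X (X a))))) -
    two (T (T (T (T (X (X a)))))) - two (T (T (T (T (T (X (X a)))))))

variable {G : Type u} [Group G]

theorem fc_elem [Finite G] {W : Subgroup G} {θ x : G} (hW : ∀ a ∈ W, ∀ b ∈ W, a * b = b * a)
    (h2 : ∀ a ∈ W, a * a = 1) (θW : ∀ a ∈ W, θ * a * θ⁻¹ ∈ W) (xW : ∀ a ∈ W, x * a * x⁻¹ ∈ W)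
    (h7 : θ ^ 7 = 1) (h3 : x ^ 3 = 1) (hx : x * θ * x⁻¹ = θ ^ 2)
    (hC : ∀ a ∈ W, Commute θ a → a = 1) :
    Nat.card W ≤ Nat.card (W ⊓ centralizer {x} : Subgroup G) ^ 3 := by
  have : IsMulCommutative W := ⟨⟨fun a b => Subtype.ext (hW a a.2 b b.2)⟩⟩
  have key := fc_add (H3.conjAddHom θ fun a => θW a) (H3.conjAddHom x fun a => xW a)
    (fun a => H3.additive_ext (h2 _ a.toMul.2))
    (fun a => H3.additive_ext (by
      change θ * (θ * (θ * (θ * (θ * (θ * (θ * (a.toMul : G) * θ⁻¹) * θ⁻¹) * θ⁻¹) * θ⁻¹) * θ⁻¹) *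
        θ⁻¹) * θ⁻¹ = a.toMul
      calc _ = θ ^ 7 * (a.toMul : G) * (θ ^ 7)⁻¹ := by
            simp only [pow_succ, pow_zero, one_mul, mul_inv_rev, mul_assoc]
        _ = _ := by rw [h7]; simp))
    (fun a e => H3.additive_ext (hC _ a.toMul.2 (conj_eq_iff.1
      (congrArg (fun b : Additive W => (b.toMul : G)) e))))
    (fun a => H3.additive_ext (by
      change x * (θ * (a.toMul : G) * θ⁻¹) * x⁻¹ = θ * (θ * (x * (a.toMul : G) * x⁻¹) * θ⁻¹) * θ⁻¹
      calc _ = (x * θ * x⁻¹) * (x * (a.toMul : G) * x⁻¹) * (x * θ * x⁻¹)⁻¹ := by group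
        _ = _ := by rw [hx, pow_two]; group))
    (fun a => H3.additive_ext (by
      change x * (x * (x * (a.toMul : G) * x⁻¹) * x⁻¹) * x⁻¹ = a.toMul
      calc _ = x ^ 3 * (a.toMul : G) * (x ^ 3)⁻¹ := by
            simp only [pow_succ, pow_zero, one_mul, mul_inv_rev, mul_assoc]
        _ = _ := by rw [h3]; simp))
  set C := (W ⊓ centralizer {x} : Subgroup G)
  rw [show Nat.card C ^ 3 = Nat.card (C × C × C) by simp only [Nat.card_prod]; ring]
  refine Nat.card_le_card_of_surjective (fun p : C × C × C => (⟨p.1 * (θ * p.2.1 * θ⁻¹) *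
    (θ * (θ * p.2.2 * θ⁻¹) * θ⁻¹), mul_mem (mul_mem p.1.2.1 (θW _ p.2.1.2.1))
      (θW _ (θW _ p.2.2.2.1))⟩ : W)) fun a => ?_
  obtain ⟨c0, c1, c2, e0, e1, e2, e⟩ := key (Additive.ofMul a)
  have m : ∀ c : Additive W, H3.conjAddHom x (fun a => xW a) c = c → (c.toMul : G) ∈ C :=
    fun c e => ⟨c.toMul.2, SC3.mem_cent.2 (Commute.symm (conj_eq_iff.1
      (congrArg (fun b : Additive W => (b.toMul : G)) e)))⟩
  exact ⟨(⟨_, m c0 e0⟩, ⟨_, m c1 e1⟩, ⟨_, m c2 e2⟩),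
    Subtype.ext (congrArg (fun b : Additive W => (b.toMul : G)) e).symm⟩

/-- Elements of prime order in a coset of a subgroup of order prime to `p`. -/
theorem conj_of_coset_p {p : ℕ} [Fact p.Prime] {E : Subgroup G} [Finite G]
    (hE : ¬ p ∣ Nat.card E) {b y : G}
    (hb : ∀ e ∈ E, b * e * b⁻¹ ∈ E) (b3 : b ^ p = 1) (y3 : y ^ p = 1) (h : y * b⁻¹ ∈ E) :
    ∃ f ∈ E, y = f * b * f⁻¹ := by
  classical
  have := Fintype.ofFinite E
  let σ : Function.End E := fun f => ⟨y * f * b⁻¹, by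
    simpa [mul_assoc] using mul_mem h (hb f f.2)⟩
  have hσ : ∀ n : ℕ, ∀ f : E, ((σ ^ n) f : G) = y ^ n * f * (b ^ n)⁻¹ := fun n => by
    induction n with
    | zero => intro f; simp [Function.End.one_def]
    | succ n ih =>
      intro f
      rw [pow_succ']
      change y * ((σ ^ n) f : G) * b⁻¹ = _
      rw [ih]; simp only [pow_succ']; group
  have h1 := Equiv.Perm.card_fixedPoints_modEq (f := σ) (p := p) (n := 1) (funext fun f =>
    Subtype.ext (by rw [pow_one, hσ, y3, b3]; simp [Function.End.one_def]))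
  obtain ⟨f, hf⟩ : Nonempty σ.fixedPoints := Fintype.card_pos_iff.mp (Nat.pos_of_ne_zero
    fun e => hE (by rwa [e, Nat.modEq_zero_iff_dvd, ← Nat.card_eq_fintype_card] at h1))
  have h2 : y * f * b⁻¹ = f := congrArg Subtype.val hf
  exact ⟨f, f.2, by rw [← h2, inv_mul_cancel_right, h2, mul_inv_cancel_right]⟩

/-- Fixed points modulo a subgroup of order prime to `p`. -/
theorem exists_fix_of_coset {p : ℕ} [Fact p.Prime] {E : Subgroup G} [Finite G]
    (hE : ¬ p ∣ Nat.card E) {b k : G} (hb : ∀ e ∈ E, b * e * b⁻¹ ∈ E) (b3 : b ^ p = 1)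
    (h : k * b * k⁻¹ * b⁻¹ ∈ E) : ∃ f ∈ E, Commute b (f⁻¹ * k) := by
  obtain ⟨f, hf, e⟩ := conj_of_coset_p hE hb b3 (by rw [conj_pow, b3]; simp) h
  refine ⟨f, hf, ?_⟩
  change b * (f⁻¹ * k) = f⁻¹ * k * b
  calc _ = f⁻¹ * (f * b * f⁻¹) * k := by group
    _ = _ := by rw [← e]; group

theorem not_dvd_of_two [Finite G] {p : ℕ} (hp : p.Coprime 2) (h1 : p ≠ 1) {E : Subgroup G}
    (hE : IsPGroup 2 E) : ¬ p ∣ Nat.card E := fun e => by
  have := factTwo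
  obtain ⟨k, hk⟩ := IsPGroup.iff_card.1 hE
  exact h1 (Nat.eq_one_of_self_dvd_coprime' (hk ▸ e) hp k)
where
  Nat.eq_one_of_self_dvd_coprime' {p k : ℕ} (h : p ∣ 2 ^ k) (hp : p.Coprime 2) (_ : ℕ) : p = 1 :=
    (hp.pow_right k).eq_one_of_dvd h

theorem fc_aux (n : ℕ) : ∀ (G : Type u) [Group G] [Finite G] (K : Subgroup G) (θ x : G),
    Nat.card K = n → IsPGroup 2 K → (∀ a ∈ K, θ * a * θ⁻¹ ∈ K) → (∀ a ∈ K, x * a * x⁻¹ ∈ K) →
    θ ^ 7 = 1 → x ^ 3 = 1 → x * θ * x⁻¹ = θ ^ 2 → (∀ a ∈ K, Commute θ a → a = 1) →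
    Nat.card K ≤ Nat.card (K ⊓ centralizer {x} : Subgroup G) ^ 3 := by
  induction n using Nat.strong_induction_on with
  | _ n ih => ?_
  intro G _ _ K θ x hn h2 θK xK h7 h3 hx hC
  have : Fact (Nat.Prime 7) := ⟨by norm_num⟩
  have : Fact (Nat.Prime 3) := ⟨by norm_num⟩
  by_cases hK : K = ⊥
  · simp [hK]
  obtain ⟨z, hz, z1, zz, zc⟩ := exists_invol_center h2 hK
  let Z : Subgroup G :=
    { carrier := {a | a ∈ K ∧ a * a = 1 ∧ ∀ q ∈ K, Commute a q}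
      one_mem' := ⟨one_mem _, one_mul _, fun q _ => Commute.one_left q⟩
      mul_mem' := fun {a b} ha hb => ⟨mul_mem ha.1 hb.1, by
        rw [mul_assoc, ← mul_assoc b, (hb.2.2 a ha.1).eq, mul_assoc, hb.2.1, mul_one, ha.2.1],
        fun q hq => (ha.2.2 q hq).mul_left (hb.2.2 q hq)⟩
      inv_mem' := fun {a} ha => by rwa [inv_eq_of_mul_eq_one_right ha.2.1] }
  have ZK : Z ≤ K := fun a ha => ha.1
  have hZ : ∀ g, (∀ a ∈ K, g * a * g⁻¹ ∈ K) → ∀ a ∈ Z, g * a * g⁻¹ ∈ Z := fun g hg a ha =>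
    ⟨hg a ha.1, by rw [show g * a * g⁻¹ * (g * a * g⁻¹) = g * (a * a) * g⁻¹ by group, ha.2.1]; group,
      fun q hq => by
        have := (ha.2.2 _ (conj_mem_of_mem_normalizer (inv_mem (mem_normalizer_of_conj hg))
          hq)).conj g
        simpa [mul_assoc] using this⟩
  have h0 := fc_elem (W := Z) (fun a ha b hb => ha.2.2 b hb.1) (fun a ha => ha.2.1) (hZ θ θK)
    (hZ x xK) h7 h3 hx fun a ha => hC a ha.1
  let L := normalizer (Z : Set G)
  have KL : K ≤ L := fun k hk =>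
    mem_normalizer_of_conj (hZ k fun a ha => mul_mem (mul_mem hk ha) (inv_mem hk))
  have θL : θ ∈ L := mem_normalizer_of_conj (hZ θ θK)
  have xL : x ∈ L := mem_normalizer_of_conj (hZ x xK)
  have hN : (Z.subgroupOf L).Normal := normal_subgroupOf le_rfl
  let π := QuotientGroup.mk' (Z.subgroupOf L)
  have hπ : Function.Surjective π := QuotientGroup.mk'_surjective _
  have hk : ∀ g : L, π g = 1 ↔ (g : G) ∈ Z := fun g => QuotientGroup.eq_one_iff g
  have cardm : ∀ B : Subgroup G, B ≤ L → Nat.card B =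
      Nat.card (Z ⊓ B : Subgroup G) * Nat.card ((B.subgroupOf L).map π) := fun B hB => by
    rw [← card_mul_relIndex_of_le (inf_le_right : Z ⊓ B ≤ B), inf_relIndex_right,
      ← relIndex_ker, QuotientGroup.ker_mk', relIndex_subgroupOf hB]
  have Z2 : IsPGroup 2 Z := h2.to_le ZK
  have e1 := cardm K KL
  rw [inf_eq_left.2 ZK] at e1
  have Z1 : 1 < Nat.card Z := (Finite.one_lt_card_iff_nontrivial).2
    ⟨⟨⟨z, hz, zz, zc⟩, 1, fun e => z1 (congrArg Subtype.val e)⟩⟩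
  have hpos : 0 < Nat.card ((K.subgroupOf L).map π) := Nat.card_pos
  have cj : ∀ g : L, (∀ a ∈ K, g * a * (g : G)⁻¹ ∈ K) → ∀ a ∈ (K.subgroupOf L).map π,
      π g * a * (π g)⁻¹ ∈ (K.subgroupOf L).map π := by
    rintro g hg _ ⟨a, ha, rfl⟩
    exact ⟨g * a * g⁻¹, hg a ha, by simp⟩
  have fx : ∀ (p : ℕ) [Fact p.Prime], p.Coprime 2 → ∀ g : L, (g : G) ^ p = 1 →
      (∀ a ∈ K, g * a * (g : G)⁻¹ ∈ K) → ∀ a : L, Commute (π g) (π a) →
      ∃ f ∈ Z, Commute (g : G) (f⁻¹ * a) := fun p hp h1 g h3 hg a hc =>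
    exists_fix_of_coset (not_dvd_of_two h1 hp.out.ne_one Z2) (hZ g hg) h3
      ((hk (a * g * a⁻¹ * g⁻¹)).1 (by simp [← hc.eq]))
  have h1 := ih _ (by nlinarith) _ ((K.subgroupOf L).map π) (π ⟨θ, θL⟩) (π ⟨x, xL⟩) rfl
    ((h2.comap_subtype).map π) (cj _ θK) (cj _ xK)
    (by rw [← map_pow, show (⟨θ, θL⟩ : L) ^ 7 = 1 from Subtype.ext h7, map_one])
    (by rw [← map_pow, show (⟨x, xL⟩ : L) ^ 3 = 1 from Subtype.ext h3, map_one])
    (by rw [← map_inv, ← map_mul, ← map_mul, ← map_pow]; exact congrArg π (Subtype.ext hx))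
    (by
      rintro _ ⟨a, ha, rfl⟩ hc
      obtain ⟨f, hf, e⟩ := fx 7 (by norm_num) _ h7 θK a hc
      have : f = a := inv_mul_eq_one.1 (hC _ (mul_mem (inv_mem (ZK hf)) ha) e)
      rw [hk, ← this]
      exact hf)
  have e2 := cardm (K ⊓ centralizer {x}) (inf_le_left.trans KL)
  rw [← inf_assoc, inf_eq_left.2 ZK] at e2
  have h4 : Nat.card ((K.subgroupOf L).map π ⊓ centralizer {π ⟨x, xL⟩} : Subgroup _) ≤
      Nat.card (((K ⊓ centralizer {x}).subgroupOf L).map π) := card_le_of_le (by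
    rintro _ ⟨⟨a, ha, rfl⟩, hc⟩
    obtain ⟨f, hf, e⟩ := fx 3 (by norm_num) _ h3 xK a (SC3.mem_cent.1 hc).symm
    refine ⟨(⟨f, KL (ZK hf)⟩ : L)⁻¹ * a, ⟨K.mul_mem (K.inv_mem (ZK hf)) ha, SC3.mem_cent.2 e.symm⟩, ?_⟩
    rw [map_mul, map_inv, (hk _).2 hf]; simp)
  rw [e1, e2, mul_pow]
  exact Nat.mul_le_mul h0 (h1.trans (Nat.pow_le_pow_left h4 3))

/-- A Frobenius group of order `21` acting on a `2`-group, the kernel without fixed points. -/
theorem FC [Finite G] {K : Subgroup G} {θ x : G} (h2 : IsPGroup 2 K)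
    (θK : ∀ a ∈ K, θ * a * θ⁻¹ ∈ K) (xK : ∀ a ∈ K, x * a * x⁻¹ ∈ K) (h7 : θ ^ 7 = 1)
    (h3 : x ^ 3 = 1) (hx : x * θ * x⁻¹ = θ ^ 2 ∨ x * θ * x⁻¹ = θ ^ 4)
    (hC : ∀ a ∈ K, Commute θ a → a = 1) :
    Nat.card K ≤ Nat.card (K ⊓ centralizer {x} : Subgroup G) ^ 3 := by
  rcases hx with hx | hx
  · exact fc_aux _ G K θ x rfl h2 θK xK h7 h3 hx hC
  · have := fc_aux _ G K θ x⁻¹ rfl h2 θK (fun a ha =>
      conj_mem_of_mem_normalizer (inv_mem (mem_normalizer_of_conj xK)) ha) h7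
      (by rw [inv_pow, h3, inv_one]) (by
        have : x * θ ^ 2 * x⁻¹ = θ := by
          rw [← conj_pow, hx, ← pow_mul, show 4 * 2 = 7 + 1 from rfl, pow_succ, h7, one_mul]
        nth_rw 1 [← this]; group) hC
    rwa [show centralizer ({x⁻¹} : Set G) = centralizer {x} from by
      ext g; rw [SC3.mem_cent, SC3.mem_cent, Commute.inv_right_iff]] at this

end Cfsg.Agent.L0.C12
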