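import Mathlib
import Cfsg.Agent.L0.C12FC

/-!
# From `C4` to `CS`
-/

set_option autoImplicit false

namespace Cfsg.Agent.L0.C12

open Subgroup Cfsg.Agent.L0.SC3 Cfsg.Agent.H9 Cfsg.Agent.H1.T3
open scoped commutatorElement Pointwise

universe u

theorem card_mod_three {G : Type*} [Group G] [Finite G] {x : G} (h3 : x ^ 3 = 1) {B : Subgroup G}
    (hB : ∀ b ∈ B, x * b * x⁻¹ ∈ B) :
    Nat.card B ≡ Nat.card (B ⊓ centralizer {x} : Subgroup G) [MOD 3] := by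
  classical
  have := Fact.mk Nat.prime_three
  have := Fintype.ofFinite B
  let σ : Function.End B := fun b => ⟨x * b * x⁻¹, hB _ b.2⟩
  have h1 := Equiv.Perm.card_fixedPoints_modEq (f := σ) (p := 3) (n := 1) (funext fun b =>
    Subtype.ext (by
      change x * (x * (x * b * x⁻¹) * x⁻¹) * x⁻¹ = b
      calc _ = x ^ 3 * b * (x ^ 3)⁻¹ := by
            simp only [pow_succ, pow_zero, one_mul, mul_inv_rev, mul_assoc]
        _ = _ := by rw [h3]; simp))
  rw [← Nat.card_eq_fintype_card, ← Nat.card_eq_fintype_card] at h1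
  convert h1 using 1
  refine Nat.card_congr ⟨fun b => ⟨⟨b, b.2.1⟩, Subtype.ext (conj_eq_iff.2
    (SC3.mem_cent.1 b.2.2).symm)⟩, fun b => ⟨b.1, b.1.2, SC3.mem_cent.2 (Commute.symm
      (conj_eq_iff.1 (congrArg Subtype.val b.2)))⟩, fun _ => rfl, fun _ => rfl⟩

theorem four_pow_of_mod {n k : ℕ} (h : n = 2 ^ k) (h1 : n % 3 = 1) : ∃ j, n = 4 ^ j := by
  subst h
  obtain ⟨j, rfl | rfl⟩ := Nat.even_or_odd' k
  · exact ⟨j, by rw [pow_mul]; rfl⟩
  · rw [pow_succ, pow_mul, Nat.mul_mod, Nat.pow_mod] at h1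
    simp at h1

variable {G : Type u} [Group G] [Finite G] {x s : G} {V : Subgroup G}

/-- An `x`-invariant `2`-group containing `V`. -/
theorem Ctx.inf_eq (c : Ctx x s V) {B : Subgroup G} (hB : ∀ b ∈ B, b ^ 3 = 1 → b = 1)
    (hV : V ≤ B) : B ⊓ centralizer {x} = V :=
  le_antisymm (fun _ hb => c.mem_of_commute hB hb.1 (SC3.mem_cent.1 hb.2).symm)
    fun _ hv => ⟨hV hv, SC3.mem_cent.2 (c.cx hv).symm⟩

theorem Ctx.card_four_pow (c : Ctx x s V) (h4 : Nat.card V = 4) {B : Subgroup G}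
    (h2 : IsPGroup 2 B) (hB : ∀ b ∈ B, x * b * x⁻¹ ∈ B) (hV : V ≤ B) :
    ∃ j, Nat.card B = 4 ^ (j + 1) := by
  have := factTwo
  obtain ⟨k, hk⟩ := IsPGroup.iff_card.1 h2
  have h1 := card_mod_three c.t3.cube hB
  rw [c.inf_eq (cube_of_two h2) hV, h4] at h1
  obtain ⟨j, hj⟩ := four_pow_of_mod hk h1
  have h5 := card_le_of_le hV
  rcases j with _ | j
  · omega
  · exact ⟨j, hj⟩

theorem Ctx.le_cent (c : Ctx x s V) {v : G} (hv : v ∈ V) : V ≤ centralizer {v} :=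
  fun _ hw => SC3.mem_cent.2 (c.comm hw hv)

theorem Ctx.x_mem (c : Ctx x s V) {v : G} (hv : v ∈ V) : x ∈ centralizer ({v} : Set G) :=
  SC3.mem_cent.2 (c.cx hv)

theorem Ctx.s_mem (c : Ctx x s V) {v : G} (hv : v ∈ V) : s ∈ centralizer ({v} : Set G) :=
  SC3.mem_cent.2 (c.sV v hv)

theorem Ctx.le_TI (c : Ctx x s V) {L K : Subgroup G} (h : TI x L K) (hV : V ≤ L) : V ≤ K :=
  fun v hv => h.cen v (hV hv) (c.cx hv) (c.sq hv)

/-- The elements of a four-group. -/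
theorem mem_four {V : Subgroup G} (h4 : Nat.card V = 4) {a b g : G} (ha : a ∈ V) (hb : b ∈ V)
    (h2 : a * a = 1) (a1 : a ≠ 1) (b1 : b ≠ 1) (ab : a ≠ b) (hg : g ∈ V) :
    g = 1 ∨ g = a ∨ g = b ∨ g = a * b := by
  classical
  have := Fintype.ofFinite V
  have e1 : a * b ≠ 1 := fun e => ab (by
    rw [eq_inv_of_mul_eq_one_right e, inv_eq_of_mul_eq_one_right h2])
  have e2 : a * b ≠ a := by simpa using b1
  have e3 : a * b ≠ b := by simpa using a1
  have := Finset.eq_univ_of_card ({1, ⟨a, ha⟩, ⟨b, hb⟩, ⟨a * b, mul_mem ha hb⟩} : Finset V) (by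
    rw [← Nat.card_eq_fintype_card, h4, Finset.card_insert_of_notMem, Finset.card_insert_of_notMem,
      Finset.card_pair] <;>
    simp [Subtype.ext_iff, a1.symm, b1.symm, e1.symm, ab, e2.symm, e3.symm])
  have h := this ▸ Finset.mem_univ (⟨g, hg⟩ : V)
  simpa [Subtype.ext_iff] using h

theorem exists_ne_two {V : Subgroup G} (h4 : Nat.card V = 4) (a : G) :
    ∃ b ∈ V, b ≠ 1 ∧ b ≠ a := by
  by_contra! h
  have : (V : Set G).ncard ≤ ({1, a} : Set G).ncard := Set.ncard_le_ncard fun g hg => by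
    by_cases e : g = 1
    · exact Or.inl e
    · exact Or.inr (h g hg e)
  have h2 := Set.ncard_insert_le 1 ({a} : Set G)
  rw [Set.ncard_singleton] at h2
  rw [← Nat.card_coe_set_eq] at this
  change Nat.card V ≤ _ at this
  omega

namespace C4

variable (c : C4 x s V)
include c

theorem fcl_pos {u : G} (hu : u * u = 1) (h1 : u ≠ 1) : 0 < fcl s V u := by
  obtain ⟨v, hv, h⟩ := c.fpos u hu h1
  exact Nat.card_pos_iff.2 ⟨⟨⟨⟨v, hv⟩, h⟩⟩, inferInstance⟩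

theorem sum_fcl {a b : G} (ha : a ∈ V) (hb : b ∈ V) (a1 : a ≠ 1) (b1 : b ≠ 1) (ab : a ≠ b) :
    fcl s V a + fcl s V b + fcl s V (a * b) +
      Nat.card {w : V // ∀ v ∈ V, ¬ IsConj (s * w) v} = 4 := by
  classical
  have := Fintype.ofFinite V
  have hf : ∀ P : V → Prop, Nat.card {w : V // P w} = ∑ w : V, if P w then 1 else 0 := fun P => by
    rw [Nat.card_eq_fintype_card, Fintype.card_subtype, Finset.card_filter]
  simp only [fcl, hf, ← Finset.sum_add_distrib]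
  rw [← c.card, Nat.card_eq_fintype_card, Fintype.card, Finset.card_eq_sum_ones]
  refine Finset.sum_congr rfl fun w _ => ?_
  have hab := mul_mem ha hb
  have key : ∀ u ∈ V, ∀ v ∈ V, u ≠ v → IsConj u (s * w) → ¬ IsConj v (s * w) :=
    fun u hu v hv h h1 h2 => h (c.eq_of_isConj hu hv (h1.trans h2.symm))
  have e2 : a * b ≠ a := by simpa using b1
  have e3 : a * b ≠ b := by simpa using a1
  by_cases h1 : IsConj a (s * w)
  · rw [if_pos h1, if_neg (key _ ha _ hb ab h1), if_neg (key _ ha _ hab e2.symm h1),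
      if_neg fun h => h a ha h1.symm]
  by_cases h2 : IsConj b (s * w)
  · rw [if_neg h1, if_pos h2, if_neg (key _ hb _ hab e3.symm h2), if_neg fun h => h b hb h2.symm]
  by_cases h3 : IsConj (a * b) (s * w)
  · rw [if_neg h1, if_neg h2, if_pos h3, if_neg fun h => h _ hab h3.symm]
  rw [if_neg h1, if_neg h2, if_neg h3, if_pos]
  intro v hv h
  rcases mem_four c.card ha hb (c.sq ha) a1 b1 ab hv with rfl | rfl | rfl | rfl
  · exact (c.shift w.2).s_ne (isConj_one_left.1 h)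
  exacts [h1 h.symm, h2 h.symm, h3 h.symm]

theorem mul_ne_one {a b : G} (ha : a ∈ V) (ab : a ≠ b) : a * b ≠ 1 := fun e => ab (by
  rw [eq_inv_of_mul_eq_one_right e, inv_eq_of_mul_eq_one_right (c.sq ha)])

theorem fcl_le {a : G} (ha : a ∈ V) (a1 : a ≠ 1) : fcl s V a ≤ 2 := by
  obtain ⟨b, hb, b1, ab⟩ := exists_ne_two c.card a
  have h1 := c.sum_fcl ha hb a1 b1 ab.symm
  have h2 := c.fcl_pos (c.sq hb) b1
  have h3 := c.fcl_pos (c.sq (mul_mem ha hb)) (c.mul_ne_one ha ab.symm)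
  omega

/-- Equal centralizer orders give a fourth class of involutions. -/
theorem exists_new (h : ∀ v ∈ V, v ≠ 1 → ∀ w ∈ V, w ≠ 1 →
    Nat.card (centralizer ({v} : Set G)) = Nat.card (centralizer ({w} : Set G))) :
    (∀ v ∈ V, v ≠ 1 → fcl s V v = 1) ∧ ∃ w ∈ V, ∀ v ∈ V, ¬ IsConj (s * w) v := by
  have k : ∀ v ∈ V, v ≠ 1 → ∀ w ∈ V, w ≠ 1 → 4 * fcl s V v ≤ 7 * fcl s V w :=
    fun v hv v1 w hw w1 => by
      have := c.ratio v w (c.sq hv) v1 (c.sq hw) w1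
      rw [h v hv v1 w hw w1, ← mul_assoc, ← mul_assoc] at this
      exact Nat.le_of_mul_le_mul_right this Nat.card_pos
  have k1 : ∀ v ∈ V, v ≠ 1 → fcl s V v = 1 := fun a ha a1 => by
    obtain ⟨b, hb, b1, ab⟩ := exists_ne_two c.card a
    have h1 := c.sum_fcl ha hb a1 b1 ab.symm
    have h2 := k a ha a1 b hb b1
    have h3 := k a ha a1 _ (mul_mem ha hb) (c.mul_ne_one ha ab.symm)
    have h4 := c.fcl_pos (c.sq ha) a1
    omega
  refine ⟨k1, ?_⟩
  obtain ⟨a, ha, a1, -⟩ := exists_ne_two c.card 1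
  obtain ⟨b, hb, b1, ab⟩ := exists_ne_two c.card a
  have h1 := c.sum_fcl ha hb a1 b1 ab.symm
  rw [k1 a ha a1, k1 b hb b1, k1 _ (mul_mem ha hb) (c.mul_ne_one ha ab.symm)] at h1
  obtain ⟨⟨w, hw⟩⟩ := (Nat.card_pos_iff.1 (show 0 < Nat.card
    {w : V // ∀ v ∈ V, ¬ IsConj (s * w) v} by omega)).1
  exact ⟨w, w.2, hw⟩

theorem cs (h : ∀ v ∈ V, v ≠ 1 → ∃ K, TI x (centralizer {v}) K ∧ IsPGroup 2 K) :
    ∃ s' T, CS x s' V T := by
  choose! T hT h2 using h
  have hc : ∀ v ∈ V, v ≠ 1 → Nat.card (centralizer ({v} : Set G)) = 6 * Nat.card (T v) :=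
    fun v hv v1 => (hT v hv v1).card c.t3 (c.s_mem hv) c.sx
  have k : ∀ v ∈ V, v ≠ 1 → ∀ w ∈ V, w ≠ 1 → Nat.card (T v) ≤ Nat.card (T w) :=
    fun v hv v1 w hw w1 => by
      have h1 := c.ratio v w (c.sq hv) v1 (c.sq hw) w1
      obtain ⟨i, hi⟩ := c.card_four_pow c.card (h2 v hv v1) (hT v hv v1).inv.conj
        (c.le_TI (hT v hv v1) (c.le_cent hv))
      obtain ⟨j, hj⟩ := c.card_four_pow c.card (h2 w hw w1) (hT w hw w1).inv.conj
        (c.le_TI (hT w hw w1) (c.le_cent hw))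
      rw [hc v hv v1, hc w hw w1, hi, hj] at h1
      rw [hi, hj]
      refine Nat.pow_le_pow_right (by norm_num) (not_lt.1 fun e => ?_)
      have h3 : 4 ^ (j + 1 + 1) ≤ 4 ^ (i + 1) := Nat.pow_le_pow_right (by norm_num) e
      have h4 := c.fcl_pos (c.sq hv) v1
      have h5 := c.fcl_le hw w1
      have h6 : 0 < 4 ^ (j + 1) := by positivity
      rw [pow_succ 4 (j + 1)] at h3
      nlinarith [Nat.mul_le_mul h4 h3, Nat.mul_le_mul_right (4 ^ (j + 1)) h5]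
  have ke : ∀ v ∈ V, v ≠ 1 → ∀ w ∈ V, w ≠ 1 → Nat.card (T v) = Nat.card (T w) :=
    fun v hv v1 w hw w1 => le_antisymm (k v hv v1 w hw w1) (k w hw w1 v hv v1)
  obtain ⟨-, w, hw, hn⟩ := c.exists_new fun v hv v1 w hw w1 => by
    rw [hc v hv v1, hc w hw w1, ke v hv v1 w hw w1]
  have c' := c.shift hw
  have hz := fun v hv v1 => c.zb (6 * Nat.card (T v)) (fun u hu u1 => by
    rw [hc u hu u1, ke u hu u1 v hv v1]) _ c'.ss c'.s_ne hn
  have sw : ∀ v ∈ V, s * v = s * w * (w * v) := fun v _ => by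
    rw [mul_assoc, ← mul_assoc w, c.sq hw, one_mul]
  refine ⟨s * w, T, c', c.card, fun u hu u1 => ?_, hn, fun v hv v1 => ?_, hT, h2, ke,
    fun v hv v1 => by have := hz v hv v1; omega, fun v hv v1 => by have := hz v hv v1; omega⟩
  · obtain ⟨v, hv, e⟩ := c.fpos u hu u1
    by_contra! hcon
    obtain ⟨a, ha, a1, -⟩ := exists_ne_two c.card 1
    obtain ⟨b, hb, b1, ab⟩ := exists_ne_two c.card a
    have h1 := c.sum_fcl ha hb a1 b1 ab.symm
    have h3 := c.fcl_pos (c.sq ha) a1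
    have h4 := c.fcl_pos (c.sq hb) b1
    have h5 := c.fcl_pos (c.sq (mul_mem ha hb)) (c.mul_ne_one ha ab.symm)
    have : 1 < Nat.card {w : V // ∀ v ∈ V, ¬ IsConj (s * w) v} :=
      Finite.one_lt_card_iff_nontrivial.2 ⟨⟨⟨⟨w, hw⟩, hn⟩, ⟨⟨v, hv⟩, fun v' hv' e' =>
        hcon.2 v' hv' (e.trans e')⟩, fun e' => hcon.1 (by
          rwa [show w = v from congrArg (fun a => (a.1 : G)) e'])⟩⟩
    omega
  · obtain ⟨u, hu, e⟩ := c.fpos v (c.sq hv) v1
    exact ⟨_, mul_mem hw hu, sw u hu ▸ e⟩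

end C4

end Cfsg.Agent.L0.C12
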