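import Mathlib
import Cfsg.Agent.L0.C12CS
import Cfsg.Agent.H4.C12P3

/-!
# Centralizers of outer elements
-/

set_option autoImplicit false

namespace Cfsg.Agent.L0.C12

open Subgroup Cfsg.Agent.L0.SC3 Cfsg.Agent.H9 Cfsg.Agent.H1.T3
open scoped commutatorElement Pointwise

universe u

variable {G : Type u} [Group G] [Finite G] {x s : G} {V : Subgroup G}

theorem Ctx.card_inf_le (c : Ctx x s V) {B : Subgroup G} (hB : ∀ b ∈ B, b ^ 3 = 1 → b = 1)
    {y : G} (y1 : y ≠ 1) (y3 : y ^ 3 = 1) :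
    Nat.card (B ⊓ centralizer {y} : Subgroup G) ≤ Nat.card V := by
  obtain ⟨g, c'⟩ := c.of_cube y1 y3
  rw [← card_conj_smul V g]
  exact card_le_of_le fun b hb => c'.mem_of_commute hB hb.1 (SC3.mem_cent.1 hb.2).symm

/-- The centralizer of an outer element in an `x`-invariant `3'`-group is small. -/
theorem Ctx.sqrtV (c : Ctx x s V) {K A B : Subgroup G} (xK : Inv x K) {τ : G}
    (out : τ * x * τ⁻¹ * x ∈ K) (hB : Inv x B) (AB : A ≤ B) (hA : ∀ a ∈ A, Commute τ a) :
    Nat.card A ^ 2 ≤ Nat.card V * Nat.card B := by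
  have x3 := c.t3.cube
  have := card_mul_le AB (A' := MulAut.conj x • A) fun a ha => by
    simpa [mul_assoc] using hB.conj _ (AB (mem_conj_smul_iff.mp ha))
  rw [card_conj_smul, ← pow_two] at this
  obtain ⟨m, w, hw, e⟩ := pow_conj (g := τ * (x * τ * x⁻¹)⁻¹) xK x3 (by
    convert out using 1
    simp only [mul_inv_rev, inv_inv, mul_assoc, inv_mul_inv_of_cube x3])
  refine this.trans (Nat.mul_le_mul_right _ (le_trans (card_le_of_le fun a ⟨h1, h2⟩ => ?_)
    (c.card_inf_le hB.cube (c.t3.conj w).ne (c.t3.conj w).cube)))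
  refine ⟨AB h1, SC3.mem_cent.2 ?_⟩
  rw [← e]
  refine Commute.pow_right ((hA a h1).symm.mul_right (Commute.inv_right ?_)) m
  simpa [mul_assoc] using (hA _ (mem_conj_smul_iff.1 h2)).symm.conj x

/-- The same for an element inverting `x`. -/
theorem Ctx.sqrtV' (c : Ctx x s V) {A B : Subgroup G} {τ : G}
    (out : τ * x * τ⁻¹ = x⁻¹) (hB : Inv x B) (AB : A ≤ B) (hA : ∀ a ∈ A, Commute τ a) :
    Nat.card A ^ 2 ≤ Nat.card V * Nat.card B :=
  c.sqrtV hB (by simp [out]) hB AB hA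

end Cfsg.Agent.L0.C12
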