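import Mathlib
import Cfsg.Agent.L0.C12Sq
import Cfsg.Agent.H7.C12T3
import Cfsg.Agent.H7.C12NC

/-!
# The configuration `CS`: preliminaries
-/

set_option autoImplicit false

namespace Cfsg.Agent.L0.C12

open Subgroup Cfsg.Agent.L0.SC3 Cfsg.Agent.H9 Cfsg.Agent.H1.T3
open scoped commutatorElement Pointwise MatrixGroups

universe u

set_option synthInstance.maxSize 2000 in
set_option synthInstance.maxHeartbeats 200000 in
theorem l7_two0 : ∃ x p q : L7, x ≠ 1 ∧ x ^ 3 = 1 ∧ p ≠ 1 ∧ q ≠ 1 ∧ ∀ u : L7, u * u = 1 → u ≠ 1 →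
    u * (x * u * x⁻¹) * (x⁻¹ * u * x) = 1 →
    (u = p ∨ u = x * p * x⁻¹ ∨ u = x⁻¹ * p * x) ∨ (u = q ∨ u = x * q * x⁻¹ ∨ u = x⁻¹ * q * x) := by
  refine ⟨QuotientGroup.mk' _ (sfm 7 0 1 6 6 rfl), QuotientGroup.mk' _ (sfm 7 0 2 3 0 rfl),
    QuotientGroup.mk' _ (sfm 7 0 3 2 0 rfl), ?_, ?_, ?_, ?_, fun u => ?_⟩
  · simp only [← map_one (QuotientGroup.mk' (center SL(2, ZMod 7))), sf_mk_eq, ne_eq]
    decide +kernel
  · simp only [← map_pow, ← map_one (QuotientGroup.mk' (center SL(2, ZMod 7))), sf_mk_eq]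
    decide +kernel
  · simp only [← map_one (QuotientGroup.mk' (center SL(2, ZMod 7))), sf_mk_eq, ne_eq]
    decide +kernel
  · simp only [← map_one (QuotientGroup.mk' (center SL(2, ZMod 7))), sf_mk_eq, ne_eq]
    decide +kernel
  obtain ⟨A, rfl⟩ := QuotientGroup.mk'_surjective _ u
  obtain ⟨a, b, c, d, h, rfl⟩ : ∃ a b c d h, A = sfm 7 a b c d h :=
    ⟨A.1 0 0, A.1 0 1, A.1 1 0, A.1 1 1, by rw [← Matrix.det_fin_two]; exact A.2,
      Subtype.ext (Matrix.eta_fin_two _)⟩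
  simp only [← map_mul, ← map_inv, ← map_one (QuotientGroup.mk' (center SL(2, ZMod 7))),
    sf_mk_eq, ne_eq]
  revert a b c d
  decide +kernel

/-- An element of order three of `L₂(7)` normalises only two four-groups. -/
theorem l7_two {y : L7} (y1 : y ≠ 1) (y3 : y ^ 3 = 1) : ∃ p q : L7, p ≠ 1 ∧ q ≠ 1 ∧ ∀ B : Subgroup L7,
    (∀ b ∈ B, y * b * y⁻¹ ∈ B) → ∀ u ∈ B, u * u = 1 → u ≠ 1 →
    u * (y * u * y⁻¹) * (y⁻¹ * u * y) = 1 → p ∈ B ∨ q ∈ B := by
  obtain ⟨x, p, q, x1, x3, p1, q1, h⟩ := l7_two0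
  have key : ∀ B : Subgroup L7, (∀ b ∈ B, x * b * x⁻¹ ∈ B) → ∀ u ∈ B, u * u = 1 → u ≠ 1 →
      u * (x * u * x⁻¹) * (x⁻¹ * u * x) = 1 → p ∈ B ∨ q ∈ B := fun B hB u hu h1 h2 h3 => by
    have hB' := mem_normalizer_iff.1 (mem_normalizer_of_conj hB)
    have hB'' := mem_normalizer_iff''.1 (mem_normalizer_of_conj hB)
    refine (h u h1 h2 h3).imp ?_ ?_ <;> rintro (rfl | rfl | rfl)
    exacts [hu, (hB' _).2 hu, (hB'' _).2 hu, hu, (hB' _).2 hu, (hB'' _).2 hu]
  obtain ⟨l, -, e⟩ := exists_conj_three (L := ⊤) (mem_top x) (mem_top y) x3 x1 y3 y1 (by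
    rw [card_top, card_psl27]; norm_num)
  refine ⟨l * p * l⁻¹, l * q * l⁻¹, by simpa using p1, by simpa using q1,
    fun B hB u hu h1 h2 h3 => ?_⟩
  have hB' : ∀ b ∈ B, y⁻¹ * b * y ∈ B := fun b hb =>
    (mem_normalizer_iff''.1 (mem_normalizer_of_conj hB) b).1 hb
  have := key (MulAut.conj l⁻¹ • B) (fun b hb => by
    rw [mem_conj_smul_iff] at hb ⊢
    rcases e with e | e
    · convert hB _ hb using 1; rw [← e]; group
    · convert hB' _ hb using 1; rw [← inv_inv y, ← e]; group) (l⁻¹ * u * l)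
    (by rw [mem_conj_smul_iff]; simpa [mul_assoc] using hu)
    (by calc _ = l⁻¹ * (u * u) * l := by group
          _ = 1 := by rw [h1]; group)
    (by simpa [inv_mul_eq_iff_eq_mul, mul_assoc] using h2) (by
    rcases e with e | e
    · calc _ = l⁻¹ * (u * (y * u * y⁻¹) * (y⁻¹ * u * y)) * l := by rw [← e]; group
        _ = 1 := by rw [h3]; group
    · have e1 : y * u * y⁻¹ * (y * u * y⁻¹) = 1 := by
        rw [show y * u * y⁻¹ * (y * u * y⁻¹) = y * (u * u) * y⁻¹ by group, h1]; group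
      have e2 : y⁻¹ * u * y * (y⁻¹ * u * y) = 1 := by
        rw [show y⁻¹ * u * y * (y⁻¹ * u * y) = y⁻¹ * (u * u) * y by group, h1]; group
      have e3 : u * (y⁻¹ * u * y) * (y * u * y⁻¹) = 1 := by
        have := congrArg (·⁻¹) h3
        simp only [mul_inv_rev, inv_eq_of_mul_eq_one_right e1, inv_eq_of_mul_eq_one_right e2,
          inv_eq_of_mul_eq_one_right h1, inv_one] at this
        rw [mul_assoc, ← mul_inv_eq_one.2 (rfl : u = u), inv_eq_of_mul_eq_one_right h1,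
          mul_right_inj, ← inv_eq_of_mul_eq_one_right h1, eq_inv_iff_mul_eq_one, mul_assoc]
        simpa only [mul_assoc, inv_eq_of_mul_eq_one_right h1] using this
      calc _ = l⁻¹ * (u * (y⁻¹ * u * y) * (y * u * y⁻¹)) * l := by
            rw [← inv_inv y, ← e]; group
        _ = 1 := by rw [e3]; group)
  simpa only [mem_conj_smul_iff, inv_inv] using this

section
variable {G : Type*} [Group G]

/-- The subgroup generated by the central involutions. -/
def omz (T : Subgroup G) : Subgroup G where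
  carrier := {a | a ∈ T ∧ a * a = 1 ∧ ∀ q ∈ T, Commute a q}
  one_mem' := ⟨one_mem _, one_mul _, fun q _ => Commute.one_left q⟩
  mul_mem' := fun {a b} ha hb => ⟨mul_mem ha.1 hb.1, by
    rw [mul_assoc, ← mul_assoc b, (hb.2.2 a ha.1).eq, mul_assoc, hb.2.1, mul_one, ha.2.1],
    fun q hq => (ha.2.2 q hq).mul_left (hb.2.2 q hq)⟩
  inv_mem' := fun {a} ha => by rwa [inv_eq_of_mul_eq_one_right ha.2.1]

theorem omz_le {T : Subgroup G} : omz T ≤ T := fun _ ha => ha.1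

theorem omz_two {T : Subgroup G} : IsPGroup 2 (omz T) :=
  isPGroup_of_el2 fun _ ha => El2.of_sq ha.2.1

theorem omz_conj {T : Subgroup G} {g a : G} (hg : g ∈ normalizer (T : Set G)) (ha : a ∈ omz T) :
    g * a * g⁻¹ ∈ omz T :=
  ⟨conj_mem_of_mem_normalizer hg ha.1, by
    rw [show g * a * g⁻¹ * (g * a * g⁻¹) = g * (a * a) * g⁻¹ by group, ha.2.1]; group,
    fun q hq => by
      have := (ha.2.2 _ (conj_mem_of_mem_normalizer (inv_mem hg) hq)).conj g
      simpa [mul_assoc] using this⟩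

/-- The conjugates of `v` under `X` lie in `Y`. -/
theorem card_le_orbit [Finite G] {X Y : Subgroup G} {v : G} (h : ∀ g ∈ X, g * v * g⁻¹ ∈ Y) :
    Nat.card X ≤ Nat.card Y * Nat.card (centralizer ({v} : Set G)) := by
  rw [← card_mul_relIndex_of_le (inf_le_right : centralizer {v} ⊓ X ≤ X), inf_relIndex_right,
    mul_comm]
  refine Nat.mul_le_mul ?_ (card_le_of_le inf_le_left)
  refine Nat.card_le_card_of_injective (fun q : X ⧸ (centralizer {v}).subgroupOf X =>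
    (⟨(q.out : G) * v * (q.out : G)⁻¹, h _ q.out.2⟩ : Y)) fun a b e => ?_
  rw [← a.out_eq', ← b.out_eq', QuotientGroup.eq, mem_subgroupOf, SC3.mem_cent]
  have e' : (a.out : G) * v * (a.out : G)⁻¹ = b.out * v * (b.out : G)⁻¹ := congrArg Subtype.val e
  change (a.out : G)⁻¹ * b.out * v = v * ((a.out : G)⁻¹ * b.out)
  calc _ = (a.out : G)⁻¹ * (b.out * v * (b.out : G)⁻¹) * b.out := by group
    _ = _ := by rw [← e']; group

theorem TI.le_of_gen [Finite G] {x s : G} {L K P : Subgroup G} (c : TI x L K) (h : T3 x)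
    (hsL : s ∈ L) (hs : s * x * s⁻¹ = x⁻¹) (hK : K ≤ P) (hx : x ∈ P) (hsP : s ∈ P) : L ≤ P := by
  have key : ∀ g ∈ L, g * x * g⁻¹ * x⁻¹ ∈ K → g ∈ P := fun g hg e => by
    rcases c.decomp h hg e with e | e | e
    · exact hK e
    · exact (mul_mem_cancel_right (inv_mem hx)).1 (hK e)
    · exact (mul_mem_cancel_right hx).1 (hK e)
  intro g hg
  rcases c.act g hg with e | e
  · exact key g hg e
  · exact (mul_mem_cancel_right hsP).1 (key _ (mul_mem hg hsL) (c.act_mul hg e (by simp [hs])))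

theorem Fpf.trick' [Finite G] {x : G} {B D : Subgroup G} (f : Fpf x B D)
    (hD : ∀ d ∈ D, d * d = 1 ∧ ∀ b ∈ B, Commute d b) {u : G} (hu : u ∈ B) (h2 : u * u = 1) :
    Commute u (x * u * x⁻¹) := by
  have e1 : x * u * x⁻¹ * (x * u * x⁻¹) = 1 := by
    rw [show x * u * x⁻¹ * (x * u * x⁻¹) = x * (u * u) * x⁻¹ by group, h2]; group
  have e2 : x⁻¹ * u * x * (x⁻¹ * u * x) = 1 := by
    rw [show x⁻¹ * u * x * (x⁻¹ * u * x) = x⁻¹ * (u * u) * x by group, h2]; group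
  have e3 : u * (x * u * x⁻¹) * (u * (x * u * x⁻¹)) = 1 := by
    obtain ⟨htt, ht⟩ := hD _ (f.norm hu)
    generalize e : u * (x * u * x⁻¹) * (x⁻¹ * u * x) = t at htt ht
    rw [eq_mul_inv_of_mul_eq e, inv_eq_of_mul_eq_one_right e2, mul_assoc, ← mul_assoc _ t,
      ← (ht _ (f.conj' hu)).eq, mul_assoc, e2, mul_one, htt]
  have := inv_eq_of_mul_eq_one_right e3
  rw [mul_inv_rev, inv_eq_of_mul_eq_one_right e1, inv_eq_of_mul_eq_one_right h2] at this
  exact this.symm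

end

variable {G : Type u} [Group G] [Finite G] {x s : G} {V : Subgroup G}

theorem Ctx.fpf (c : Ctx x s V) {B D : Subgroup G} (hB : Inv x B) (hV : V ≤ D) (hD : D ≤ B)
    (nD : ∀ b ∈ B, ∀ d ∈ D, b * d * b⁻¹ ∈ D) (xD : ∀ d ∈ D, x * d * x⁻¹ ∈ D) : Fpf x B D :=
  ⟨c.t3.cube, c.t3.ne, hB, hD, nD, xD, fun _ hb h => hV (c.mem_of_commute hB.cube hb h)⟩

/-- A type II subgroup with a normal `2`-subgroup containing `V`, `|V| = 4`. -/
theorem Ctx.tii_of_le (c : Ctx x s V) (h4 : Nat.card V = 4) {L K M D : Subgroup G}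
    (h : TII x L K M) (hV : V ≤ D) (hD : D ≤ L) (h2 : IsPGroup 2 D)
    (nD : ∀ l ∈ L, ∀ d ∈ D, l * d * l⁻¹ ∈ D) :
    K = D ∧ M = L ∧ Quo L7 K M ∧ Nat.card L = 168 * Nat.card D := by
  have xL := h.le' h.mem
  have DK : D ≤ K := h.max D hD nD fun e => c.t3.ne (cube_of_two h2 x e c.t3.cube)
  have e1 : K = D := le_antisymm (h.L0 c.t3 (c.fpf ⟨h.nK x xL, h.cube⟩ hV DK
    (fun b hb => nD b (h.le' (h.le hb))) (nD x xL)) (c.Lodd h) nD h.nK) DK
  have e2 : M = L := le_antisymm h.le' fun g hg => by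
    obtain ⟨m, hm, k, -, h1, h3, rfl⟩ := h.fra g hg
    exact mul_mem hm (h.le (DK (hV ((c.memV k).2 ⟨h1, h3⟩))))
  have q : Quo L7 K M := h.quo.resolve_right fun q => by
    have := (c.L13 h q).2
    have := card_le_of_le (hV.trans DK)
    omega
  exact ⟨e1, e2, q, by rw [← e2, q.card h.le, card_psl27, e1, mul_comm]⟩

namespace CS

variable {T : G → Subgroup G} (c : CS x s V T) {v : G} (hv : v ∈ V) (v1 : v ≠ 1)
include c hv v1

theorem card_H : Nat.card (centralizer ({v} : Set G)) = 6 * Nat.card (T v) :=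
  (c.ti v hv v1).card c.t3 (c.s_mem hv) c.sx

theorem V_le : V ≤ T v := c.le_TI (c.ti v hv v1) (c.le_cent hv)

theorem inv_T : Inv x (T v) := (c.ti v hv v1).inv

theorem comm_T {k : G} (hk : k ∈ T v) : Commute v k :=
  (SC3.mem_cent.1 ((c.ti v hv v1).le hk)).symm

theorem mem_omz : v ∈ omz (T v) := ⟨c.V_le hv v1 hv, c.sq hv, fun _ hq => c.comm_T hv v1 hq⟩

theorem card_T : ∃ j, Nat.card (T v) = 4 ^ (j + 1) :=
  c.card_four_pow c.card (c.two v hv v1) (c.inv_T hv v1).conj (c.V_le hv v1)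

theorem le_T {B : Subgroup G} (hB : Inv x B) (h : ∀ b ∈ B, Commute v b) : B ≤ T v :=
  (c.ti v hv v1).le_of_inv c.t3 hB fun b hb => SC3.mem_cent.2 (h b hb).symm

theorem not_le_cent : ¬ ∀ k ∈ T v, ∀ w ∈ V, Commute w k := by
  intro h
  have hT : ∀ w ∈ V, w ≠ 1 → T v = T w := fun w hw w1 =>
    eq_of_le_of_card_ge (c.le_T hw w1 (c.inv_T hv v1) fun b hb => h b hb w hw)
      (c.eq w hw w1 v hv v1).le
  have key : ∀ u ∈ V, u ≠ 1 → ∀ g, Commute g u → ∀ w ∈ V, Commute g w :=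
    fun u hu u1 g hg w hw => SC3.mem_cent.1 ((c.ti u hu u1).le_of_gen c.t3 (c.s_mem hu) c.sx
      (fun k hk => SC3.mem_cent.2 (h k (hT u hu u1 ▸ hk) w hw).symm) (c.x_mem hw) (c.s_mem hw)
      (SC3.mem_cent.2 hg))
  obtain ⟨w0, hw0, e⟩ := c.fus v hv v1
  obtain ⟨g, e⟩ := isConj_iff.1 e
  have c' := c.shift hw0
  have key' : ∀ u ∈ V, u ≠ 1 → ∀ k, Commute k (g * u * g⁻¹) → ∀ w ∈ V,
      Commute k (g * w * g⁻¹) := fun u hu u1 k hk w hw => by
    simpa [mul_assoc] using (key u hu u1 _ (T3.commute_conj hk.symm).symm w hw).conj g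
  have hH : ∀ w ∈ V, g * w * g⁻¹ ∈ centralizer ({v} : Set G) := fun w hw =>
    SC3.mem_cent.2 (key' v hv v1 v (e ▸ (c'.sV v hv).symm) w hw).symm
  have sT : g * v * g⁻¹ ∉ T v := e ▸ (c.ti v hv v1).notMem_of_inverts c.t3 c'.sx
  obtain ⟨u, hu, u1, huT⟩ : ∃ u ∈ V, u ≠ 1 ∧ g * u * g⁻¹ ∈ T v := by
    obtain ⟨a, ha, a1, av⟩ := exists_ne_two c.card v
    by_cases e1 : g * a * g⁻¹ ∈ T v
    · exact ⟨a, ha, a1, e1⟩
    refine ⟨a * v, mul_mem ha hv, fun e2 => av (by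
      rw [eq_inv_of_mul_eq_one_left e2, inv_eq_of_mul_eq_one_right (c.sq hv)]), ?_⟩
    have := (c.ti v hv v1).mul_mem_of_notMem c.t3 (B := MulAut.conj g • V)
      (cube_of_two (isPGroup_of_el2 fun b hb => El2.of_sq ((c.toCtx.conj g).sq hb)))
      (fun b hb => by
        obtain ⟨b, hb', rfl⟩ := exists_of_mem_conj_smul hb
        exact hH b hb') (conj_mem_conj_smul ha g) (conj_mem_conj_smul hv g) e1 sT
    convert this using 1; group
  set y := g * u * g⁻¹ with hy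
  have y2 : y * y = 1 := (c.toCtx.conj g).sq (conj_mem_conj_smul hu g)
  have h1 := (c.fpf (c.inv_T hv v1) le_rfl (c.V_le hv v1) (fun b hb d hd => by
    rw [← (h b hb d hd).eq, mul_inv_cancel_right]; exact hd) (fun d hd => by
    rw [(c.cx hd).eq, mul_inv_cancel_right]; exact hd)).trick'
    (fun d hd => ⟨c.sq hd, fun b hb => h b hb d hd⟩) huT y2
  have h2 := key' u hu u1 _ h1.symm v hv
  have h3 := key' u hu u1 _ (Commute.refl y) v hv
  rw [e] at h2 h3
  have h4 : x⁻¹ * y * x = x * y * x⁻¹ := by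
    calc x⁻¹ * y * x = (s * w0 * x * (s * w0)⁻¹) * (s * w0 * y * (s * w0)⁻¹) *
          (s * w0 * x * (s * w0)⁻¹)⁻¹ := by rw [c'.sx, ← h3.eq]; group
      _ = s * w0 * (x * y * x⁻¹) * (s * w0)⁻¹ := by group
      _ = _ := by rw [← h2.eq]; group
  have h5 : Commute x y := by
    have : x * x * y = y * (x * x) := by
      calc x * x * y = x * (x * y * x⁻¹) * x := by group
        _ = _ := by rw [← h4]; group
    rw [c.t3.mul_self] at this
    exact Commute.inv_left_iff.1 this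
  have h6 := key' u hu u1 x h5 v hv
  rw [e] at h6
  exact c.t3.ne_inv (by rw [← c'.sx, ← h6.eq, mul_inv_cancel_right])

theorem cent_V {w : G} (hw : w ∈ V) (h : ∀ k ∈ T v, Commute w k) : w = 1 ∨ w = v := by
  by_contra! e
  refine c.not_le_cent hv v1 fun k hk u hu => ?_
  rcases mem_four c.card hv hw (c.sq hv) v1 e.1 e.2.symm hu with rfl | rfl | rfl | rfl
  exacts [Commute.one_left k, c.comm_T hv v1 hk, h k hk, (c.comm_T hv v1 hk).mul_left (h k hk)]

theorem omz_fix {a : G} (ha : a ∈ omz (T v)) (h : Commute x a) : a = 1 ∨ a = v :=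
  c.cent_V hv v1 ((c.memV a).2 ⟨h, ha.2.1⟩) ha.2.2

theorem card_omz_fix : Nat.card (omz (T v) ⊓ centralizer {x} : Subgroup G) ≤ 2 := by
  rw [← orderOf_two (c.sq hv) v1, ← Nat.card_zpowers]
  exact card_le_of_le fun a ha => (mem_zpowers_two (c.sq hv)).2
    (c.omz_fix hv v1 ha.1 (SC3.mem_cent.1 ha.2).symm)

/-- Involutions centralizing large `2`-groups. -/
theorem isConj_of_big {P : Subgroup G} (hP : IsPGroup 2 P) (h : 2 * Nat.card (T v) < Nat.card P)
    {z : G} (z1 : z ≠ 1) (zz : z * z = 1) (hz : ∀ q ∈ P, Commute z q) : IsConj z s := by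
  have := factTwo
  refine (c.cls z zz z1).resolve_right fun ⟨w, hw, e⟩ => ?_
  have w1 : w ≠ 1 := fun e' => z1 (isConj_one_left.1 (e' ▸ e))
  have h1 : Nat.card P ∣ Nat.card (centralizer ({z} : Set G)) :=
    card_dvd_of_le fun q hq => SC3.mem_cent.2 (hz q hq).symm
  rw [card_cent_conj e, c.card_H hw w1, c.eq w hw w1 v hv v1] at h1
  obtain ⟨k, hk⟩ := IsPGroup.iff_card.1 hP
  rw [show 6 * Nat.card (T v) = 3 * (2 * Nat.card (T v)) by ring] at h1
  have := Nat.le_of_dvd (by have := @Nat.card_pos (T v) _ _; omega)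
    ((hk ▸ Nat.Coprime.pow_left k (by norm_num : Nat.Coprime 2 3)).dvd_of_dvd_mul_left h1)
  omega

theorem card_le_of_two {P : Subgroup G} (hP : IsPGroup 2 P) :
    Nat.card P ≤ 8 * Nat.card (T v) := by
  by_contra! h
  obtain ⟨z, -, z1, zz, hz⟩ := exists_invol_center hP (fun e => by
    have := @Nat.card_pos (T v) _ _
    rw [e, card_bot] at h; omega)
  have h1 := card_cent_conj (c.isConj_of_big hv v1 hP (by omega) z1 zz hz)
  have h2 := c.hi v hv v1
  have h3 : Nat.card P ≤ Nat.card (centralizer ({z} : Set G)) :=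
    card_le_of_le fun q hq => SC3.mem_cent.2 (hz q hq).symm
  omega

theorem cent_eq {P : Subgroup G} (hP : IsPGroup 2 P) (h : Nat.card P = 8 * Nat.card (T v))
    {z : G} (z1 : z ≠ 1) (zz : z * z = 1) (hz : ∀ q ∈ P, Commute z q) :
    IsConj z s ∧ centralizer {z} = P := by
  have h0 := c.isConj_of_big hv v1 hP (by have := @Nat.card_pos (T v) _ _; omega) z1 zz hz
  refine ⟨h0, (eq_of_le_of_card_ge (fun q hq => SC3.mem_cent.2 (hz q hq).symm) ?_).symm⟩
  rw [card_cent_conj h0, h]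
  exact c.hi v hv v1

end CS

end Cfsg.Agent.L0.C12
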