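import Mathlib
import Cfsg.Agent.L0.C12S1a
import Cfsg.Agent.H5.PGroupBasic

/-!
# The configuration `CS`: the groups `T v` are self-normalizing up to `S₃`
-/

set_option autoImplicit false

namespace Cfsg.Agent.L0.C12

open Subgroup Cfsg.Agent.L0.SC3 Cfsg.Agent.H9 Cfsg.Agent.H1.T3
open scoped commutatorElement Pointwise MatrixGroups

universe u

theorem exists_central_mod' {G : Type*} [Group G] [Finite G] {S N C : Subgroup G}
    (hS : IsPGroup 2 S) (hCS : C ≤ S) (nN : ∀ g ∈ S, ∀ a ∈ N, g * a * g⁻¹ ∈ N)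
    (nC : ∀ g ∈ S, ∀ a ∈ C, g * a * g⁻¹ ∈ C) (h : ¬ C ≤ N) :
    ∃ r ∈ C, r ∉ N ∧ r * r ∈ N ∧ ∀ g ∈ S, g * r * g⁻¹ * r⁻¹ ∈ N := by
  have := factTwo
  have : (N.subgroupOf S).Normal := ⟨fun a ha g => nN g g.2 a ha⟩
  have : (C.subgroupOf S).Normal := ⟨fun a ha g => nC g g.2 a ha⟩
  obtain ⟨r, h1, h2, h3, h4⟩ := H5.exists_central_mod hS (N.subgroupOf S) (C.subgroupOf S)
    fun e => h fun a ha => e (show (⟨a, hCS ha⟩ : S) ∈ C.subgroupOf S from ha)
  exact ⟨r, h1, h2, by rw [pow_two] at h3; exact h3, fun g hg => h4 ⟨g, hg⟩⟩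

variable {G : Type u} [Group G] [Finite G] {x s : G} {V : Subgroup G}

/-- A cyclic group of odd order prime to three is not normalised by `x` and an outer element. -/
theorem Ctx.exists_noncyclic (c : Ctx x s V) {L K : Subgroup G} (h : TI x L K) (hs : s ∈ L)
    (h2 : ¬ IsPGroup 2 K) : ∃ F ≤ K, (∀ a ∈ F, ∀ b ∈ F, Commute a b) ∧ ¬ IsCyclic F ∧
      Odd (Nat.card F) ∧ ∀ f ∈ F, x * f * x⁻¹ ∈ F := by
  obtain ⟨r, hr, hd, r2⟩ : ∃ r : ℕ, r.Prime ∧ r ∣ Nat.card K ∧ r ≠ 2 := by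
    by_contra! e
    exact h2 (IsPGroup.of_card (Nat.eq_prime_pow_of_unique_prime_dvd Nat.card_pos.ne'
      fun hr hd => e _ hr hd))
  have := Fact.mk hr
  have := Fact.mk Nat.prime_three
  have h3 := not_dvd_card_iff.2 h.cube
  obtain ⟨P, hP⟩ := H3.exists_sylow_normalized (zpowers_three c.t3.cube)
    (zpowers_le.2 (mem_normalizer_of_conj h.inv.conj)) h3 r
  have hR := isSylowIn_map_subtype P
  generalize (P : Subgroup K).map K.subtype = R at hP hR
  have xR := hP (mem_zpowers x)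
  have ho : Odd (Nat.card R) := H7.IsPGroup.odd_card hR.isPGroup (hr.odd_of_ne_two r2)
  have nF : ∀ g ∈ normalizer (R : Set G),
      g ∈ normalizer ((R ⊓ centralizer (R : Set G) : Subgroup G) : Set G) :=
    fun g hg => H7.le_norm_center le_rfl hg
  refine ⟨R ⊓ centralizer (R : Set G), inf_le_left.trans hR.le,
    fun a ha b hb => (ha.2 b hb.1).symm, fun hc => ?_, ho.of_dvd_nat (card_dvd_of_le inf_le_left),
    fun f hf => conj_mem_of_mem_normalizer (nF x xR) hf⟩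
  obtain ⟨l, hl, e⟩ := hR.frattini (mem_normalizer_of_conj (h.normal s hs))
  obtain ⟨f, hf, e1⟩ := conj_of_coset (E := K ⊓ normalizer (R : Set G))
    (fun b hb => h.cube b hb.1) (b := x⁻¹) (y := l * s * x * (l * s)⁻¹)
    (fun b hb => mem_inf.2 ⟨h.symm.inv.conj b hb.1, mul_mem (mul_mem (inv_mem xR) hb.2)
      (inv_mem (inv_mem xR))⟩) c.t3.inv.cube (c.t3.conj _).cube
    <| mem_inf.2 ⟨by
      have := mul_mem hl (h.symm.inv.conj _ (inv_mem hl))
      convert this using 1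
      rw [show l * s * x * (l * s)⁻¹ = l * (s * x * s⁻¹) * l⁻¹ by group, c.sx]; group,
    mul_mem (mul_mem (mul_mem e xR) (inv_mem e)) (inv_mem (inv_mem xR))⟩
  have h4 := H7.der1_cent_cyclic hc le_rfl (commutator_mem_commutator
    (nF _ (mul_mem (inv_mem hf.2) e)) (nF x xR))
  rw [commutatorElement_def, show f⁻¹ * (l * s) * x * (f⁻¹ * (l * s))⁻¹ =
    f⁻¹ * (l * s * x * (l * s)⁻¹) * f by group, e1, show f⁻¹ * (f * x⁻¹ * f⁻¹) * f * x⁻¹ =
    x⁻¹ * x⁻¹ by group, inv_mul_inv_of_cube c.t3.cube] at h4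
  obtain ⟨w, hw, w1⟩ := H7.exists_ne_one_of_ne_bot
    (H7.center_ne_bot_of_nil (H7.nil_of_pgroup hR.isPGroup) (hR.ne_bot hd))
  exact w1 (eq_one_of_odd' (ho.of_dvd_nat (R.orderOf_dvd_natCard hw.1))
    (c.t3.sq_of_commute h.cube (hR.le hw.1) (h4 w hw).symm))

namespace CS

variable {T : G → Subgroup G} (c : CS x s V T) {v : G} (hv : v ∈ V) (v1 : v ≠ 1)
include c hv v1

theorem H_le_norm : centralizer {v} ≤ normalizer (T v : Set G) :=
  fun g hg => mem_normalizer_of_conj ((c.ti v hv v1).normal g hg)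

theorem norm_ne_top : normalizer (T v : Set G) ≠ ⊤ :=
  c.normalizer_ne_top' (fun e => v1 (by simpa [e] using c.V_le hv v1 hv)) (c.inv_T hv v1).cube

theorem not_tii {K M : Subgroup G} (h : TII x (normalizer (T v : Set G)) K M) : False := by
  have := factTwo
  obtain ⟨rfl, rfl, q, hc⟩ := c.tii_of_le c.card h (c.V_le hv v1) le_normalizer (c.two v hv v1)
    fun l hl d hd => conj_mem_of_mem_normalizer hl hd
  obtain ⟨θ, hθ, h7, hx⟩ := h.theta c.t3 (c.two v hv v1) q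
  obtain ⟨j, hj⟩ := c.card_T hv v1
  obtain ⟨P, hP⟩ := exists_isSylowIn 2 (normalizer (T v : Set G))
  have h1 : Nat.card P = 8 * Nat.card (T v) := by
    refine le_antisymm (c.card_le_of_two hv v1 hP.isPGroup) (Nat.le_of_dvd Nat.card_pos ?_)
    have h2 := card_mul_relIndex_of_le hP.le
    refine Nat.Coprime.dvd_of_dvd_mul_right (k := 8 * Nat.card (T v)) ?_
      (by rw [h2, hc]; exact ⟨21, by ring⟩)
    rw [hj, show 8 * 4 ^ (j + 1) = 2 ^ (2 * (j + 1) + 3) by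
      rw [pow_add 2, pow_mul]; norm_num [mul_comm]]
    exact ((Nat.Prime.coprime_iff_not_dvd Nat.prime_two).2 hP.not_dvd).pow_left _
  obtain ⟨z, -, z1, zz, hz⟩ := exists_invol_center hP.isPGroup (fun e => by
    rw [e, card_bot] at h1; omega)
  obtain ⟨h2, h3⟩ := c.cent_eq hv v1 hP.isPGroup h1 z1 zz hz
  have h4 := FC (K := omz (T v)) omz_two (fun a => omz_conj hθ) (fun a => omz_conj h.mem)
    (h7 ▸ pow_orderOf_eq_one θ) c.t3.cube hx fun a ha hc => by_contra fun a1 => by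
      have h5 : 7 ∣ Nat.card (centralizer ({a} : Set G)) :=
        h7 ▸ (centralizer {a}).orderOf_dvd_natCard (SC3.mem_cent.2 hc)
      have h6 : ¬ 7 ∣ Nat.card (T v) := hj ▸ fun e => absurd
        ((by norm_num : Nat.Prime 7).dvd_of_dvd_pow e) (by norm_num)
      rcases c.cls a ha.2.1 a1 with e | ⟨w, hw, e⟩
      · rw [card_cent_conj (e.trans h2.symm), h3, h1] at h5
        omega
      · have w1 : w ≠ 1 := fun e' => a1 (isConj_one_left.1 (e' ▸ e))
        rw [card_cent_conj e, c.card_H hw w1, c.eq w hw w1 v hv v1] at h5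
        omega
  have h5 := card_le_orbit (X := normalizer (T v : Set G)) fun g hg =>
    omz_conj hg (c.mem_omz hv v1)
  have h6 := Nat.pow_le_pow_left (c.card_omz_fix hv v1) 3
  rw [hc, c.card_H hv v1] at h5
  have := @Nat.card_pos (T v) _ _
  nlinarith

theorem inf_le_T {K : Subgroup G} (hK : Inv x K) {g : G} (hg : g ∈ K) (h : Commute g v) :
    g ∈ T v :=
  c.le_T hv v1 (B := K ⊓ centralizer {v})
    ⟨fun b hb => mem_inf.2 ⟨hK.conj b hb.1, mul_mem (mul_mem (c.x_mem hv) hb.2)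
      (inv_mem (c.x_mem hv))⟩, fun b hb => hK.cube b hb.1⟩
    (fun _ hb => (SC3.mem_cent.1 hb.2).symm) ⟨hg, SC3.mem_cent.2 h⟩

theorem two_of_ti {K : Subgroup G} (h : TI x (normalizer (T v : Set G)) K) : IsPGroup 2 K := by
  by_contra h2
  obtain ⟨F, FK, hab, hnc, ho, xF⟩ := c.exists_noncyclic h (c.H_le_norm hv v1 (c.s_mem hv)) h2
  have h1 := NC c.t3 (omz_two (T := T v)) hab hnc ho (fun b hb => h.cube b (FK hb))
    (fun f hf u => omz_conj (h.le (FK hf))) (fun u => omz_conj h.mem) xF fun f hf hc => by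
      have h3 : f ∈ T v := c.inf_le_T hv v1 h.inv (FK hf) (hc v (c.mem_omz hv v1))
      obtain ⟨k, hk⟩ := El2.of_mem (c.two v hv v1) h3
      exact orderOf_eq_one_iff.1 (Nat.eq_one_of_dvd_coprimes ((Nat.coprime_two_right.2
        (ho.of_dvd_nat (F.orderOf_dvd_natCard hf))).pow_right k) dvd_rfl
        (orderOf_dvd_of_pow_eq_one hk))
  have h3 := c.card_omz_fix hv v1
  have := @Nat.card_pos (omz (T v) ⊓ centralizer (F : Set G) ⊓ centralizer {x} : Subgroup G) _ _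
  omega

/-- The end of the argument for a large normalizer. -/
theorem not_big {R : Subgroup G} (hR : IsPGroup 2 R) (xR : ∀ b ∈ R, x * b * x⁻¹ ∈ R)
    (sR : ∀ b ∈ R, s * b * s⁻¹ ∈ R) (s1 : s ∉ R) (TR : T v ≤ R)
    (hc : Nat.card R = 4 * Nat.card (T v)) {r y : G} (rN : r ∈ normalizer (T v : Set G))
    (rs : r⁻¹ * s * r * s ∈ T v) (e : r * v * r⁻¹ = v * y) (hy : y ∈ omz R) (y1 : y ≠ 1)
    (yv : y ∉ V) (yT : y ∈ T v) (sy : Commute s y) (hn : y * (x * y * x⁻¹) * (x⁻¹ * y * x) = 1) :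
    False := by
  have hS := isPGroup_sup_invol c.ss sR hR
  have cS := card_sup_invol c.ss sR s1
  have iS := idx2_sup_invol c.ss sR s1
  have mS := fun g => mem_sup_invol (g := g) c.ss sR
  set S := R ⊔ zpowers s
  obtain ⟨⟨g, hg⟩, hC⟩ := (c.cent_eq hv v1 hS (by omega) y1 hy.2.1 fun q hq => by
    rcases (mS q).1 hq with h | h
    · exact hy.2.2 q h
    · have := (hy.2.2 _ h).mul_right sy.symm
      rwa [mul_assoc, c.ss, mul_one] at this).imp_left isConj_iff.1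
  have mC : ∀ k, k ∈ S ↔ Commute k y := fun k => by rw [← hC, SC3.mem_cent]
  have mC' : ∀ k, Commute k s → g⁻¹ * k * g ∈ S := fun k hk =>
    (mC _).2 (T3.commute_conj (hg ▸ hk.symm)).symm
  set w := x * y * x⁻¹ with hw
  have wR : w ∈ omz R := omz_conj (mem_normalizer_of_conj xR) hy
  have sw : s * w * s⁻¹ = y * w := by
    have : x⁻¹ * y * x = y * w := by
      rw [eq_inv_of_mul_eq_one_right hn, inv_eq_of_mul_eq_one_right (mul_mem hy wR).2.1]
    rw [← this, hw]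
    calc _ = (s * x * s⁻¹) * (s * y * s⁻¹) * (s * x * s⁻¹)⁻¹ := by group
      _ = _ := by rw [c.sx, sy.eq]; group
  set w' := g * w * g⁻¹ with hw'
  have cw : ∀ k, g⁻¹ * k * g ∈ R → Commute k w' ∧ Commute k s := fun k hk =>
    ⟨by simpa [mul_assoc, hw'] using (wR.2.2 _ hk).symm.conj g,
      by simpa [mul_assoc, ← hg] using (hy.2.2 _ hk).symm.conj g⟩
  have w's : Commute w' s := (cw w' (by simpa [hw', mul_assoc] using wR.1)).2
  have H2 : ∀ a b, a ∈ centralizer ({v} : Set G) → b ∈ centralizer ({v} : Set G) → b ∉ T v →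
      ∀ l, Commute (l * a * l⁻¹) s → Commute (l * b * l⁻¹) s → a ∈ T v ∨ a * b ∈ T v :=
    fun a b ha hb h1 l h2 h3 => or_iff_not_imp_left.2 fun h4 =>
      (c.ti v hv v1).mul_mem_of_notMem c.t3
        (B := MulAut.conj (l⁻¹ * g) • S ⊓ centralizer {v})
        (cube_of_two ((hS.of_equiv (S.equivSMul (MulAut.conj (l⁻¹ * g)))).to_le inf_le_left))
        inf_le_right
        ⟨mem_conj_smul_iff.2 (by convert mC' _ h2 using 1; group), ha⟩
        ⟨mem_conj_smul_iff.2 (by convert mC' _ h3 using 1; group), hb⟩ h4 h1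
  have sT : s ∉ T v := fun e => s1 (TR e)
  have hw'S : w' ∈ S := by
    have sv := (c.sV v hv).symm
    by_cases h1 : g⁻¹ * y * g ∈ R
    · exact (mC _).2 (cw y h1).1.symm
    by_cases h2 : g⁻¹ * v * g ∈ R
    · exact (mS _).2 ((H2 w' s (SC3.mem_cent.2 (cw v h2).1.symm) (c.s_mem hv) sT 1 (by simpa)
        (by simp)).imp (@TR _) (@TR _))
    have h3 : g⁻¹ * (v * y) * g ∈ R := by
      have := (iS.mul _ (mC' v sv) _ (mC' y sy.symm)).2 (iff_of_false h2 h1)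
      convert this using 1; group
    have h4 := (cw _ h3).1
    rw [← e] at h4
    have h5 : r⁻¹ * s * r ∈ centralizer ({v} : Set G) :=
      (mul_mem_cancel_right (c.s_mem hv)).1 ((c.ti v hv v1).le rs)
    have nT := mem_normalizer_iff''.1 rN
    rw [mS]
    refine (H2 (r⁻¹ * w' * r) (r⁻¹ * s * r) (SC3.mem_cent.2 (T3.commute_conj h4).symm) h5
      (fun e => sT ((nT s).2 e)) r (by simpa [mul_assoc] using w's)
      (by simp [mul_assoc])).imp (fun e => TR ((nT _).2 e)) fun e => TR ((nT _).2 ?_)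
    convert e using 1; group
  have ws : w * s * w⁻¹ = y * s := by
    calc w * s * w⁻¹ = w * (s * w * s⁻¹)⁻¹ * s := by group
      _ = _ := by
        rw [sw, mul_inv_rev, mul_inv_cancel_left, inv_eq_of_mul_eq_one_right hy.2.1]
  -- `w` commutes with `w'` or `w' s`
  have key : ∀ k, g⁻¹ * k * g ∈ R → Commute k y := by
    have main : ∀ u0, (u0 = x * y * x⁻¹ ∨ u0 = x⁻¹ * y * x) → Commute (g⁻¹ * w * g) u0 →
        g⁻¹ * (y * s) * g ∈ omz R := fun u0 h1 h2 => by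
      have nS : ∀ k ∈ S, k ∈ normalizer (R : Set G) := fun k hk =>
        mem_normalizer_of_conj fun b hb => (iS.conj (iS.le hb) hk).2 hb
      have xN := mem_normalizer_of_conj xR
      have h3 : g⁻¹ * w * g ∈ normalizer (R : Set G) := by
        rcases h1 with rfl | rfl
        · have := nS _ ((mC _).2 (T3.commute_conj h2.symm).symm)
          exact (mul_mem_cancel_left (inv_mem xN)).1 ((mul_mem_cancel_right xN).1 this)
        · have := nS _ ((mC _).2 (T3.commute_conj (g := x⁻¹) (by simpa using h2.symm)).symm)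
          exact (mul_mem_cancel_left (inv_mem (inv_mem xN))).1
            ((mul_mem_cancel_right (inv_mem xN)).1 this)
      convert omz_conj h3 hy using 1
      rw [← ws, ← hg]; group
    have h4 : g⁻¹ * (y * s) * g ∈ omz R := by
      rcases (mS _).1 hw'S with h | h
      · exact main _ (Or.inl rfl) (T3.commute_conj (wR.2.2 _ h).symm).symm
      · refine main (w * y) (Or.inr ?_) (T3.commute_conj (g := g) ?_).symm
        · rw [eq_inv_of_mul_eq_one_right hn, inv_eq_of_mul_eq_one_right (mul_mem hy wR).2.1,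
            (hy.2.2 w wR.1).eq]
        · convert (wR.2.2 _ h).symm using 1
          rw [hw', ← hg]; group
    intro k hk
    have h5 : Commute k (y * s) := by simpa [mul_assoc] using (h4.2.2 _ hk).symm.conj g
    have := h5.mul_right (cw k hk).2
    rwa [mul_assoc, c.ss, mul_one] at this
  have h6 := c.sqrtV' (A := MulAut.conj g • R ⊓ R) c.sx ⟨xR, cube_of_two hR⟩ inf_le_right
    fun a ha => (cw a (mem_conj_smul_iff.1 ha.1)).2.symm
  have h7 := card_le_two_mul (inf_le_left : MulAut.conj g • R ⊓ R ≤ _) fun a ha b hb h1 h2 =>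
    ⟨mul_mem ha hb, (iS.mul _ ((mC _).2 (key a (mem_conj_smul_iff.1 ha))) _
      ((mC _).2 (key b (mem_conj_smul_iff.1 hb)))).2
      (iff_of_false (fun e => h1 ⟨ha, e⟩) fun e => h2 ⟨hb, e⟩)⟩
  have h8 := two_mul_card_le (c.V_le hv v1) fun e => yv (e yT)
  rw [card_conj_smul] at h7
  rw [c.card] at h6 h8
  nlinarith

theorem norm : normalizer (T v : Set G) = centralizer {v} := by
  have xN := c.H_le_norm hv v1 (c.x_mem hv)
  have sN := c.H_le_norm hv v1 (c.s_mem hv)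
  refine le_antisymm ?_ (c.H_le_norm hv v1)
  obtain ⟨R, h⟩ | ⟨K, M, h⟩ := c.str_sub (c.norm_ne_top hv v1) xN
  swap
  · exact (c.not_tii hv v1 h).elim
  have hR := c.two_of_ti hv v1 h
  have TR : T v ≤ R := h.le_of_inv c.t3 (c.inv_T hv v1) le_normalizer
  by_cases RT : R ≤ T v
  · exact h.le_of_gen c.t3 sN c.sx (RT.trans (c.ti v hv v1).le) (c.x_mem hv) (c.s_mem hv)
  exfalso
  have f : Fpf x R (T v) := c.fpf h.inv (c.V_le hv v1) TR
    (fun b hb d => conj_mem_of_mem_normalizer (h.le hb)) (c.inv_T hv v1).conj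
  have hS := h.sylow c.t3 sN c.sx c.ss hR
  have big : ∀ B : Subgroup G, IsPGroup 2 B → Fpf x B (T v) → ¬ B ≤ T v →
      4 * Nat.card (T v) ≤ Nat.card B := fun B h2 f hB => by
    obtain ⟨j, hj⟩ := f.card h2
    have := two_mul_card_le f.le hB
    rcases j with _ | j
    · have := @Nat.card_pos (T v) _ _
      omega
    · rw [hj, pow_succ, mul_comm]
      exact Nat.mul_le_mul_left _ (Nat.le_mul_of_pos_left _ (by positivity))
  have hc : Nat.card R = 4 * Nat.card (T v) := by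
    have h1 := big R hR f RT
    have h2 := c.card_le_of_two hv v1 hS.isPGroup
    rw [h.card_S c.t3 sN c.sx c.ss] at h2
    omega
  obtain ⟨r, hr, r1, rr, rc⟩ := exists_central_mod' hS.isPGroup le_sup_left
    (fun g hg a => conj_mem_of_mem_normalizer (hS.le hg)) (fun g hg => h.normal g (hS.le hg)) RT
  have vY := c.mem_omz hv v1
  have rN := h.le hr
  set Y := omz (T v)
  have cY : ∀ a ∈ Y, ∀ b ∈ Y, Commute a b := fun a ha b hb => ha.2.2 b hb.1
  have fixT : ∀ k ∈ T v, ∀ a ∈ Y, k * a * k⁻¹ = a := fun k hk a ha => by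
    rw [← (ha.2.2 k hk).eq, mul_inv_cancel_right]
  have xv : x * v * x⁻¹ = v := by rw [(c.cx hv).eq, mul_inv_cancel_right]
  have xv' : x⁻¹ * v * x = v := by rw [mul_assoc, ← (c.cx hv).eq, inv_mul_cancel_left]
  obtain ⟨a, ha⟩ : ∃ a, a = r * v * r⁻¹ := ⟨_, rfl⟩
  have aY : a ∈ Y := ha ▸ omz_conj rN vY
  have a2Y : x * a * x⁻¹ ∈ Y := omz_conj xN aY
  have a3Y : x⁻¹ * a * x ∈ Y := by simpa using omz_conj (inv_mem xN) aY
  have av : a ≠ v := fun e => r1 (c.inf_le_T hv v1 h.inv hr (conj_eq_iff.1 (ha ▸ e)))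
  have a1 : a ≠ 1 := fun e => v1 (by simpa [ha] using e)
  have rr' : ∀ b ∈ Y, r * (r * b * r⁻¹) * r⁻¹ = b := fun b hb => by
    rw [show r * (r * b * r⁻¹) * r⁻¹ = r * r * b * (r * r)⁻¹ by group, fixT _ rr b hb]
  have e1 : r * a * r⁻¹ = v := ha ▸ rr' v vY
  have e2 : r * (x * a * x⁻¹) * r⁻¹ = x⁻¹ * a * x := by
    have h1 := fixT _ (f.norm hr) _ a3Y
    have h2 : x⁻¹ * r * x * (x⁻¹ * a * x) * (x⁻¹ * r * x)⁻¹ = v := by
      rw [← xv', ← e1]; group
    calc _ = r * (x * r * x⁻¹ * (x * v * x⁻¹) * (x * r * x⁻¹)⁻¹) * r⁻¹ := by rw [ha]; group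
      _ = r * (x * r * x⁻¹ * (x⁻¹ * r * x * (x⁻¹ * a * x) * (x⁻¹ * r * x)⁻¹) *
          (x * r * x⁻¹)⁻¹) * r⁻¹ := by rw [xv, h2]
      _ = _ := by rw [← h1, h1]; nth_rw 2 [← h1]; simp only [mul_inv_rev, mul_assoc]
  have e3 : r * (x⁻¹ * a * x) * r⁻¹ = x * a * x⁻¹ := by rw [← e2, rr' _ a2Y]
  have x3 : x * (x * a * x⁻¹) * x⁻¹ = x⁻¹ * a * x := by
    rw [show x * (x * a * x⁻¹) * x⁻¹ = x * x * a * (x * x)⁻¹ by group, c.t3.mul_self, inv_inv]
  generalize hb : x * a * x⁻¹ = b at *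
  generalize hd : x⁻¹ * a * x = d at *
  have xd : x * d * x⁻¹ = a := by rw [← hd]; group
  have sqY : ∀ a ∈ Y, a * a = 1 := fun a ha => ha.2.1
  have hp : a * b * d = v := by
    refine (c.omz_fix hv v1 (mul_mem (mul_mem aY a2Y) a3Y) (conj_eq_iff.1 ?_)).resolve_left
      fun e => av ?_
    · rw [show x * (a * b * d) * x⁻¹ = x * a * x⁻¹ * (x * b * x⁻¹) * (x * d * x⁻¹) by group, hb,
        x3, xd, (cY _ (mul_mem a2Y a3Y) _ aY).eq, mul_assoc]
    · have : r * (a * b * d) * r⁻¹ = v * d * b := by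
        rw [show r * (a * b * d) * r⁻¹ = r * a * r⁻¹ * (r * b * r⁻¹) * (r * d * r⁻¹) by group,
          e1, e2, e3]
      rw [e, mul_one, mul_inv_cancel, mul_assoc, (cY _ a3Y _ a2Y).eq] at this
      rw [mul_assoc] at e
      exact mul_right_cancel (e.trans this)
  have : IsMulCommutative Y := ⟨⟨fun a b => Subtype.ext (cY a a.2 b b.2)⟩⟩
  have vv := sqY v vY
  have bd : b * d = v * a := by
    rw [← hp, (cY _ (mul_mem (mul_mem aY a2Y) a3Y) _ aY).eq, mul_assoc, ← mul_assoc a, sqY a aY,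
      one_mul]
  have ad : a * d = v * b := by
    rw [← hp, (cY _ aY _ a2Y).eq, (cY _ (mul_mem (mul_mem a2Y aY) a3Y) _ a2Y).eq, mul_assoc,
      ← mul_assoc b, sqY b a2Y, one_mul]
  have ab : a * b = v * d := by rw [← hp, mul_assoc, sqY d a3Y, mul_one]
  let C : Subgroup G := R ⊓ (centralizer {v * a} ⊓ centralizer {v * b} ⊓ centralizer {v * d})
  have mC : ∀ k, k ∈ C ↔ k ∈ R ∧ (k * (v * a) * k⁻¹ = v * a ∧ k * (v * b) * k⁻¹ = v * b) ∧
      k * (v * d) * k⁻¹ = v * d := fun k => by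
    simp only [C, mem_inf, H1.T3.mem_cent, conj_eq_iff]
  have cj : ∀ k p q : G, k * (p * q) * k⁻¹ = k * p * k⁻¹ * (k * q * k⁻¹) := fun k p q => by group
  have TC : T v ≤ C := fun k hk => (mC k).2 ⟨TR hk, ⟨fixT k hk _ (mul_mem vY aY),
    fixT k hk _ (mul_mem vY a2Y)⟩, fixT k hk _ (mul_mem vY a3Y)⟩
  have rC : r ∈ C := (mC r).2 ⟨hr, ⟨by rw [cj, e1, ← ha, (cY _ aY _ vY).eq],
    by rw [cj, e2, ← ha, ad]⟩, by rw [cj, e3, ← ha, ab]⟩
  have xC : ∀ k ∈ C, x * k * x⁻¹ ∈ C := fun k hk => by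
    obtain ⟨h0, ⟨h1, h2⟩, h3⟩ := (mC k).1 hk
    have t : ∀ p q, x * p * x⁻¹ = q → k * (v * p) * k⁻¹ = v * p →
        x * k * x⁻¹ * (v * q) * (x * k * x⁻¹)⁻¹ = v * q := fun p q e1 e2 => by
      have e3 : x * (v * p) * x⁻¹ = v * q := by rw [cj, xv, e1]
      rw [← e3]; nth_rw 2 [← e2]; group
    exact (mC _).2 ⟨h.inv.conj k h0, ⟨t _ _ xd h3, t _ _ hb h1⟩, t _ _ x3 h2⟩
  have CR : C = R := eq_of_le_of_card_ge inf_le_left (hc ▸ big C (hR.to_le inf_le_left)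
    (f.mono TC inf_le_left xC) fun e => r1 (e rC))
  have sS : s ∈ R ⊔ zpowers s := mem_sup_right (mem_zpowers s)
  have s' : s⁻¹ = s := inv_eq_of_mul_eq_one_right c.ss
  have sv : s * v * s⁻¹ = v := by rw [(c.sV v hv).eq, mul_inv_cancel_right]
  refine c.not_big hv v1 hR h.inv.conj (h.normal s sN) (h.notMem_of_inverts c.t3 c.sx) TR hc
    (r := r) (y := v * a) rN ?_ (by rw [← mul_assoc, vv, one_mul, ha])
    ⟨TR (mul_mem vY aY).1, sqY _ (mul_mem vY aY), fun q hq =>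
      Commute.symm (conj_eq_iff.1 ((mC q).1 (CR ▸ hq)).2.1.1)⟩
    (fun e => av (mul_left_cancel (e.trans vv.symm))) (fun e => ?_) (mul_mem vY aY).1
    (conj_eq_iff.1 ?_) ?_
  · convert conj_mem_of_mem_normalizer (inv_mem rN) (rc s sS) using 1
    rw [s']; group
  · rcases c.cent_V hv v1 e (mul_mem vY aY).2.2 with e | e
    · exact av (mul_left_cancel (e.trans vv.symm))
    · exact a1 (by simpa using e)
  · rw [cj, sv, mul_right_inj]
    calc _ = s * r * s⁻¹ * r⁻¹ * (r * (s * v * s⁻¹) * r⁻¹) * (s * r * s⁻¹ * r⁻¹)⁻¹ := by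
          rw [ha]; group
      _ = _ := by rw [sv, ← ha, fixT _ (rc s sS) a aY]
  · have x' : x⁻¹ * (v * a) * x = v * d := by rw [← hd]; nth_rw 2 [← xv']; group
    have e4 : v * b * (v * d) = b * d := by
      rw [(cY _ vY _ a2Y).eq, mul_assoc, ← mul_assoc v, vv, one_mul]
    rw [cj, xv, hb, x', mul_assoc, e4, bd, sqY _ (mul_mem vY aY)]

theorem T0_eq {w : G} (hw : w ∈ V) (w1 : w ≠ 1) :
    T v ⊓ centralizer (V : Set G) = T w ⊓ centralizer (V : Set G) := by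
  have key : ∀ v ∈ V, v ≠ 1 → ∀ w ∈ V, w ≠ 1 →
      T v ⊓ centralizer (V : Set G) ≤ T w ⊓ centralizer (V : Set G) := fun v hv v1 w hw w1 k hk =>
    mem_inf.2 ⟨c.inf_le_T hw w1 (c.inv_T hv v1) hk.1 (hk.2 w hw).symm, hk.2⟩
  exact le_antisymm (key v hv v1 w hw w1) (key w hw w1 v hv v1)

theorem T0_inv : ∀ k ∈ T v ⊓ centralizer (V : Set G),
    x * k * x⁻¹ ∈ T v ⊓ centralizer (V : Set G) := fun k hk =>
  have : x ∈ centralizer (V : Set G) := fun _ hw => (c.cx hw).symm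
  mem_inf.2 ⟨(c.inv_T hv v1).conj k hk.1, mul_mem (mul_mem this hk.2) (inv_mem this)⟩

theorem V_le_T0 : V ≤ T v ⊓ centralizer (V : Set G) :=
  le_inf (c.V_le hv v1) fun _ ha _ hb => c.comm hb ha

theorem mem_T0 {w k : G} (hw : w ∈ V) (w1 : w ≠ 1) (vw : v ≠ w) (h1 : k ∈ T v) (h2 : k ∈ T w) :
    k ∈ T v ⊓ centralizer (V : Set G) := mem_inf.2 ⟨h1, fun u hu => by
  rcases mem_four c.card hv hw (c.sq hv) v1 w1 vw hu with rfl | rfl | rfl | rfl
  exacts [Commute.one_left k, c.comm_T hv v1 h1, c.comm_T hw w1 h2,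
    (c.comm_T hv v1 h1).mul_left (c.comm_T hw w1 h2)]⟩

theorem not_le_T0 : ¬ T v ≤ T v ⊓ centralizer (V : Set G) :=
  fun e => c.not_le_cent hv v1 fun _ hk w hw => (e hk).2 w hw

theorem big : 16 * Nat.card (T v ⊓ centralizer (V : Set G) : Subgroup G) ≤ Nat.card (T v) := by
  by_contra! hlt
  set T0 := T v ⊓ centralizer (V : Set G) with hT0
  have h2 : IsPGroup 2 T0 := (c.two v hv v1).to_le inf_le_left
  have x0 := c.T0_inv hv v1
  have V0 := c.V_le_T0 hv v1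
  have hle : ∀ w ∈ V, w ≠ 1 → T0 ≤ T w := fun w hw w1 =>
    (c.T0_eq hv v1 hw w1).le.trans inf_le_left
  have hnl : ∀ w ∈ V, w ≠ 1 → ¬ T w ≤ T0 := fun w hw w1 e =>
    c.not_le_T0 hw w1 (e.trans (c.T0_eq hv v1 hw w1).le)
  have xN := mem_normalizer_of_conj x0
  obtain ⟨i, hi⟩ := c.card_four_pow c.card h2 x0 V0
  have four : ∀ j, 2 * 4 ^ (i + 1) ≤ 4 ^ (j + 1) → 4 * 4 ^ (i + 1) ≤ 4 ^ (j + 1) := fun j h => by
    rw [← pow_succ']
    exact Nat.pow_le_pow_right (by norm_num) ((Nat.pow_lt_pow_iff_right (by norm_num)).1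
      (lt_of_lt_of_le (by have : 0 < 4 ^ (i + 1) := by positivity
                          omega) h))
  have hc : ∀ w ∈ V, w ≠ 1 → Nat.card (T w) = 4 * Nat.card T0 := fun w hw w1 => by
    obtain ⟨j, hj⟩ := c.card_T hv v1
    have h3 := two_mul_card_le (hle v hv v1) (hnl v hv v1)
    rw [c.eq w hw w1 v hv v1]
    rw [hi, hj] at hlt h3 ⊢
    refine le_antisymm ?_ (four j h3)
    rw [← pow_succ']
    rw [show 16 * 4 ^ (i + 1) = 4 ^ (i + 3) by ring] at hlt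
    exact Nat.pow_le_pow_right (by norm_num)
      (Nat.lt_succ_iff.1 ((Nat.pow_lt_pow_iff_right (by norm_num)).1 hlt))
  have hN : ∀ w ∈ V, w ≠ 1 → T w ≤ normalizer (T0 : Set G) := fun w hw w1 => by
    obtain ⟨k, hk, k1, kN⟩ := exists_mem_normalizer (c.two w hw w1) (hle w hw w1) (hnl w hw w1)
    have hle' : T0 ≤ T w ⊓ normalizer (T0 : Set G) := le_inf (hle w hw w1) le_normalizer
    obtain ⟨j, hj⟩ := c.card_four_pow c.card ((c.two w hw w1).to_le
      (inf_le_left : T w ⊓ normalizer (T0 : Set G) ≤ _)) (fun b hb => mem_inf.2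
        ⟨(c.inv_T hw w1).conj b hb.1, mul_mem (mul_mem xN hb.2) (inv_mem xN)⟩) (V0.trans hle')
    have h3 := two_mul_card_le hle' fun e => k1 (e ⟨hk, kN⟩)
    rw [hi, hj] at h3
    exact inf_eq_left.1 (eq_of_le_of_card_ge inf_le_left (by
      rw [hc w hw w1, hi, hj]; exact four j h3))
  obtain ⟨w, hw, w1, wv⟩ := exists_ne_two c.card v
  obtain ⟨K, h⟩ | ⟨K, M, h⟩ := c.str_sub (c.normalizer_ne_top'
    (fun e => v1 (mem_bot.1 (e ▸ V0 hv))) (cube_of_two h2)) xN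
  · have TK := fun w hw w1 => h.le_of_inv c.t3 (c.inv_T hw w1) (hN w hw w1)
    have f : Fpf x K T0 := c.fpf h.inv V0 ((hle v hv v1).trans (TK v hv v1))
      (fun b hb d => conj_mem_of_mem_normalizer (h.le hb)) x0
    have key : ∀ a ∈ K, (∀ b ∈ T v, ⁅a, b⁆ ∈ T v) → a ∈ T v := fun a ha hab =>
      c.inf_le_T hv v1 h.inv ha (SC3.mem_cent.1 (c.norm hv v1 ▸ mem_normalizer_of_conj
        fun b hb => by simpa [commutatorElement_def] using mul_mem (hab b hb) hb))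
    refine hnl w hw w1 fun a ha => c.mem_T0 hv v1 hw w1 wv.symm (key a (TK w hw w1 ha)
      fun b hb => key _ ?_ fun e he => ?_) ha
    · exact mul_mem (mul_mem (mul_mem (TK w hw w1 ha) (TK v hv v1 hb)) (inv_mem (TK w hw w1 ha)))
        (inv_mem (TK v hv v1 hb))
    · rw [← commutatorElement_inv]
      exact inv_mem (hle v hv v1 (f.class_two (TK v hv v1 he) (TK w hw w1 ha) (TK v hv v1 hb)))
  obtain ⟨rfl, rfl, ⟨π, hπ, hk⟩, -⟩ := c.tii_of_le c.card h V0 le_normalizer h2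
    fun l hl d hd => conj_mem_of_mem_normalizer hl hd
  obtain ⟨p, q, p1, q1, hpq⟩ := l7_two (y := π ⟨x, xN⟩)
    (fun e => c.t3.ne (cube_of_two h2 x ((hk _).1 e) c.t3.cube))
    (by rw [← map_pow, show (⟨x, xN⟩ : normalizer (T0 : Set G)) ^ 3 = 1 from
      Subtype.ext c.t3.cube, map_one])
  let B : G → Subgroup L7 := fun w => ((T w).subgroupOf _).map π
  have xB : ∀ w ∈ V, w ≠ 1 → ∀ b ∈ B w, π ⟨x, xN⟩ * b * (π ⟨x, xN⟩)⁻¹ ∈ B w := by
    rintro w hw w1 _ ⟨a, ha, rfl⟩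
    exact ⟨⟨x, xN⟩ * a * ⟨x, xN⟩⁻¹, (c.inv_T hw w1).conj a ha, by simp⟩
  have key : ∀ w ∈ V, w ≠ 1 → p ∈ B w ∨ q ∈ B w := fun w hw w1 => by
    have f : Fpf x (T w) T0 := c.fpf (c.inv_T hw w1) V0 (hle w hw w1)
      (fun b hb d => conj_mem_of_mem_normalizer (hN w hw w1 hb)) x0
    obtain ⟨r, hr, r1, rr, -⟩ := exists_central_mod' (c.two w hw w1) le_rfl f.nD
      (fun g hg a ha => mul_mem (mul_mem hg ha) (inv_mem hg)) (hnl w hw w1)
    have rN := hN w hw w1 hr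
    have h1 : π ⟨r, rN⟩ * π ⟨r, rN⟩ = 1 := by rw [← map_mul, hk]; exact rr
    have h3 : π ⟨r, rN⟩ ≠ 1 := fun e => r1 ((hk _).1 e)
    have h4 : π ⟨r, rN⟩ * (π ⟨x, xN⟩ * π ⟨r, rN⟩ * (π ⟨x, xN⟩)⁻¹) *
        ((π ⟨x, xN⟩)⁻¹ * π ⟨r, rN⟩ * π ⟨x, xN⟩) = 1 := by
      simp only [← map_inv, ← map_mul, hk]; exact f.norm hr
    exact hpq (B w) (xB w hw w1) _ ⟨⟨r, rN⟩, hr, rfl⟩ h1 h3 h4
  have disj : ∀ a ∈ V, a ≠ 1 → ∀ b ∈ V, b ≠ 1 → a ≠ b → ∀ z ∈ B a, z ∈ B b → z = 1 := by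
    rintro a ha a1 b hb b1 ab _ ⟨k, h1, rfl⟩ ⟨l, h3, e⟩
    have h4 : (l : G)⁻¹ * k ∈ T0 := (hk (l⁻¹ * k)).1 (by rw [map_mul, map_inv, e, inv_mul_cancel])
    exact (hk k).2 ((c.T0_eq hv v1 ha a1).ge (c.mem_T0 ha a1 hb b1 ab h1
      ((mul_mem_cancel_left (inv_mem (show (l : G) ∈ T b from h3))).1 (hle b hb b1 h4))))
  have vw := mul_mem hv hw
  have vw1 : v * w ≠ 1 := fun e => wv (by
    rw [eq_inv_of_mul_eq_one_right e, inv_eq_of_mul_eq_one_right (c.sq hv)])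
  have d1 := disj v hv v1 w hw w1 wv.symm
  have d2 := disj v hv v1 _ vw vw1 (by simpa using w1)
  have d3 := disj w hw w1 _ vw vw1 (by simpa using v1)
  rcases key v hv v1 with k1 | k1 <;> rcases key w hw w1 with k2 | k2 <;>
    rcases key _ vw vw1 with k3 | k3
  exacts [p1 (d1 _ k1 k2), p1 (d1 _ k1 k2), p1 (d2 _ k1 k3), q1 (d3 _ k2 k3), p1 (d3 _ k2 k3),
    q1 (d2 _ k1 k3), q1 (d1 _ k1 k2), q1 (d1 _ k1 k2)]

end CS

theorem CS.cs' {T : G → Subgroup G} (c : CS x s V T) : CS' x s V T :=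
  ⟨c, fun _ hv v1 => c.norm hv v1, fun _ hv v1 => c.big hv v1⟩

end Cfsg.Agent.L0.C12
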