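import Cfsg.Prelude.Def_Spor_Conway
import Cfsg.Agent.H4.Golay

/-!
# The Leech lattice of the Prelude: description, generators, automorphisms from matrices
-/

set_option autoImplicit false

namespace Cfsg.Agent.L0.Leech

open Cfsg.Spor Cfsg.Agent.H4 Cfsg.Agent.H4.Golay Finset

theorem val_add_mod (a b : ZMod 2) :
    (2 * ((a + b).val : ℤ)) % 4 = (2 * (a.val : ℤ) + 2 * (b.val : ℤ)) % 4 := by
  revert a b; decide

theorem val_cases (a : ZMod 2) : (a = 0 ∧ (a.val : ℤ) = 0) ∨ (a ≠ 0 ∧ (a.val : ℤ) = 1) := by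
  revert a; decide

/-- The usual description of the Leech lattice. -/
def LL : AddSubgroup (GolayPt → ℤ) where
  carrier := {x | ∃ m : ℤ, ∃ c ∈ golayCode, (∀ i, x i % 4 = (m + 2 * ((c i).val : ℤ)) % 4) ∧
    (∑ i, x i) % 8 = (4 * m) % 8}
  zero_mem' := ⟨0, 0, golayCode.zero_mem, fun i => by simp, by simp⟩
  add_mem' := by
    rintro x y ⟨m, c, hc, h1, h2⟩ ⟨m', c', hc', h1', h2'⟩
    refine ⟨m + m', c + c', golayCode.add_mem hc hc', fun i => ?_, ?_⟩
    · have a := h1 i
      have b := h1' i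
      have d := val_add_mod (c i) (c' i)
      simp only [Pi.add_apply]
      omega
    · simp only [Pi.add_apply, sum_add_distrib]
      omega
  neg_mem' := by
    rintro x ⟨m, c, hc, h1, h2⟩
    refine ⟨-m, c, hc, fun i => ?_, ?_⟩
    · have a := h1 i
      simp only [Pi.neg_apply]
      omega
    · simp only [Pi.neg_apply, sum_neg_distrib]
      omega

theorem one_mem_code : (1 : GolayPt → ZMod 2) ∈ golayCode :=
  Submodule.subset_span (Set.mem_union_right _ rfl)

theorem mem_leechSet_iff {x : GolayPt → ℤ} : x ∈ leechSet ↔ x ∈ LL := by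
  constructor
  · rintro ⟨m, h1, h2, h3⟩
    obtain ⟨c, hc, e⟩ := h3 (m + 2)
    refine ⟨m, c, hc, fun i => ?_, h2⟩
    have h4 : i ∈ support₂ c ↔ x i ≡ m + 2 [ZMOD 4] := by rw [e]; simp
    have h5 := h1 i
    simp only [support₂, mem_filter, mem_univ, true_and, Int.ModEq] at h4 h5
    rcases val_cases (c i) with ⟨a, b⟩ | ⟨a, b⟩
    · have : ¬ x i % 4 = (m + 2) % 4 := fun h => h4.mpr h a
      omega
    · have := h4.mp a
      omega
  · rintro ⟨m, c, hc, h1, h2⟩
    refine ⟨m, fun i => ?_, h2, fun k => ?_⟩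
    · have := h1 i
      simp only [Int.ModEq]
      omega
    · clear h2
      have h4 : ∃ b, k = m + 4 * b ∨ k = m + 4 * b + 2 ∨ k = m + 2 * b + 1 := by
        rcases Int.emod_two_eq_zero_or_one (k - m) with h | h
        · exact ⟨(k - m) / 4, by omega⟩
        · exact ⟨(k - m) / 2, by omega⟩
      have h5 : ∀ i, ∃ a, x i = m + 2 * ((c i).val : ℤ) + 4 * a := fun i =>
        ⟨(x i - (m + 2 * ((c i).val : ℤ))) / 4, by have := h1 i; omega⟩
      clear h1
      obtain ⟨b, rfl | rfl | rfl⟩ := h4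
      · refine ⟨c + 1, golayCode.add_mem hc one_mem_code, ?_⟩
        ext i
        obtain ⟨a, h5⟩ := h5 i
        have h6 : ∀ a : ZMod 2, a + 1 ≠ 0 ↔ a = 0 := by decide
        simp only [support₂, mem_filter, mem_univ, true_and, Pi.add_apply, Pi.one_apply, h6]
        rw [Int.ModEq, h5]
        rcases val_cases (c i) with ⟨a, b⟩ | ⟨a, b⟩
        · exact ⟨fun _ => by omega, fun _ => a⟩
        · exact ⟨fun e => absurd e a, fun _ => by omega⟩
      · refine ⟨c, hc, ?_⟩
        ext i
        obtain ⟨a, h5⟩ := h5 i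
        simp only [support₂, mem_filter, mem_univ, true_and]
        rw [Int.ModEq, h5]
        rcases val_cases (c i) with ⟨a, b⟩ | ⟨a, b⟩
        · exact ⟨fun e => absurd a e, fun _ => by omega⟩
        · exact ⟨fun _ => by omega, fun _ => a⟩
      · refine ⟨0, golayCode.zero_mem, ?_⟩
        ext i
        obtain ⟨a, h5⟩ := h5 i
        simp only [support₂, mem_filter, mem_univ, true_and, Pi.zero_apply, ne_eq,
          not_true_eq_false, false_iff]
        rw [Int.ModEq, h5]
        omega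

theorem leech_eq : leechLattice = LL :=
  le_antisymm ((AddSubgroup.closure_le _).mpr fun _ hx => mem_leechSet_iff.mp hx)
    fun _ hx => AddSubgroup.subset_closure (mem_leechSet_iff.mpr hx)

/-- Twice a code word. -/
def vRow (r : ℕ) : GolayPt → ℤ := fun q => 2 * ((word r q).val : ℤ)

/-- The vector `4 e_p + 4 e_∞`. -/
def vPair (p : GolayPt) : GolayPt → ℤ := fun q =>
  (if q = p then 4 else 0) + (if q = none then 4 else 0)

theorem sum_vRow : ∀ r ∈ rows, (∑ i, vRow r i) % 8 = 0 := by decide +kernel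

theorem sum_vecV : ∑ i, vecV i = -28 := by decide +kernel

theorem vecV_mod : ∀ i, vecV i % 4 = 3 := by decide +kernel

/-- Generators of the Leech lattice. -/
theorem leech_le {S : AddSubgroup (GolayPt → ℤ)} (hV : vecV ∈ S) (hr : ∀ r ∈ rows, vRow r ∈ S)
    (hp : ∀ p, vPair p ∈ S) : leechLattice ≤ S := by
  have h0 : ∀ c ∈ golayCode, ∃ y ∈ S, (∀ i, y i % 4 = (2 * ((c i).val : ℤ)) % 4) ∧
      (∑ i, y i) % 8 = 0 := by
    intro c hc
    rw [code_eq] at hc
    induction hc using Submodule.span_induction with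
    | mem c hc =>
      obtain ⟨r, hr', rfl⟩ := hc
      exact ⟨vRow r, hr r hr', fun _ => rfl, sum_vRow r hr'⟩
    | zero => exact ⟨0, S.zero_mem, fun i => by simp, by simp⟩
    | add c c' _ _ h h' =>
      obtain ⟨y, hy, h1, h2⟩ := h
      obtain ⟨y', hy', h1', h2'⟩ := h'
      refine ⟨y + y', S.add_mem hy hy', fun i => ?_, ?_⟩
      · have a := h1 i
        have b := h1' i
        have d := val_add_mod (c i) (c' i)
        simp only [Pi.add_apply]
        omega
      · simp only [Pi.add_apply, sum_add_distrib]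
        omega
    | smul a c _ h =>
      have ha : ∀ a : ZMod 2, a = 0 ∨ a = 1 := by decide
      rcases ha a with rfl | rfl
      · exact ⟨0, S.zero_mem, fun i => by simp, by simp⟩
      · simpa using h
  rw [leech_eq]
  rintro x ⟨m, c, hc, h1, h2⟩
  obtain ⟨y, hy, h3, h4⟩ := h0 c hc
  have h5 : ∀ i, ∃ z : ℤ, x i + m * vecV i - y i = 4 * z := fun i => by
    have a := h1 i
    have b := h3 i
    have d := vecV_mod i
    obtain ⟨k, hk⟩ : ∃ k, vecV i = 4 * k + 3 := ⟨vecV i / 4, by omega⟩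
    refine ⟨(x i + 3 * m - y i) / 4 + m * k, ?_⟩
    rw [hk]
    have : x i + 3 * m - y i = 4 * ((x i + 3 * m - y i) / 4) := by omega
    linarith
  choose z hz using h5
  have h6 : ∑ i, x i + m * (-28) - ∑ i, y i = 4 * ∑ i, z i := by
    rw [← sum_vecV, mul_sum, mul_sum, ← sum_add_distrib, ← sum_sub_distrib]
    exact sum_congr rfl fun i _ => hz i
  obtain ⟨k, hk⟩ : ∃ k, ∑ i, z i = 2 * k := ⟨(∑ i, z i) / 2, by omega⟩
  have h7 : x = ∑ p, z p • vPair p - k • vPair none - m • vecV + y := by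
    funext q
    have := hz q
    simp only [Pi.add_apply, Pi.sub_apply, Finset.sum_apply, Pi.smul_apply, smul_eq_mul, vPair,
      mul_add, sum_add_distrib, mul_ite, mul_zero, sum_ite_eq, mem_univ, if_true]
    split_ifs with hq
    · rw [← sum_mul, hk]; linarith
    · simp only [sum_const_zero]; linarith
  rw [h7]
  exact S.add_mem (S.sub_mem (S.sub_mem (S.sum_mem fun p _ => S.zsmul_mem (hp p) _)
    (S.zsmul_mem (hp _) _)) (S.zsmul_mem hV _)) hy

theorem sqNorm_add (x y : GolayPt → ℤ) : sqNorm (x + y) = sqNorm x + 2 * dotInt x y + sqNorm y := by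
  simp only [sqNorm, dotInt, Pi.add_apply, mul_sum, ← sum_add_distrib]
  exact sum_congr rfl fun i _ => by ring

theorem sqNorm_eq_dot (x : GolayPt → ℤ) : sqNorm x = dotInt x x :=
  sum_congr rfl fun _ _ => pow_two _

theorem dotInt_comm (x y : GolayPt → ℤ) : dotInt x y = dotInt y x :=
  sum_congr rfl fun _ _ => mul_comm _ _

theorem Co0_dot {f : Equiv.Perm leechLattice} (hf : f ∈ Co0) (v w : leechLattice) :
    dotInt (f v : GolayPt → ℤ) (f w) = dotInt (v : GolayPt → ℤ) w := by
  have h1 := hf.2 (v + w)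
  rw [hf.1, AddSubgroup.coe_add, AddSubgroup.coe_add, sqNorm_add, sqNorm_add, hf.2, hf.2] at h1
  linarith

/-- An element of `Co0` as an additive map. -/
def addHom {f : Equiv.Perm leechLattice} (hf : f ∈ Co0) : leechLattice →+ leechLattice :=
  AddMonoidHom.mk' f hf.1

theorem finite_shell (n : ℤ) : {v : leechLattice | sqNorm (v : GolayPt → ℤ) = n}.Finite := by
  have h : {x : GolayPt → ℤ | sqNorm x = n}.Finite := by
    refine (Set.Finite.pi' (fun _ : GolayPt => Set.finite_Icc (-n) n)).subset fun x hx i => ?_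
    have h1 : x i ^ 2 ≤ n := by
      rw [← show sqNorm x = n from hx]
      exact single_le_sum (f := fun i => x i ^ 2) (fun i _ => sq_nonneg _) (mem_univ i)
    constructor <;> nlinarith [sq_nonneg (x i - 1), sq_nonneg (x i + 1), sq_nonneg (x i)]
  exact h.preimage Subtype.val_injective.injOn

/-- The matrix `N` applied to a vector. -/
def mv (N : GolayPt → GolayPt → ℤ) (x : GolayPt → ℤ) : GolayPt → ℤ := fun q => dotInt (N q) x

theorem mv_add (N : GolayPt → GolayPt → ℤ) (x y : GolayPt → ℤ) :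
    mv N (x + y) = mv N x + mv N y := by
  funext q
  simp only [mv, dotInt, Pi.add_apply, mul_add, sum_add_distrib]

theorem sqNorm_mv {N : GolayPt → GolayPt → ℤ}
    (hN : ∀ k l, ∑ q, N q k * N q l = if k = l then 64 else 0) (x : GolayPt → ℤ) :
    sqNorm (mv N x) = 64 * sqNorm x := by
  simp only [sqNorm, mv, dotInt, pow_two, sum_mul_sum]
  rw [sum_comm, mul_sum]
  refine sum_congr rfl fun k _ => ?_
  rw [sum_comm]
  have : ∀ l, ∑ q, N q k * x k * (N q l * x l) = if k = l then 64 * (x k * x l) else 0 := fun l => by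
    rw [show ∑ q, N q k * x k * (N q l * x l) = (∑ q, N q k * N q l) * (x k * x l) by
      rw [sum_mul]; exact sum_congr rfl fun q _ => by ring, hN]
    split_ifs <;> simp
  simp only [this, sum_ite_eq, mem_univ, if_true]

/-- The vectors whose image under `N / 8` is in the lattice. -/
def goodFor (N : GolayPt → GolayPt → ℤ) : AddSubgroup (GolayPt → ℤ) where
  carrier := {x | ∃ w ∈ leechLattice, mv N x = (8 : ℤ) • w}
  zero_mem' := ⟨0, leechLattice.zero_mem, by funext q; simp [mv, dotInt]⟩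
  add_mem' := by
    rintro x y ⟨w, hw, e⟩ ⟨w', hw', e'⟩
    exact ⟨w + w', leechLattice.add_mem hw hw', by rw [mv_add, e, e', smul_add]⟩
  neg_mem' := by
    rintro x ⟨w, hw, e⟩
    refine ⟨-w, leechLattice.neg_mem hw, ?_⟩
    rw [smul_neg, ← e]
    funext q
    simp [mv, dotInt]

theorem eight_smul_inj {x y : GolayPt → ℤ} (h : (8 : ℤ) • x = (8 : ℤ) • y) : x = y := by
  funext q
  have := congrFun h q
  simp only [Pi.smul_apply, smul_eq_mul] at this
  omega

theorem exists_aut {N : GolayPt → GolayPt → ℤ}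
    (hN : ∀ k l, ∑ q, N q k * N q l = if k = l then 64 else 0) (h : leechLattice ≤ goodFor N) :
    ∃ f ∈ Co0, ∀ v : leechLattice, mv N v = (8 : ℤ) • (f v : GolayPt → ℤ) := by
  have h1 : ∀ v : leechLattice, ∃ w : leechLattice, mv N v = (8 : ℤ) • (w : GolayPt → ℤ) :=
    fun v => by obtain ⟨w, hw, e⟩ := h v.2; exact ⟨⟨w, hw⟩, e⟩
  choose f hf using h1
  have hadd : ∀ v w, f (v + w) = f v + f w := fun v w => Subtype.ext (eight_smul_inj (by
    rw [← hf, AddSubgroup.coe_add, AddSubgroup.coe_add, mv_add, hf, hf, smul_add]))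
  have hn : ∀ v, sqNorm (f v : GolayPt → ℤ) = sqNorm (v : GolayPt → ℤ) := fun v => by
    have h2 := sqNorm_mv hN v
    rw [hf] at h2
    have h3 : sqNorm ((8 : ℤ) • (f v : GolayPt → ℤ)) = 64 * sqNorm (f v : GolayPt → ℤ) := by
      simp only [sqNorm, Pi.smul_apply, smul_eq_mul, mul_sum]
      exact sum_congr rfl fun i _ => by ring
    linarith
  have hinj : Function.Injective f := by
    refine (injective_iff_map_eq_zero (AddMonoidHom.mk' f hadd)).mpr fun v hv => ?_
    have h2 := hn v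
    rw [show f v = 0 from hv] at h2
    have h3 : ∑ i, (v : GolayPt → ℤ) i ^ 2 = 0 := by
      refine h2.symm.trans ?_
      simp [sqNorm]
    rw [sum_eq_zero_iff_of_nonneg fun i _ => sq_nonneg _] at h3
    exact Subtype.ext (funext fun i => pow_eq_zero_iff two_ne_zero |>.mp (h3 i (mem_univ i)))
  have hsurj : Function.Surjective f := fun w => by
    have := ((finite_shell (sqNorm (w : GolayPt → ℤ))).injOn_iff_bijOn_of_mapsTo
      (f := f) fun v hv => (hn v).trans hv).mp hinj.injOn
    obtain ⟨v, -, e⟩ := this.surjOn (show w ∈ _ from rfl)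
    exact ⟨v, e⟩
  exact ⟨Equiv.ofBijective f ⟨hinj, hsurj⟩, ⟨hadd, hn⟩, hf⟩

/-! ### Coded vectors -/

/-- The vector with coordinates `u k - 64`. -/
def vf (u : ℕ → ℕ) : GolayPt → ℤ := fun q => (u (ix q) : ℤ) - 64

/-- Byte number `k` of `c`. -/
def dg (c k : ℕ) : ℕ := Nat.mod (Nat.shiftRight c (Nat.mul 8 k)) 256

theorem sum_ix {M : Type*} [AddCommMonoid M] (g : ℕ → M) : ∑ q, g (ix q) = ∑ k ∈ range 24, g k := by
  rw [Finset.sum_range, ← Equiv.sum_comp e24]; rfl

theorem ix_lt (q : GolayPt) : ix q < 24 := (e24 q).2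

theorem ix_inj {p q : GolayPt} (h : ix p = ix q) : p = q := e24.injective (Fin.ext h)

theorem exists_ix {k : ℕ} (hk : k < 24) : ∃ q, ix q = k :=
  ⟨e24.symm ⟨k, hk⟩, congrArg Fin.val (e24.apply_symm_apply _)⟩

/-- Sum of the products of digits. -/
noncomputable def dotN (u v : ℕ → ℕ) : ℕ := sumN (fun k => Nat.mul (u k) (v k)) 24

theorem sum_vf (u : ℕ → ℕ) : ∑ q, vf u q = (sumN u 24 : ℤ) - 1536 := by
  simp only [vf]
  rw [sum_ix (fun k => (u k : ℤ) - 64), sumN_eq, sum_sub_distrib, Nat.cast_sum, sum_const, card_range]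
  rfl

theorem dot_vf (u v : ℕ → ℕ) :
    dotInt (vf u) (vf v) = (dotN u v : ℤ) + 98304 - 64 * (sumN u 24 + sumN v 24) := by
  simp only [dotInt, vf]
  rw [sum_ix (fun k => ((u k : ℤ) - 64) * ((v k : ℤ) - 64)), dotN, sumN_eq, sumN_eq, sumN_eq]
  push_cast
  rw [← sum_add_distrib, mul_sum, show (98304 : ℤ) = ∑ _k ∈ range 24, (4096 : ℤ) by simp,
    ← sum_add_distrib, ← sum_sub_distrib]
  exact sum_congr rfl fun k _ => by
    rw [show Nat.mul (u k) (v k) = u k * v k from rfl]; push_cast; ring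

/-- Membership test for the lattice. -/
noncomputable def inL (u : ℕ → ℕ) (m h : ℕ) : Bool :=
  force (xorSel rows h) fun c =>
    band (allB (fun k => Nat.beq (Nat.mod (u k) 4)
      (Nat.mod (Nat.add m (Nat.mul 2 (Nat.mod (Nat.shiftRight c k) 2))) 4)) 24)
      (Nat.beq (Nat.mod (sumN u 24) 8) (Nat.mod (Nat.mul 4 m) 8))

theorem word_val (c : ℕ) (q : GolayPt) : (word c q).val = (c >>> ix q) % 2 := by
  rw [Nat.shiftRight_eq_div_pow, ← Nat.toNat_testBit, word]
  cases c.testBit (ix q) <;> rfl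

theorem inL_sound {u : ℕ → ℕ} {m h : ℕ} (hc : inL u m h = true) : vf u ∈ leechLattice := by
  simp only [inL, force_eq, band_eq_true, allB_iff, Nat.beq_eq] at hc
  rw [leech_eq]
  refine ⟨m, word (xorSel rows h), word_xorSel rows_mem h, fun q => ?_, ?_⟩
  · have h1 : u (ix q) % 4 = (m + 2 * (xorSel rows h >>> ix q % 2)) % 4 := hc.1 _ (ix_lt q)
    rw [word_val, vf]
    omega
  · have h2 : sumN u 24 % 8 = (4 * m) % 8 := hc.2
    rw [sum_vf]
    omega

/-- Row `j` of the packed matrix. -/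
def rowN (N j : ℕ) : ℕ → ℕ := fun k => dg N (Nat.add (Nat.mul 24 j) k)

/-- Column `k` of the packed matrix. -/
def colN (N k : ℕ) : ℕ → ℕ := fun j => dg N (Nat.add (Nat.mul 24 j) k)

/-- The matrix with code `N`. -/
def mat (N : ℕ) : GolayPt → GolayPt → ℤ := fun q => vf (rowN N (ix q))

/-- `N u = 8 v`. -/
noncomputable def imgChk (N : ℕ) (u v : ℕ → ℕ) : Bool :=
  force (sumN u 24) fun s => allB (fun j => Nat.beq (Nat.add (dotN (rowN N j) u) 98816)
    (Nat.add (Nat.mul 8 (v j)) (Nat.mul 64 (Nat.add (sumN (rowN N j) 24) s)))) 24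

theorem imgChk_sound {N : ℕ} {u v : ℕ → ℕ} (h : imgChk N u v = true) :
    mv (mat N) (vf u) = (8 : ℤ) • vf v := by
  simp only [imgChk, force_eq, allB_iff, Nat.beq_eq] at h
  funext q
  have h1 : dotN (rowN N (ix q)) u + 98816 =
    8 * v (ix q) + 64 * (sumN (rowN N (ix q)) 24 + sumN u 24) := h _ (ix_lt q)
  rw [mv, mat, dot_vf, Pi.smul_apply, smul_eq_mul, vf]
  omega

/-- The columns are orthogonal. -/
noncomputable def orthChk (N : ℕ) : Bool :=
  allB (fun k => force (sumN (colN N k) 24) fun s => allB (fun l =>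
    Nat.beq (Nat.add (dotN (colN N k) (colN N l)) 98304)
      (Nat.add (Bool.rec 0 64 (Nat.beq k l)) (Nat.mul 64 (Nat.add s (sumN (colN N l) 24))))) 24) 24

theorem orthChk_sound {N : ℕ} (h : orthChk N = true) (k l : GolayPt) :
    ∑ q, mat N q k * mat N q l = if k = l then 64 else 0 := by
  simp only [orthChk, force_eq, allB_iff, Nat.beq_eq] at h
  have h1 : dotN (colN N (ix k)) (colN N (ix l)) + 98304 =
    (Bool.rec 0 64 (Nat.beq (ix k) (ix l)) : ℕ) +
      64 * (sumN (colN N (ix k)) 24 + sumN (colN N (ix l)) 24) := h _ (ix_lt k) _ (ix_lt l)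
  have h2 := dot_vf (colN N (ix k)) (colN N (ix l))
  change _ = _ at h2
  rw [show ∑ q, mat N q k * mat N q l = dotInt (vf (colN N (ix k))) (vf (colN N (ix l))) from rfl,
    h2]
  split_ifs with e
  · rw [e, Nat.beq_refl] at h1
    change _ = 64 + _ at h1
    rw [e]
    omega
  · rw [show Nat.beq (ix k) (ix l) = false from Bool.eq_false_iff.mpr fun e' =>
      e (ix_inj (Nat.beq_eq.mp e'))] at h1
    change _ = 0 + _ at h1
    omega

/-- Digits of `vecV`. -/
def uV (k : ℕ) : ℕ := Bool.rec 63 59 (Nat.beq k 23)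

/-- Digits of `vRow r`. -/
def uRow (r k : ℕ) : ℕ := Nat.add 64 (Nat.mul 2 (Nat.mod (Nat.shiftRight r k) 2))

/-- Digits of `vPair`. -/
def uPair (p k : ℕ) : ℕ := Nat.add 64 (Nat.add (Bool.rec 0 4 (Nat.beq k p)) (Bool.rec 0 4 (Nat.beq k 23)))

theorem vf_uV : vf uV = vecV := by decide +kernel

theorem vf_uRow (r : ℕ) : vf (uRow r) = vRow r := by
  funext q
  rw [vf, vRow, word_val]
  show ((64 + 2 * (r >>> ix q % 2) : ℕ) : ℤ) - 64 = _
  omega

theorem vf_uPair : ∀ p, vf (uPair (ix p)) = vPair p := by decide +kernel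

theorem vf_uU : vf (uPair 0) = vecU := by decide +kernel

/-- The image of `u` is eight times the lattice vector coded by `e` (with hints in the high bits). -/
noncomputable def genChk (N : ℕ) (u : ℕ → ℕ) (e : ℕ) : Bool :=
  force e fun e => band (imgChk N u (dg e))
    (inL (dg e) (dg e 24) (Nat.shiftRight e 200))

theorem genChk_sound {N : ℕ} {u : ℕ → ℕ} {e : ℕ} (h : genChk N u e = true) :
    vf u ∈ goodFor (mat N) := by
  rw [genChk, force_eq, band_eq_true] at h
  exact ⟨_, inL_sound h.2, imgChk_sound h.1⟩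

/-- Check that `N / 8` is an automorphism of the lattice. -/
noncomputable def autChk (N : ℕ) (H : Trie) : Bool :=
  band (orthChk N) <| band (genChk N uV (H.get 36)) <|
    band (allB (fun i => genChk N (uRow (rows.getD i 0)) (H.get (Nat.add 24 i))) 12)
      (allB (fun i => genChk N (uPair i) (H.get i)) 24)

theorem autChk_sound {N : ℕ} {H : Trie} (h : autChk N H = true) :
    ∃ f ∈ Co0, ∀ v : leechLattice, mv (mat N) v = (8 : ℤ) • (f v : GolayPt → ℤ) := by
  simp only [autChk, band_eq_true, allB_iff] at h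
  obtain ⟨h1, h2, h3, h4⟩ := h
  refine exists_aut (orthChk_sound h1) (leech_le (vf_uV ▸ genChk_sound h2) (fun r hr => ?_)
    fun p => vf_uPair p ▸ genChk_sound (h4 _ (ix_lt p)))
  obtain ⟨i, hi, rfl⟩ := List.getElem_of_mem hr
  have := genChk_sound (h3 i hi)
  rwa [vf_uRow, List.getD_eq_getElem _ _ hi] at this

theorem apply_eq_of_imgChk {N : ℕ} {f : Equiv.Perm leechLattice}
    (hf : ∀ v : leechLattice, mv (mat N) v = (8 : ℤ) • (f v : GolayPt → ℤ)) {u v : ℕ → ℕ}
    (h : imgChk N u v = true) {x y : leechLattice} (hx : (x : GolayPt → ℤ) = vf u)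
    (hy : (y : GolayPt → ℤ) = vf v) : f x = y :=
  Subtype.ext (eight_smul_inj (by rw [← hf, hx, hy, imgChk_sound h]))

end Cfsg.Agent.L0.Leech
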