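import Cfsg.Agent.H1.ElDef

set_option autoImplicit false

namespace Cfsg.Agent.H1.El

variable {G : Type*} [Group G] {Ω : Type*} [MulAction G Ω]

/-- the support of an element is invariant under it -/
theorem supp_inv {w : G} {S : Ω → Prop} (h1 : ∀ a, ¬ S a → w • a = a) (h2 : ∀ a, S a → w • a ≠ a)
    {a : Ω} (ha : S a) : S (w • a) := by
  by_contra hn
  exact h2 a ha (smul_left_cancel w (h1 _ hn))

/-- product of two elements with disjoint supports -/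
theorem disj_mul [FaithfulSMul G Ω] {w v : G} {S T : Ω → Prop} {q : ℕ}
    (h1 : ∀ a, ¬ S a → w • a = a) (h2 : ∀ a, S a → w • a ≠ a)
    (k1 : ∀ a, ¬ T a → v • a = a) (k2 : ∀ a, T a → v • a ≠ a) (hd : ∀ a, S a → ¬ T a)
    (hw : w ^ q = 1) (hv : v ^ q = 1) :
    (w * v) ^ q = 1 ∧ (∀ a, ¬ (S a ∨ T a) → (w * v) • a = a) ∧ ∀ a, S a ∨ T a → (w * v) • a ≠ a := by
  have hc : Commute w v := by
    refine eq_of_smul_eq_smul (α := Ω) fun a => ?_
    rw [mul_smul, mul_smul]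
    by_cases hS : S a
    · rw [k1 a (hd a hS), k1 _ (hd _ (supp_inv h1 h2 hS))]
    · rw [h1 a hS]
      by_cases hT : T a
      · exact h1 _ fun h => hd _ h (supp_inv k1 k2 hT)
      · rw [k1 a hT, h1 a hS]
  refine ⟨by rw [hc.mul_pow, hw, hv, one_mul], fun a ha => ?_, fun a ha => ?_⟩
  · rw [mul_smul, k1 a fun h => ha (Or.inr h), h1 a fun h => ha (Or.inl h)]
  · rw [mul_smul]
    rcases ha with hS | hT
    · rw [k1 a (hd a hS)]; exact h2 a hS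
    · rw [h1 _ fun h => hd _ h (supp_inv k1 k2 hT)]; exact k2 a hT

theorem Bas.prodq [FaithfulSMul G Ω] [Fintype Ω] {p q : ℕ} (h : Bas G Ω p q) (x u : G)
    (O : Finset Ω) (hu : u ^ q = 1) (hfix : ∀ a, a ∉ O → u • a = a) (hmv : ∀ a ∈ O, u • a ≠ a)
    (hcov : ∀ a : Ω, ∃ k < p, (x ^ k)⁻¹ • a ∈ O)
    (hdis : ∀ j < p, ∀ k < p, ∀ a : Ω, (x ^ j)⁻¹ • a ∈ O → (x ^ k)⁻¹ • a ∈ O → j = k) : False := by
  have key : ∀ m ≤ p, ∃ w : G, w ^ q = 1 ∧ (∀ a : Ω, ¬ (∃ k < m, (x ^ k)⁻¹ • a ∈ O) → w • a = a) ∧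
      ∀ a : Ω, (∃ k < m, (x ^ k)⁻¹ • a ∈ O) → w • a ≠ a := by
    intro m
    induction m with
    | zero => exact fun _ => ⟨1, one_pow _, fun a _ => one_smul _ _, fun a ⟨k, hk, _⟩ => absurd hk (by omega)⟩
    | succ m ih =>
      intro hm
      obtain ⟨w, hw, h1, h2⟩ := ih (by omega)
      have hv : (x ^ m * u * (x ^ m)⁻¹) ^ q = 1 := by rw [conj_pow, hu]; simp
      have k1 : ∀ a : Ω, ¬ ((x ^ m)⁻¹ • a ∈ O) → (x ^ m * u * (x ^ m)⁻¹) • a = a := fun a ha => by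
        rw [mul_smul, mul_smul, hfix _ ha, smul_inv_smul]
      have k2 : ∀ a : Ω, ((x ^ m)⁻¹ • a ∈ O) → (x ^ m * u * (x ^ m)⁻¹) • a ≠ a := fun a ha he => by
        rw [mul_smul, mul_smul, smul_eq_iff_eq_inv_smul] at he
        exact hmv _ ha he
      obtain ⟨e1, e2, e3⟩ := disj_mul h1 h2 k1 k2 (fun a ⟨k, hk, ha⟩ hb => by
        have := hdis k (by omega) m (by omega) a ha hb
        omega) hw hv
      have hiff : ∀ a : Ω, (∃ k < m + 1, (x ^ k)⁻¹ • a ∈ O) ↔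
          ((∃ k < m, (x ^ k)⁻¹ • a ∈ O) ∨ (x ^ m)⁻¹ • a ∈ O) := fun a => by
        constructor
        · rintro ⟨k, hk, ha⟩
          rcases Nat.lt_succ_iff_lt_or_eq.mp hk with hk | rfl
          · exact Or.inl ⟨k, hk, ha⟩
          · exact Or.inr ha
        · rintro (⟨k, hk, ha⟩ | ha)
          · exact ⟨k, by omega, ha⟩
          · exact ⟨m, by omega, ha⟩
      exact ⟨_, e1, fun a ha => e2 a (by rwa [← hiff]), fun a ha => e3 a (by rwa [← hiff])⟩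
  obtain ⟨w, hw, -, h2⟩ := key p le_rfl
  have hpos : 0 < Fintype.card Ω := by
    rw [h.card]; exact Nat.mul_pos (Nat.mul_pos two_pos h.hp.pos) h.hq.pos
  obtain ⟨a0⟩ := Fintype.card_pos_iff.mp hpos
  have hw1 : w ≠ 1 := fun e => h2 a0 (hcov a0) (by rw [e, one_smul])
  haveI := Fact.mk h.hq
  have ho : orderOf w = q := orderOf_eq_prime hw hw1
  obtain ⟨a, ha⟩ := h.el w (ho ▸ h.hq)
  exact h2 a (hcov a) ha

end Cfsg.Agent.H1.El
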