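import Cfsg.Agent.L0.PnB
import Cfsg.Agent.H3.PnGl

set_option autoImplicit false
set_option linter.unusedSectionVars false

namespace Cfsg.Agent.L0.Pn

open Finset
open scoped Pointwise

variable {G : Type} [Group G] [Finite G] {Ω : Type} [Fintype Ω] [DecidableEq Ω] [MulAction G Ω]
  {K H : Subgroup G} {O : Finset Ω} {n : ℕ}


theorem del_empty : del K (∅ : Finset Ω) = 0 := by simp [del, fx]

theorem mv_of_del {U : Finset Ω} (h : 1 ≤ del K U) : Mv K U := by
  by_contra hm
  have : fx K U = U := by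
    ext x; rw [mem_fx, and_iff_left_iff_imp]; exact fun hx => by_contra fun h' => hm ⟨x, hx, h'⟩
  unfold del at h
  rw [this] at h
  omega

theorem del_insert {U : Finset Ω} {a : Ω} (ha : Fx K a) (h : a ∉ U) : del K (insert a U) = del K U - 1 := by
  have : fx K (insert a U) = insert a (fx K U) := by
    ext x; simp only [mem_fx, mem_insert]; constructor
    · tauto
    · rintro (rfl | h); exacts [⟨.inl rfl, ha⟩, ⟨.inr h.1, h.2⟩]
  unfold del
  rw [this, card_insert_of_notMem h, card_insert_of_notMem fun h' => h (mem_fx.1 h').1]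
  push_cast; ring

theorem del_of_fx {U : Finset Ω} (h : fx K U = U) : del K U = -U.card := by
  unfold del; rw [h]; ring

theorem sub_del (hP : PP K n) (hKH : K ≤ H) {U : Finset Ω} (hU : Inv H U) (hn : U.card < n)
    (hm : ∀ x ∈ U, Mv K (orb H x)) {A : Finset Ω} (hA : Inv H A) (hs : A ⊆ U) :
    A = U ∨ del K A + 1 ≤ del K U := by
  have := del_sdiff (K := K) hs
  rcases del_pos hP hKH (hU.sdiff hA) ((card_le_card sdiff_subset).trans_lt hn)
    (fun y hy => hm y (mem_sdiff.1 hy).1) with h | h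
  · exact .inl (hs.antisymm (sdiff_eq_empty_iff_subset.1 h))
  · right; omega

theorem orb_del (hP : PP K n) (hKH : K ≤ H) {U : Finset Ω} (hU : Inv H U) (hn : U.card < n)
    (hm : ∀ x ∈ U, Mv K (orb H x)) {x : Ω} (hx : x ∈ U) : 1 ≤ del K (orb H x) :=
  hP Ω H _ hKH (orb_orb H x) ((card_le_card (orb_subset hU hx)).trans_lt hn) (hm x hx)

theorem not_mem_orb {a x : Ω} (h : x ≠ a) : a ∉ orb (fixS H {a}) x := fun h' => by
  obtain ⟨g, hg, e⟩ := mem_orb.1 h'
  exact h (smul_left_cancel g (e.trans (hg.2 a (mem_singleton_self a)).symm))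

theorem Inv.fix1 (h : Inv H O) (D : Finset Ω) : Inv (fixS H D) O := fun g hg => h g hg.1

/-- the block produced by `glem` has positive deficiency -/
theorem blk_two (hP : PP K n) (hKH : K ≤ H) (hO : Orb H O) (hn : O.card ≤ n) {a c : Ω}
    (ha : a ∈ fx K O) (hc : c ∈ O) (hca : c ≠ a) (hm : Mv K (orb (fixS H {a}) c))
    (hB : Blk H (insert a (orb (fixS H {a}) c))) (hne : insert a (orb (fixS H {a}) c) ≠ O) :
    2 ≤ del K (orb (fixS H {a}) c) := by
  rw [mem_fx] at ha
  have hs : insert a (orb (fixS H {a}) c) ⊆ O := insert_subset ha.1 (orb_subset (hO.inv.fix1 _) hc)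
  obtain ⟨x, hx, hx'⟩ := hm
  have := blk_del hP hKH hO hB hs (mem_fx.2 ⟨mem_insert_self _ _, ha.2⟩)
    ((card_lt_card (hs.ssubset_of_ne hne)).trans_le hn) ⟨x, mem_insert_of_mem hx, hx'⟩
  rw [del_insert ha.2 (not_mem_orb hca)] at this
  omega

theorem cl_eq_of_lt (hK : Pro K) (hP : PP K n) (hKH : K ≤ H) (hO : Orb H O) (hn : O.card ≤ n)
    (hm : Mv K O) {a : Ω} (ha : a ∈ fx K O) (h : del K O ≤ 1) : ∀ x ∈ O \ {a}, Mv K (orb (fixS H {a}) x) :=
  fun x hx => mv_of_not_cl hK hKH (mem_fx.1 ha).2 (mem_sdiff.1 hx).1 fun hx' => by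
    have := card_cl_le hK hP hKH hO hn hm ha (one_lt_card.2 ⟨x, hx', a, self_mem_cl (mem_fx.1 ha).1,
      by simpa using (mem_sdiff.1 hx).2⟩)
    have := one_lt_card.2 ⟨x, hx', a, self_mem_cl (K := K) (H := H) (mem_fx.1 ha).1,
      by simpa using (mem_sdiff.1 hx).2⟩
    omega

theorem del_erase {a : Ω} (ha : a ∈ fx K O) : del K (O \ {a}) = del K O + 1 := by
  rw [del_sdiff (singleton_subset_iff.2 (mem_fx.1 ha).1), del_of_fx (U := {a})]
  · simp
  · ext x; rw [mem_fx, and_iff_left_iff_imp, mem_singleton]; rintro rfl; exact (mem_fx.1 ha).2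

theorem e1 (hK : Pro K) (hP : PP K n) (hKH : K ≤ H) (hO : Orb H O) (hn : O.card ≤ n)
    (hm : Mv K O) (h1 : del K O = 1) : TrK H O 2 := by
  induction h : O.card using Nat.strong_induction_on generalizing H O with
  | _ m ih =>
  obtain ⟨a, ha⟩ : (fx K O).Nonempty := by
    by_contra h0
    obtain ⟨x, hx, hx'⟩ := hm
    unfold del at h1
    rw [not_nonempty_iff_eq_empty.1 h0] at h1
    exact hx' fun k hk => card_le_one.1 (by simp at h1; omega) _ (hO.inv k (hKH hk) x hx) x hx
  have hm' := cl_eq_of_lt hK hP hKH hO hn hm ha h1.le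
  have hd := del_erase ha
  have ha' := mem_fx.1 ha
  have hK' : K ≤ fixS H {a} := le_fixS hKH (by simpa using ha'.2)
  have hI := hO.inv.fix {a}
  have hlt : (O \ {a}).card < O.card := card_lt_card (sdiff_ssubset (by simpa using ha'.1) (by simp))
  by_contra hT
  have hne : ∀ x, orb (fixS H {a}) x ≠ O \ {a} := fun x e =>
    hT (hO.trK.succ hO.inv (D := {a}) (by simpa using ha'.1) rfl (e ▸ orb_orb _ x))
  have h2 : ∀ x ∈ O, x ≠ a → del K (orb (fixS H {a}) x) = 1 := fun x hx hx' => by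
    have hx : x ∈ O \ {a} := by simp [hx, hx']
    have := orb_del hP hK' hI (hlt.trans_le hn) hm' hx
    have := (sub_del hP hK' hI (hlt.trans_le hn) hm' (orb_orb _ x).inv (orb_subset hI hx)).resolve_left (hne x)
    omega
  obtain ⟨b, hb, hb'⟩ := hm
  have hba : b ≠ a := fun e => hb' (e ▸ ha'.2)
  obtain ⟨-, c, hc, hca, -, -, hB⟩ := glem hK hKH hO ha hb hba (h2 b hb hba) (fun x hx hx' h => by
    have := (card_le_card (orb_subset hI (show x ∈ O \ {a} by simp [hx, hx']))).trans_lt hlt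
    exact ih _ (by omega) hK' (orb_orb _ x) (by omega) (mv_of_del h.ge) h rfl)
    (fun x hx hx' => by rw [h2 x hx hx']; norm_num)
  have := blk_two hP hKH hO hn ha hc hca (mv_of_del (h2 c hc hca).ge) hB fun e => hne c (by
    rw [← e, insert_sdiff_of_mem _ (mem_singleton_self a), sdiff_singleton_eq_erase,
      erase_eq_of_notMem (not_mem_orb hca)])
  rw [h2 c hc hca] at this
  omega

/-- `glem` with the two-transitivity supplied -/
theorem glem' (hK : Pro K) (hP : PP K n) (hKH : K ≤ H) (hO : Orb H O) (hn : O.card ≤ n) {a b : Ω}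
    (ha : a ∈ fx K O) (hb : b ∈ O) (hba : b ≠ a) (h1 : del K (orb (fixS H {a}) b) = 1)
    (h4 : ∀ x ∈ O, x ≠ a → del K (orb (fixS H {a}) x) ≤ 4) :
    3 ≤ (orb (fixS H {a}) b).card ∧ ∃ c ∈ O, c ≠ a ∧ 2 ≤ (orb (fixS H {a}) c).card ∧
      (orb (fixS H {a}) b).card ≤ (orb (fixS H {a}) c).card + 1 ∧
      Blk H (insert a (orb (fixS H {a}) c)) :=
  glem hK hKH hO ha hb hba h1 (fun x hx _ h => e1 hK hP (le_fixS hKH (by simpa using (mem_fx.1 ha).2))
    (orb_orb _ x) ((card_le_card (orb_subset (hO.inv.fix1 _) hx)).trans hn) (mv_of_del h.ge) h) h4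

theorem cl_pair (hO : Orb H O) {b b' : Ω} (hb : b ∈ O) (e : cl K H O b = {b, b'}) {t : G}
    (ht : t ∈ H) {y : Ω} (hy : y ∈ cl K H O b) (hty : t • y = y) : ∀ z ∈ cl K H O b, t • z = z := by
  intro z hz
  have h1 := cl_blk hO hb t ht y hy (by rwa [hty]) z hz
  by_cases h : z = y
  · rw [h, hty]
  have h2 : t • z ≠ y := fun h' => h (smul_left_cancel t (h'.trans hty.symm))
  rw [e] at hy hz h1
  simp only [mem_insert, mem_singleton] at hy hz h1
  rcases hy with rfl | rfl <;> rcases hz with rfl | rfl <;> tauto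

theorem conj_orb (hO : Orb H O) {b b' : Ω} (hb : b ∈ O) (e : cl K H O b = {b, b'}) {g : G} (hg : g ∈ H)
    (hgC : g • b ∈ cl K H O b) {x y : Ω} (hy : y ∈ orb (fixS H {b}) x) :
    g • y ∈ orb (fixS H {b}) (g • x) := by
  obtain ⟨t, ht, rfl⟩ := mem_orb.1 hy
  refine mem_orb.2 ⟨g * t * g⁻¹, ⟨H.mul_mem (H.mul_mem hg ht.1) (H.inv_mem hg), fun d hd => ?_⟩,
    by simp [mul_smul]⟩
  rw [mem_singleton.1 hd, mul_smul, mul_smul, cl_pair hO hb e ht.1 (self_mem_cl hb)
    (ht.2 b (mem_singleton_self b)) _ (cl_blk hO hb _ (H.inv_mem hg) _ hgC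
      (by rw [inv_smul_smul]; exact self_mem_cl hb) _ (self_mem_cl hb)), smul_inv_smul]

theorem conj_card (hO : Orb H O) {b b' : Ω} (hb : b ∈ O) (e : cl K H O b = {b, b'}) {g : G} (hg : g ∈ H)
    (hgC : g • b ∈ cl K H O b) (x : Ω) : orb (fixS H {b}) (g • x) = g • orb (fixS H {b}) x := by
  ext y
  rw [← inv_smul_mem_iff]
  have h1 : g⁻¹ • b ∈ cl K H O b := cl_blk hO hb _ (H.inv_mem hg) _ hgC
    (by rw [inv_smul_smul]; exact self_mem_cl hb) _ (self_mem_cl hb)
  exact ⟨fun h => by simpa using conj_orb hO hb e (H.inv_mem hg) h1 h,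
    fun h => by simpa using conj_orb hO hb e hg hgC h⟩

theorem d2s (hK : Pro K) (hP : PP K n) (hKH : K ≤ H) (hO : Orb H O) (hn : O.card ≤ n)
    (hm : Mv K O) (h2 : del K O = 2) {b : Ω} (hb : b ∈ fx K O) :
    (cl K H O b).card ≤ 2 ∧ ∃ x y, O \ cl K H O b = orb (fixS H {b}) x ∪ orb (fixS H {b}) y ∧
      (x = y ∨ (2 * ((orb (fixS H {b}) x).card + (cl K H O b).card) ≤ O.card + 2 ∧
        2 * ((orb (fixS H {b}) y).card + (cl K H O b).card) ≤ O.card + 2)) := by
  have hb' := mem_fx.1 hb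
  have hC : cl K H O b ⊆ O := fun x hx => (mem_cl.1 hx).1
  have hbC := self_mem_cl (K := K) (H := H) hb'.1
  have c1 : 1 ≤ (cl K H O b).card := card_pos.2 ⟨b, hbC⟩
  have c2 : (cl K H O b).card ≤ 2 := by
    by_contra h
    have := card_cl_le hK hP hKH hO hn hm hb (by omega)
    omega
  refine ⟨c2, ?_⟩
  have hK' : K ≤ fixS H {b} := le_fixS hKH (by simpa using hb'.2)
  have hI : Inv (fixS H {b}) (O \ cl K H O b) := (hO.inv.fix1 _).sdiff (cl_inv hO)
  have hlt : (O \ cl K H O b).card < n := (card_lt_card (sdiff_ssubset hC ⟨b, hbC⟩)).trans_le hn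
  have hm' : ∀ x ∈ O \ cl K H O b, Mv K (orb (fixS H {b}) x) := fun x hx =>
    mv_of_not_cl hK hKH hb'.2 (mem_sdiff.1 hx).1 (mem_sdiff.1 hx).2
  have hd : del K (O \ cl K H O b) = 2 + (cl K H O b).card := by
    rw [del_sdiff hC, del_of_fx (fx_cl hb'.2), h2]; ring
  have hV := card_sdiff_add_card_eq_card hC
  have pair : (cl K H O b).card = 2 → ∃ b', b' ≠ b ∧ cl K H O b = {b, b'} := fun h => by
    obtain ⟨u, v, huv, e⟩ := card_eq_two.1 h
    rw [e] at hbC
    rcases mem_insert.1 hbC with rfl | h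
    · exact ⟨v, huv.symm, e⟩
    · obtain rfl := mem_singleton.1 h
      exact ⟨u, huv, e.trans (pair_comm _ _)⟩
  have sing : ∀ x ∈ cl K H O b, orb (fixS H {b}) x = {x} := fun x hx => by
    refine eq_singleton_iff_unique_mem.2 ⟨self_mem_orb _ _, fun y hy => ?_⟩
    obtain ⟨t, ht, rfl⟩ := mem_orb.1 hy
    rcases c2.lt_or_eq with h | h
    · rw [card_le_one.1 (by omega) x hx b hbC]; exact ht.2 b (mem_singleton_self b)
    · obtain ⟨b', -, e⟩ := pair h
      exact cl_pair hO hb'.1 e ht.1 hbC (ht.2 b (mem_singleton_self b)) x hx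
  -- a complement with small deficiency is one orbit
  have last : ∀ x ∈ O \ cl K H O b, ∀ y ∈ (O \ cl K H O b) \ orb (fixS H {b}) x,
      (∀ z ∈ O \ cl K H O b, del K (O \ cl K H O b) < del K (orb (fixS H {b}) x) +
        del K (orb (fixS H {b}) y) + del K (orb (fixS H {b}) z)) →
      O \ cl K H O b = orb (fixS H {b}) x ∪ orb (fixS H {b}) y := fun x hx y hy h => by
    have s1 := orb_subset hI hx
    have i1 := hI.sdiff (orb_orb (fixS H {b}) x).inv
    have s2 := orb_subset i1 hy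
    have i2 := i1.sdiff (orb_orb (fixS H {b}) y).inv
    by_contra hne
    obtain ⟨z, hz⟩ : (((O \ cl K H O b) \ orb (fixS H {b}) x) \ orb (fixS H {b}) y).Nonempty := by
      rw [sdiff_sdiff_left, sdiff_nonempty]
      exact fun h' => hne (h'.antisymm (union_subset s1 (s2.trans sdiff_subset)))
    have hz' := (mem_sdiff.1 (mem_sdiff.1 hz).1).1
    have a1 := del_sdiff (K := K) s1
    have a2 := del_sdiff (K := K) s2
    have := h z hz'
    rcases sub_del hP hK' i2 ((card_le_card (sdiff_subset.trans sdiff_subset)).trans_lt hlt)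
      (fun u hu => hm' u (mem_sdiff.1 (mem_sdiff.1 hu).1).1) (orb_orb _ z).inv (orb_subset i2 hz) with e | e
    · rw [e] at this; omega
    · omega
  by_cases h1 : ∃ x ∈ O \ cl K H O b, del K (orb (fixS H {b}) x) = 1
  · obtain ⟨x, hx, h1⟩ := h1
    have hxb : x ≠ b := fun e => (mem_sdiff.1 hx).2 (e ▸ hbC)
    obtain ⟨-, c, hc, hcb, l2, -, hB⟩ := glem' hK hP hKH hO hn hb (mem_sdiff.1 hx).1 hxb h1 fun z hz _ => by
      by_cases hz' : z ∈ cl K H O b
      · rw [sing z hz']; unfold del; simp; omega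
      rcases sub_del hP hK' hI hlt hm' (orb_orb _ z).inv (orb_subset hI (mem_sdiff.2 ⟨hz, hz'⟩)) with e | e
      · rw [e]; omega
      · omega
    have hcV : c ∈ O \ cl K H O b := mem_sdiff.2 ⟨hc, fun h => by rw [sing c h] at l2; simp at l2⟩
    have hs : insert b (orb (fixS H {b}) c) ⊆ O := insert_subset hb'.1 (orb_subset (hO.inv.fix1 _) hc)
    have hxc : x ∈ orb (fixS H {b}) c → del K (orb (fixS H {b}) c) = 1 := fun h => orb_eq h ▸ h1
    have hne : insert b (orb (fixS H {b}) c) ≠ O := fun e => by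
      have h3 := hxc ((mem_insert.1 (e ▸ (mem_sdiff.1 hx).1 : x ∈ insert b _)).resolve_left hxb)
      have := del_insert hb'.2 (not_mem_orb (H := H) hcb)
      rw [e] at this
      omega
    have d2 := blk_two hP hKH hO hn hb hc hcb (hm' c hcV) hB hne
    have hx' : x ∉ orb (fixS H {b}) c := fun h => by have := hxc h; omega
    obtain ⟨c0, c', p1, p2, p3, p4, -⟩ := blk_cnt hK hKH hO hB hs (mem_fx.2 ⟨mem_insert_self _ _, hb'.2⟩)
    have q1 := del_insert hb'.2 (not_mem_orb (H := H) hcb)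
    have q2 := card_insert_of_notMem (not_mem_orb (H := H) hcb)
    have q3 := card_lt_card (hs.ssubset_of_ne hne)
    have q4 : c0 = 2 ∧ del K (orb (fixS H {b}) c) = 2 := by
      unfold del at h2 q1 d2 ⊢
      rw [p3, p4] at h2
      rw [p3] at q3
      generalize (insert b (orb (fixS H {b}) c)).card = e at *
      generalize (fx K (insert b (orb (fixS H {b}) c))).card = e' at *
      obtain ⟨u, rfl⟩ := Nat.exists_eq_add_of_le p2
      obtain ⟨v, rfl⟩ : ∃ v, e = 2 * e' + 1 + v := ⟨e - (2 * e' + 1), by omega⟩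
      have h3 : u * (2 * e' + 1 + v) + c' * (1 + v) = 2 := by zify at h2 ⊢; linarith
      have h4 : u = 0 := by
        by_contra h; have : 1 ≤ u := by omega
        nlinarith
      subst h4
      have h5 : 2 ≤ c' := by by_contra h; have : c' = 1 := by omega
                             subst this; omega
      have h6 : v = 0 := by nlinarith
      subst h6
      omega
    obtain ⟨rfl, q4⟩ := q4
    rcases c2.lt_or_eq with h | h
    · have := last c hcV x (mem_sdiff.2 ⟨hx, hx'⟩) fun z hz => by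
        have := orb_del hP hK' hI hlt hm' hz
        omega
      refine ⟨c, x, this, .inr ?_⟩
      rw [this, card_union_of_disjoint (disjoint_left.2 fun z h1 h2 => hx' (by
        rw [← orb_eq h1, orb_eq h2]; exact self_mem_orb _ _))] at hV
      omega
    · obtain ⟨b', hbb, e⟩ := pair h
      have hb'C : b' ∈ cl K H O b := by simp [e]
      obtain ⟨g, hg, rfl⟩ := hO.tr b hb'.1 b' (hC hb'C)
      have r1 := conj_card hO hb'.1 e hg hb'C c
      have r2 : Disjoint (orb (fixS H {b}) c) (orb (fixS H {b}) (g • c)) := disjoint_left.2 fun z z1 z2 => by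
        rw [r1] at z2
        obtain ⟨w, hw, rfl⟩ := mem_smul_finset.1 z2
        have := hB g hg w (mem_insert_of_mem hw) (mem_insert_of_mem z1) b (mem_insert_self _ _)
        exact (mem_sdiff.1 (orb_subset hI hcV ((mem_insert.1 this).resolve_left hbb))).2 hb'C
      have r3 : g • c ∈ O \ cl K H O b := mem_sdiff.2 ⟨hO.inv g hg c hc, fun h => by
        have := congrArg card r1
        rw [sing _ h, card_smul_finset, card_singleton] at this
        omega⟩
      have r4 : (orb (fixS H {b}) (g • c)).card = (orb (fixS H {b}) c).card := by rw [r1, card_smul_finset]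
      refine ⟨c, g • c, (eq_of_subset_of_card_le (union_subset (orb_subset hI hcV) (orb_subset hI r3)) ?_).symm,
        .inr (by omega)⟩
      rw [card_union_of_disjoint r2]
      omega
  have h1 : ∀ x ∈ O \ cl K H O b, 2 ≤ del K (orb (fixS H {b}) x) := fun x hx => by
    have := orb_del hP hK' hI hlt hm' hx
    have : del K (orb (fixS H {b}) x) ≠ 1 := fun h => h1 ⟨x, hx, h⟩
    omega
  obtain ⟨x, hx, -⟩ := mv_of_del (K := K) (U := O \ cl K H O b) (by omega)
  by_cases hxV : O \ cl K H O b ⊆ orb (fixS H {b}) x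
  · exact ⟨x, x, by rw [union_self]; exact hxV.antisymm (orb_subset hI hx), .inl rfl⟩
  obtain ⟨y, hy⟩ := sdiff_nonempty.2 hxV
  have hy' := (mem_sdiff.1 hy).1
  have hxy := last x hx y hy fun z hz => by
    have := h1 x hx; have := h1 y hy'; have := h1 z hz
    omega
  have dj : Disjoint (orb (fixS H {b}) x) (orb (fixS H {b}) y) := disjoint_left.2 fun z h1 h2 =>
    (mem_sdiff.1 hy).2 (by rw [← orb_eq h1, orb_eq h2]; exact self_mem_orb _ _)
  refine ⟨x, y, hxy, .inr ?_⟩
  have c3 : (cl K H O b).card = 2 := by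
    have a1 := del_sdiff (K := K) (orb_subset hI hx)
    rw [show (O \ cl K H O b) \ orb (fixS H {b}) x = orb (fixS H {b}) y by
      rw [hxy, union_sdiff_cancel_left dj]] at a1
    have := h1 x hx; have := h1 y hy'
    omega
  obtain ⟨b', -, e⟩ := pair c3
  rw [hxy, card_union_of_disjoint dj] at hV
  by_cases hg : ∃ g ∈ H, g • b ∈ cl K H O b ∧ g • x ∈ orb (fixS H {b}) y
  · obtain ⟨g, hg, g1, g2⟩ := hg
    have := congrArg card (conj_card hO hb'.1 e hg g1 x)
    rw [orb_eq g2, card_smul_finset] at this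
    omega
  obtain ⟨f1, f2⟩ := cl_facts hK hKH hO hb
  have hB := cl_blk (K := K) hO hb'.1
  have f3 := mv_cl hK hKH hO hm hb
  have f4 := hP _ H _ hKH (orb_orb H (cl K H O b)) (by rw [c3] at f1; omega) f3
  have hT := e1 hK hP hKH (orb_orb H (cl K H O b)) (by rw [c3] at f1; omega) f3 (by rw [c3] at f2; omega)
  have key : ∀ u ∈ O \ cl K H O b, (∀ g ∈ H, g • b ∈ cl K H O b → g • u ∈ orb (fixS H {b}) u) →
      (orb H (cl K H O b)).card ≤ (orb (fixS H {b}) u).card + 1 := fun u hu h => by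
    obtain ⟨t, ht, rfl⟩ := hO.tr b hb'.1 u (mem_sdiff.1 hu).1
    have t1 : t • cl K H O b ≠ cl K H O b := fun e' => (mem_sdiff.1 hu).2 (e' ▸ smul_mem_smul_finset hbC)
    have : ∀ C ∈ (orb H (cl K H O b)).erase (cl K H O b), ∃ z ∈ orb (fixS H {b}) (t • b), z ∈ C := by
      intro C hC
      obtain ⟨g, hg, e'⟩ := hT {cl K H O b, t • cl K H O b} (fun D => if D = cl K H O b then D else C)
        (insert_subset (self_mem_orb _ _) (singleton_subset_iff.2 (mem_orb.2 ⟨t, ht, rfl⟩))) card_le_two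
        (fun D hD D' hD' => by
          have := (mem_erase.1 hC).1
          simp only [coe_insert, coe_singleton, Set.mem_insert_iff, Set.mem_singleton_iff] at hD hD'
          rcases hD with rfl | rfl <;> rcases hD' with rfl | rfl <;> simp [t1, this, this.symm])
        (fun D hD => by
          split_ifs with h'
          exacts [h' ▸ self_mem_orb _ _, (mem_erase.1 hC).2])
      have e1 := e' _ (mem_insert_self _ _)
      have e2 := e' _ (mem_insert_of_mem (mem_singleton_self _))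
      simp only [if_true, t1, if_false] at e1 e2
      exact ⟨g • t • b, h g hg (e1 ▸ smul_mem_smul_finset hbC),
        e2 ▸ smul_mem_smul_finset (smul_mem_smul_finset hbC)⟩
    have : Nonempty Ω := ⟨b⟩
    choose! z z1 z2 using ‹∀ C ∈ (orb H (cl K H O b)).erase (cl K H O b), _›
    have := card_le_card_of_injOn z z1 fun C hC D hD e' => hB.eq_of_mem (mem_erase.1 hC).2
      (mem_erase.1 hD).2 (z2 C hC) (e' ▸ z2 D hD)
    rw [card_erase_of_mem (self_mem_orb _ _)] at this
    omega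
  have mv : ∀ g ∈ H, g • b ∈ cl K H O b → ∀ u ∈ O \ cl K H O b,
      g • u ∈ orb (fixS H {b}) x ∪ orb (fixS H {b}) y := fun g hg g1 u hu => by
    rw [← hxy]
    refine mem_sdiff.2 ⟨hO.inv g hg u (mem_sdiff.1 hu).1, fun h => (mem_sdiff.1 hu).2 ?_⟩
    simpa using hB _ (H.inv_mem hg) _ g1 (by simpa) _ h
  have k1 := key x hx fun g hg' g1 => (mem_union.1 (mv g hg' g1 x hx)).resolve_right fun h => hg ⟨g, hg', g1, h⟩
  have k2 := key y hy' fun g hg' g1 => (mem_union.1 (mv g hg' g1 y hy')).resolve_left fun h => by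
    have g2 : g⁻¹ • b ∈ cl K H O b := hB _ (H.inv_mem hg') _ g1 (by simpa) _ hbC
    refine hg ⟨g⁻¹, H.inv_mem hg', g2, ?_⟩
    have := conj_orb hO hb'.1 e (H.inv_mem hg') g2 (show x ∈ orb (fixS H {b}) (g • y) by
      rw [orb_eq h]; exact self_mem_orb _ _)
    rwa [inv_smul_smul] at this
  rw [c3] at f1
  omega

theorem d2 (hK : Pro K) (hP : PP K n) (hKH : K ≤ H) (hO : Orb H O) (hn : O.card ≤ n)
    (hm : Mv K O) (h2 : del K O = 2) {b : Ω} (hb : b ∈ fx K O) :
    (∀ x ∈ O.erase b, ∀ y ∈ O.erase b, orb (fixS H {b}) x = {x} → orb (fixS H {b}) y = {y} → x = y) ∧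
    (∀ x ∈ O.erase b, ∀ y ∈ O.erase b, ∀ z ∈ O.erase b, orb (fixS H {b}) x ≠ {x} →
      orb (fixS H {b}) y ≠ {y} → orb (fixS H {b}) z ≠ {z} →
      y ∈ orb (fixS H {b}) x ∨ z ∈ orb (fixS H {b}) x ∨ z ∈ orb (fixS H {b}) y) ∧
    ∀ U ⊆ O.erase b, Inv (fixS H {b}) U → 2 * U.card ≤ O.card ∨ O.card ≤ U.card + 2 := by
  obtain ⟨c2, x, y, e, h⟩ := d2s hK hP hKH hO hn hm h2 hb
  have hb' := mem_fx.1 hb
  have hbC := self_mem_cl (K := K) (H := H) hb'.1
  have hC : cl K H O b ⊆ O := fun x hx => (mem_cl.1 hx).1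
  have c3 : ((cl K H O b).erase b).card ≤ 1 := by rw [card_erase_of_mem hbC]; omega
  have s1 : ∀ u ∈ O.erase b, orb (fixS H {b}) u = {u} → u ∈ (cl K H O b).erase b := fun u hu h => by
    refine mem_erase.2 ⟨(mem_erase.1 hu).1, by_contra fun h' => ?_⟩
    obtain ⟨z, hz, hz'⟩ := mv_of_not_cl hK hKH hb'.2 (mem_erase.1 hu).2 h'
    rw [h] at hz
    obtain rfl := mem_singleton.1 hz
    exact hz' fun k hk => mem_singleton.1 (h ▸ mem_orb.2 ⟨k, le_fixS hKH (by simpa using hb'.2) hk, rfl⟩)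
  have s2 : ∀ u ∈ O.erase b, orb (fixS H {b}) u ≠ {u} →
      orb (fixS H {b}) u = orb (fixS H {b}) x ∨ orb (fixS H {b}) u = orb (fixS H {b}) y := fun u hu h => by
    have : u ∈ O \ cl K H O b := mem_sdiff.2 ⟨(mem_erase.1 hu).2, fun h' => h ?_⟩
    · exact (mem_union.1 (e ▸ this)).imp orb_eq orb_eq
    refine eq_singleton_iff_unique_mem.2 ⟨self_mem_orb _ _, fun z hz => card_le_one.1 c3 z ?_ u
      (mem_erase.2 ⟨(mem_erase.1 hu).1, h'⟩)⟩
    exact mem_erase.2 ⟨fun e' => not_mem_orb (mem_erase.1 hu).1 (e' ▸ hz), orb_subset (cl_inv hO) h' hz⟩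
  refine ⟨fun u hu v hv h1 h2 => card_le_one.1 c3 u (s1 u hu h1) v (s1 v hv h2),
    fun u hu v hv w hw h1 h2 h3 => ?_, fun U hU hI => ?_⟩
  · have a := self_mem_orb (fixS H {b}) v
    have b := self_mem_orb (fixS H {b}) w
    rcases s2 u hu h1 with p | p <;> rcases s2 v hv h2 with q | q <;> rcases s2 w hw h3 with r | r <;>
      simp_all
  have hV := card_sdiff_add_card_eq_card hC
  have part : ∀ u v, O \ cl K H O b = orb (fixS H {b}) u ∪ orb (fixS H {b}) v → v ∉ U →
      U.card + 1 ≤ (orb (fixS H {b}) u \ orb (fixS H {b}) v).card + (cl K H O b).card := fun u v e hv => by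
    have : U ⊆ (orb (fixS H {b}) u \ orb (fixS H {b}) v) ∪ (cl K H O b).erase b := fun z hz => by
      have hz' := mem_erase.1 (hU hz)
      by_cases h' : z ∈ cl K H O b
      · exact mem_union_right _ (mem_erase.2 ⟨hz'.1, h'⟩)
      have h3 : z ∉ orb (fixS H {b}) v := fun h3 =>
        hv (orb_subset hI hz (by rw [orb_eq h3]; exact self_mem_orb _ _))
      exact mem_union_left _ (mem_sdiff.2
        ⟨(mem_union.1 (e ▸ mem_sdiff.2 ⟨hz'.2, h'⟩)).resolve_right h3, h3⟩)
    have := (card_le_card this).trans (card_union_le _ _)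
    rw [card_erase_of_mem hbC] at this
    have := card_pos.2 ⟨b, hbC⟩
    omega
  have h0 : 2 ≤ O.card := by unfold del at h2; omega
  by_cases hx : x ∈ U
  · by_cases hy : y ∈ U
    · have := card_le_card (e ▸ union_subset (orb_subset hI hx) (orb_subset hI hy) : O \ cl K H O b ⊆ U)
      omega
    · have := part x y e hy
      have := card_le_card (sdiff_subset : orb (fixS H {b}) x \ orb (fixS H {b}) y ⊆ _)
      rcases h with rfl | h
      · exact absurd hx hy
      · omega
  · have := part y x (e.trans (union_comm _ _)) hx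
    rcases h with rfl | h
    · simp at this; omega
    · have := card_le_card (sdiff_subset : orb (fixS H {b}) y \ orb (fixS H {b}) x ⊆ _)
      omega

end Cfsg.Agent.L0.Pn
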