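import Cfsg.Agent.L0.PnDef

set_option autoImplicit false
set_option linter.unusedSectionVars false

namespace Cfsg.Agent.L0.Pn

open Finset
open scoped Pointwise

variable {G : Type} [Group G] [Finite G] {Ω : Type} [Fintype Ω] [DecidableEq Ω] [MulAction G Ω]
  {K H : Subgroup G} {O : Finset Ω} {n : ℕ}

theorem le_fixS (hKH : K ≤ H) {D : Finset Ω} (hD : ∀ d ∈ D, Fx K d) : K ≤ fixS H D :=
  fun k hk => ⟨hKH hk, fun d hd => hD d hd k hk⟩

theorem orb_orb (H : Subgroup G) (x : Ω) : Orb H (orb H x) := by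
  refine ⟨fun h hh y hy => ?_, fun y hy z hz => ?_⟩
  · obtain ⟨g, hg, rfl⟩ := mem_orb.1 hy
    exact mem_orb.2 ⟨h * g, H.mul_mem hh hg, mul_smul _ _ _⟩
  · obtain ⟨g, hg, rfl⟩ := mem_orb.1 hy
    obtain ⟨h, hh, rfl⟩ := mem_orb.1 hz
    exact ⟨h * g⁻¹, H.mul_mem hh (H.inv_mem hg), by rw [mul_smul, inv_smul_smul]⟩

theorem self_mem_orb (H : Subgroup G) (x : Ω) : x ∈ orb H x := mem_orb.2 ⟨1, H.one_mem, one_smul _ _⟩

theorem orb_subset (hO : Inv H O) {x : Ω} (hx : x ∈ O) : orb H x ⊆ O := fun y hy => by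
  obtain ⟨g, hg, rfl⟩ := mem_orb.1 hy
  exact hO g hg x hx

theorem orb_eq {x y : Ω} (h : y ∈ orb H x) : orb H y = orb H x := by
  refine (orb_subset (orb_orb H x).inv h).antisymm (orb_subset (orb_orb H y).inv ?_)
  exact mem_orb.2 ((orb_orb H x).tr y h x (self_mem_orb H x))

theorem del_sdiff {A U : Finset Ω} (h : A ⊆ U) : del K (U \ A) = del K U - del K A := by
  have h1 : fx K (U \ A) = fx K U \ fx K A := by ext x; simp only [mem_fx, mem_sdiff]; tauto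
  have h2 : fx K A ⊆ fx K U := fun x hx => mem_fx.2 ⟨h (mem_fx.1 hx).1, (mem_fx.1 hx).2⟩
  unfold del
  rw [h1, card_sdiff_of_subset h, card_sdiff_of_subset h2, Nat.cast_sub (card_le_card h),
    Nat.cast_sub (card_le_card h2)]
  ring

theorem fx_subset (K : Subgroup G) (O : Finset Ω) : fx K O ⊆ O := fun _ hx => (mem_fx.1 hx).1

theorem mem_conj {g x : G} : x ∈ K.map (MulAut.conj g).toMonoidHom ↔ g⁻¹ * x * g ∈ K := by
  constructor
  · rintro ⟨k, hk, rfl⟩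
    simpa [mul_assoc] using hk
  · exact fun h => ⟨_, h, by simp [mul_assoc]⟩

/-- the usable form of pronormality -/
theorem Pro.ex (hK : Pro K) (g : G) {L : Subgroup G} (h1 : K ≤ L) (h2 : ∀ k ∈ K, g * k * g⁻¹ ∈ L) :
    ∃ w ∈ L, ∀ x : Ω, Fx K (w⁻¹ • x) ↔ Fx K (g⁻¹ • x) := by
  obtain ⟨w, hw, e⟩ := hK g
  refine ⟨w, (sup_le h1 ?_ : _ ≤ L) hw, fun x => ?_⟩
  · rintro _ ⟨k, hk, rfl⟩
    exact h2 k hk
  have key : ∀ u : G, Fx K (u⁻¹ • x) ↔ ∀ y ∈ K.map (MulAut.conj u).toMonoidHom, y • x = x := by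
    intro u
    constructor
    · intro h y hy
      have := h _ (mem_conj.1 hy)
      rwa [mul_smul, mul_smul, smul_inv_smul, smul_left_cancel_iff] at this
    · intro h k hk
      have := h (u * k * u⁻¹) (mem_conj.2 (by simpa [mul_assoc] using hk))
      rw [mul_smul, mul_smul, smul_eq_iff_eq_inv_smul] at this
      exact this
  rw [key, key, e]

/-- Witt -/
theorem witt (hK : Pro K) (hKH : K ≤ H) {g : G} (hg : g ∈ H) {D : Finset Ω}
    (h1 : ∀ d ∈ D, Fx K d) (h2 : ∀ d ∈ D, Fx K (g • d)) :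
    ∃ m ∈ H, (∀ x : Ω, Fx K (m • x) ↔ Fx K x) ∧ ∀ d ∈ D, m • d = g • d := by
  obtain ⟨w, hw, e⟩ := hK.ex (Ω := Ω) g⁻¹ (le_fixS hKH h1) (fun k hk =>
    ⟨H.mul_mem (H.mul_mem (H.inv_mem hg) (hKH hk)) (H.inv_mem (H.inv_mem hg)), fun d hd => by
      rw [inv_inv, mul_smul, mul_smul, h2 d hd k hk, inv_smul_smul]⟩)
  refine ⟨g * w, H.mul_mem hg hw.1, fun x => ?_, fun d hd => by rw [mul_smul, hw.2 d hd]⟩
  have := e (w • x)
  rw [inv_smul_smul, inv_inv] at this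
  rw [mul_smul, this]

theorem Inv.sdiff {A U : Finset Ω} (hU : Inv H U) (hA : Inv H A) : Inv H (U \ A) := fun h hh x hx => by
  rw [mem_sdiff] at hx ⊢
  refine ⟨hU h hh x hx.1, fun h' => hx.2 ?_⟩
  simpa using hA _ (H.inv_mem hh) _ h'

/-- invariant sets without fixed orbits -/
theorem del_pos (hP : PP K n) (hKH : K ≤ H) {U : Finset Ω} (hU : Inv H U) (hn : U.card < n)
    (hm : ∀ x ∈ U, Mv K (orb H x)) : U = ∅ ∨ 1 ≤ del K U := by
  induction U using Finset.strongInduction with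
  | H U ih =>
    rcases U.eq_empty_or_nonempty with h | ⟨x, hx⟩
    · exact .inl h
    have hs := orb_subset hU hx
    have h1 := hP Ω H _ hKH (orb_orb H x) ((card_le_card hs).trans_lt hn) (hm x hx)
    have h2 := del_sdiff (K := K) hs
    rcases ih (U \ orb H x) (sdiff_ssubset hs ⟨x, self_mem_orb H x⟩) (hU.sdiff (orb_orb H x).inv)
      ((card_le_card sdiff_subset).trans_lt hn) (fun y hy => hm y (mem_sdiff.1 hy).1) with h | h
    · rw [h] at h2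
      have : del K (∅ : Finset Ω) = 0 := by simp [del, fx]
      right; omega
    · right; omega

theorem TrK.mono {j k : ℕ} (h : TrK H O k) (hj : j ≤ k) : TrK H O j :=
  fun D φ h1 h2 => h D φ h1 (h2.trans hj)

theorem TrK.fix {j k : ℕ} {D : Finset Ω} (h : TrK H O (j + k)) (hD : D ⊆ O) (hc : D.card = j) :
    TrK (fixS H D) (O \ D) k := by
  intro E φ h1 h2 h3 h4
  obtain ⟨g, hg, e⟩ := h (D ∪ E) (fun x => if x ∈ D then x else φ x)
    (union_subset hD (h1.trans sdiff_subset)) ((card_union_le _ _).trans (by omega))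
    (fun x hx y hy hxy => by
      simp only [coe_union, Set.mem_union, mem_coe] at hx hy
      by_cases a : x ∈ D <;> by_cases b : y ∈ D <;> simp only [a, b, if_true, if_false] at hxy
      · exact hxy
      · exact absurd (hxy ▸ a) (mem_sdiff.1 (h4 y (hy.resolve_left b))).2
      · exact absurd (hxy ▸ b) (mem_sdiff.1 (h4 x (hx.resolve_left a))).2
      · exact h3 (hx.resolve_left a) (hy.resolve_left b) hxy)
    (fun d hd => by
      by_cases a : d ∈ D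
      · simpa [a] using hD a
      · simpa [a] using (mem_sdiff.1 (h4 d ((mem_union.1 hd).resolve_left a))).1)
  refine ⟨g, ⟨hg, fun d hd => by simpa [hd] using e d (mem_union_left _ hd)⟩, fun d hd => ?_⟩
  simpa [(mem_sdiff.1 (h1 hd)).2] using e d (mem_union_right _ hd)

theorem Inv.fix (h : Inv H O) (D : Finset Ω) : Inv (fixS H D) (O \ D) := fun g hg x hx => by
  rw [mem_sdiff] at hx ⊢
  refine ⟨h g hg.1 x hx.1, fun h' => hx.2 ?_⟩
  have := hg.2 _ h'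
  rw [smul_left_cancel_iff] at this
  exact this ▸ h'

theorem TrK.orb (hI : Inv H O) (h : TrK H O 1) : Orb H O := ⟨hI, fun x hx y hy => by
  obtain ⟨g, hg, e⟩ := h {x} (fun _ => y) (by simpa) (by simp) (by simp) (by simpa)
  exact ⟨g, hg, e x (mem_singleton_self x)⟩⟩

theorem Orb.trK (h : Orb H O) : TrK H O 1 := by
  intro E φ h1 h2 _ h4
  rcases E.eq_empty_or_nonempty with rfl | ⟨x, hx⟩
  · exact ⟨1, H.one_mem, by simp⟩
  obtain ⟨g, hg, e⟩ := h.tr x (h1 hx) _ (h4 x hx)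
  exact ⟨g, hg, fun d hd => by rw [card_le_one.1 h2 d hd x hx, e]⟩

theorem exists_bij {D E : Finset Ω} (h : D.card = E.card) :
    ∃ ψ : Ω → Ω, Set.InjOn ψ D ∧ (∀ d ∈ D, ψ d ∈ E) ∧ ∀ y ∈ E, ∃ d ∈ D, ψ d = y := by
  let e := Finset.equivOfCardEq h
  refine ⟨fun y => if h : y ∈ D then e ⟨y, h⟩ else y, fun x hx y hy hxy => ?_, fun d hd => ?_,
    fun y hy => ⟨e.symm ⟨y, hy⟩, (e.symm ⟨y, hy⟩).2, by simp⟩⟩
  · simp only [mem_coe.1 hx, mem_coe.1 hy, dif_pos] at hxy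
    exact congrArg Subtype.val (e.injective (Subtype.ext hxy))
  · simp only [hd, dif_pos]; exact (e _).2

theorem TrK.succ {k : ℕ} {D : Finset Ω} (hI : Inv H O) (h : TrK H O k) (hD : D ⊆ O) (hc : D.card = k)
    (ht : Orb (fixS H D) (O \ D)) : TrK H O (k + 1) := by
  intro E φ h1 h2 h3 h4
  rcases h2.lt_or_eq with h2 | h2
  · exact h E φ h1 (by omega) h3 h4
  obtain ⟨x, E', hx, rfl, hE⟩ := card_eq_succ.1 h2
  obtain ⟨ψ, p1, p2, p3⟩ := exists_bij (hc.trans hE.symm)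
  have s1 : ∀ d ∈ D, ψ d ∈ insert x E' := fun d hd => mem_insert_of_mem (p2 d hd)
  obtain ⟨g1, hg1, e1⟩ := h D ψ hD hc.le p1 fun d hd => h1 (s1 d hd)
  obtain ⟨g2, hg2, e2⟩ := h D (φ ∘ ψ) hD hc.le (h3.comp p1 fun d hd => s1 d hd)
    fun d hd => h4 _ (s1 d hd)
  have hx' := mem_insert_self x E'
  obtain ⟨t, ht', e⟩ := ht.tr (g1⁻¹ • x) (mem_sdiff.2 ⟨hI _ (H.inv_mem hg1) _ (h1 hx'), fun a => by
      have := e1 _ a
      rw [smul_inv_smul] at this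
      exact hx (this ▸ p2 _ a)⟩) (g2⁻¹ • φ x) (mem_sdiff.2 ⟨hI _ (H.inv_mem hg2) _ (h4 _ hx'), fun a => by
      have := e2 _ a
      rw [smul_inv_smul] at this
      exact hx (h3 hx' (s1 _ a) this ▸ p2 _ a)⟩)
  refine ⟨g2 * t * g1⁻¹, H.mul_mem (H.mul_mem hg2 ht'.1) (H.inv_mem hg1), fun d hd => ?_⟩
  rw [mul_smul, mul_smul]
  rcases mem_insert.1 hd with rfl | hd
  · rw [e, smul_inv_smul]
  · obtain ⟨y, hy, rfl⟩ := p3 d hd
    rw [← e1 y hy, inv_smul_smul, ht'.2 y hy, e2 y hy, e1 y hy]; rfl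

theorem fixS_insert (a : Ω) (D : Finset Ω) : fixS (fixS H D) {a} = fixS H (insert a D) := by
  ext g; simp only [mem_fixS, mem_singleton, forall_eq, mem_insert, forall_eq_or_imp]; tauto

theorem mv_of_not_cl (hK : Pro K) (hKH : K ≤ H) {a x : Ω} (ha : Fx K a) (hx : x ∈ O)
    (h : x ∉ cl K H O a) : Mv K (orb (fixS H {a}) x) := by
  rw [mem_cl] at h
  push Not at h
  obtain ⟨g, hg, h1, h2⟩ := h hx
  obtain ⟨m, hm, e1, e2⟩ := witt (D := {a}) hK hKH hg (by simpa) (by simpa)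
  refine ⟨m⁻¹ • g • x, mem_orb.2 ⟨m⁻¹ * g, ⟨H.mul_mem (H.inv_mem hm) hg, ?_⟩, mul_smul _ _ _⟩, ?_⟩
  · intro d hd
    rw [mul_smul, ← e2 d hd, inv_smul_smul]
  · rwa [← e1, smul_inv_smul]

theorem cl_inv (hO : Orb H O) {a : Ω} : Inv (fixS H {a}) (cl K H O a) := fun h hh x hx => by
  rw [mem_cl] at hx ⊢
  refine ⟨hO.inv h hh.1 x hx.1, fun g hg e => ?_⟩
  rw [← mul_smul]
  exact hx.2 _ (H.mul_mem hg hh.1) (by rwa [mul_smul, hh.2 a (mem_singleton_self a)])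

theorem cl_symm (hO : Orb H O) {a x : Ω} (ha : a ∈ O) (hx : x ∈ cl K H O a) :
    ∀ g ∈ H, Fx K (g • x) → Fx K (g • a) := by
  rw [mem_cl] at hx
  obtain ⟨t, ht, e⟩ := hO.tr a ha x hx.1
  have : {g | g ∈ H ∧ Fx K (g • a)} = {g | g ∈ H ∧ Fx K (g • x)} := by
    refine Set.eq_of_subset_of_ncard_le (fun g hg => ⟨hg.1, hx.2 g hg.1 hg.2⟩) ?_ (Set.toFinite _)
    refine Set.ncard_le_ncard_of_injOn (· * t) (fun g hg => ⟨H.mul_mem hg.1 ht, ?_⟩)
      (fun _ _ _ _ h => mul_right_cancel h) (Set.toFinite _)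
    rw [mul_smul, e]; exact hg.2
  exact fun g hg h => (this.ge ⟨hg, h⟩).2

theorem cl_blk (hO : Orb H O) {a : Ω} (ha : a ∈ O) : Blk H (cl K H O a) := fun h hh x hx hx' y hy => by
  refine mem_cl.2 ⟨hO.inv h hh y (mem_cl.1 hy).1, fun g hg e => ?_⟩
  rw [← mul_smul]
  refine (mem_cl.1 hy).2 _ (H.mul_mem hg hh) (cl_symm hO ha hx _ (H.mul_mem hg hh) ?_)
  rw [mul_smul]
  exact (mem_cl.1 hx').2 g hg e

theorem self_mem_cl {a : Ω} (ha : a ∈ O) : a ∈ cl K H O a := mem_cl.2 ⟨ha, fun _ _ h => h⟩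

theorem fx_cl {a : Ω} (ha : Fx K a) : fx K (cl K H O a) = cl K H O a := by
  ext x
  rw [mem_fx, and_iff_left_iff_imp, mem_cl]
  exact fun h => by simpa using h.2 1 H.one_mem (by simpa)

theorem Blk.smul_eq {B : Finset Ω} (hB : Blk H B) {h : G} (hh : h ∈ H) {x : Ω} (hx : x ∈ B)
    (hx' : h • x ∈ B) : h • B = B :=
  eq_of_subset_of_card_le (fun y hy => by
    obtain ⟨z, hz, rfl⟩ := mem_smul_finset.1 hy
    exact hB h hh x hx hx' z hz) (card_smul_finset h B).ge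

theorem Blk.eq_of_mem {B C C' : Finset Ω} (hB : Blk H B) (hC : C ∈ orb H B) (hC' : C' ∈ orb H B)
    {x : Ω} (hx : x ∈ C) (hx' : x ∈ C') : C = C' := by
  obtain ⟨g, hg, rfl⟩ := mem_orb.1 hC
  obtain ⟨h, hh, rfl⟩ := mem_orb.1 hC'
  obtain ⟨y, hy, rfl⟩ := mem_smul_finset.1 hx
  have := hB.smul_eq (H.mul_mem (H.inv_mem hh) hg) hy (by
    rw [mul_smul]; exact inv_smul_mem_iff.2 hx')
  rw [mul_smul, inv_smul_eq_iff] at this
  exact this

theorem Blk.fx {B C : Finset Ω} (hB : Blk H B) (hKH : K ≤ H) (hC : C ∈ orb H B) {x : Ω}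
    (hx : x ∈ fx K C) : Fx K C := fun k hk =>
  hB.eq_of_mem ((orb_orb H B).inv k (hKH hk) C hC) hC
    (mem_smul_finset.2 ⟨x, (mem_fx.1 hx).1, (mem_fx.1 hx).2 k hk⟩) (mem_fx.1 hx).1

theorem Blk.cover (hO : Orb H O) {B : Finset Ω} {a : Ω} (ha : a ∈ B) (hBO : B ⊆ O) :
    O = (orb H B).biUnion id := by
  ext x
  simp only [mem_biUnion, id, mem_orb]
  constructor
  · intro hx
    obtain ⟨g, hg, rfl⟩ := hO.tr a (hBO ha) x hx
    exact ⟨g • B, ⟨g, hg, rfl⟩, smul_mem_smul_finset ha⟩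
  · rintro ⟨_, ⟨g, hg, rfl⟩, hx⟩
    obtain ⟨y, hy, rfl⟩ := mem_smul_finset.1 hx
    exact hO.inv g hg y (hBO hy)

theorem Blk.card_fx (hK : Pro K) (hKH : K ≤ H) (hO : Orb H O) {B C : Finset Ω} (hB : Blk H B)
    (hBO : B ⊆ O) {a : Ω}
    (ha : a ∈ Pn.fx K B) (hC : C ∈ orb H B) (h : (Pn.fx K C).Nonempty) :
    (Pn.fx K C).card = (Pn.fx K B).card := by
  obtain ⟨x, hx⟩ := h
  obtain ⟨g, hg, rfl⟩ := mem_orb.1 hC
  obtain ⟨y, hy, rfl⟩ := mem_smul_finset.1 (mem_fx.1 hx).1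
  by_cases e : ∃ t ∈ H, t • a = y
  · obtain ⟨t, ht, rfl⟩ := e
    obtain ⟨m, hm, e1, e2⟩ := witt (D := {a}) hK hKH (H.mul_mem hg ht) (by simpa using (mem_fx.1 ha).2)
      (by simpa [mul_smul] using (mem_fx.1 hx).2)
    have e3 : g • B = m • B := hB.eq_of_mem hC (mem_orb.2 ⟨m, hm, rfl⟩) (mem_fx.1 hx).1 (by
      rw [← mul_smul, ← e2 a (mem_singleton_self a)]; exact smul_mem_smul_finset (mem_fx.1 ha).1)
    have : Pn.fx K (m • B) = m • Pn.fx K B := by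
      ext z
      rw [mem_fx, ← inv_smul_mem_iff, ← inv_smul_mem_iff, mem_fx, ← e1 (m⁻¹ • z), smul_inv_smul]
    rw [e3, this, card_smul_finset]
  · exact absurd (hO.tr a (hBO (mem_fx.1 ha).1) y (hBO hy)) e

theorem blk_facts (hK : Pro K) (hKH : K ≤ H) (hO : Orb H O) {B : Finset Ω} (hB : Blk H B) (hBO : B ⊆ O)
    {a : Ω} (ha : a ∈ fx K B) : O.card = (orb H B).card * B.card ∧
      (fx K O).card = ((orb H B).filter fun C => (fx K C).Nonempty).card * (fx K B).card := by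
  have hd : ((orb H B : Finset (Finset Ω)) : Set (Finset Ω)).PairwiseDisjoint id := fun C hC C' hC' hne =>
    disjoint_left.2 fun x hx hx' => hne (hB.eq_of_mem hC hC' hx hx')
  have hc := Blk.cover hO (mem_fx.1 ha).1 hBO
  constructor
  · conv_lhs => rw [hc]
    rw [card_biUnion hd, sum_const_nat]
    intro C hC
    obtain ⟨g, -, rfl⟩ := mem_orb.1 hC
    exact card_smul_finset g B
  · have : fx K O = ((orb H B).filter fun C => (fx K C).Nonempty).biUnion (fx K) := by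
      ext x
      conv_lhs => rw [hc]
      simp only [mem_fx, mem_biUnion, id, mem_filter]
      exact ⟨fun ⟨⟨C, h1, h2⟩, h3⟩ => ⟨C, ⟨h1, x, mem_fx.2 ⟨h2, h3⟩⟩, h2, h3⟩,
        fun ⟨C, h1, h2, h3⟩ => ⟨⟨C, h1.1, h2⟩, h3⟩⟩
    rw [this, card_biUnion, sum_const_nat]
    · exact fun C hC => hB.card_fx hK hKH hO hBO ha (mem_filter.1 hC).1 (mem_filter.1 hC).2
    · exact fun C hC C' hC' hne => (hd (mem_filter.1 hC).1 (mem_filter.1 hC').1 hne).mono
        (fx_subset K C) (fx_subset K C')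

/-- counting the translates of a block -/
theorem blk_cnt (hK : Pro K) (hKH : K ≤ H) (hO : Orb H O) {B : Finset Ω} (hB : Blk H B) (hBO : B ⊆ O)
    {a : Ω} (ha : a ∈ fx K B) : ∃ c c' : ℕ, 1 ≤ c' ∧ c' ≤ c ∧ O.card = c * B.card ∧
      (fx K O).card = c' * (fx K B).card ∧
      (c = c' → B.card = 3 → (fx K B).card = 1 → Exp2 K O) := by
  obtain ⟨h1, h2⟩ := blk_facts hK hKH hO hB hBO ha
  refine ⟨_, _, card_pos.2 ⟨B, mem_filter.2 ⟨self_mem_orb H B, a, ha⟩⟩, card_filter_le _ _, h1, h2,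
    fun e h3 h4 k hk x hx => ?_⟩
  rw [Blk.cover hO (mem_fx.1 ha).1 hBO] at hx
  obtain ⟨C, hC, hx⟩ := mem_biUnion.1 hx
  have hne := (card_filter_eq_iff.1 e.symm) C hC
  have c1 := hB.card_fx hK hKH hO hBO ha hC hne
  have c2 : C.card = 3 := by
    obtain ⟨g, -, rfl⟩ := mem_orb.1 hC
    rw [card_smul_finset, h3]
  obtain ⟨z, hz⟩ := hne
  have hf := hB.fx hKH hC hz
  have m1 : ∀ y ∈ C \ fx K C, k • y ∈ C \ fx K C := fun y hy => by
    rw [mem_sdiff, mem_fx] at hy ⊢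
    refine ⟨hf k hk ▸ smul_mem_smul_finset hy.1, fun h => hy.2 ⟨hy.1, ?_⟩⟩
    have := h.2 _ (K.inv_mem hk)
    rw [inv_smul_smul] at this
    exact this ▸ h.2
  by_cases hx' : Fx K x
  · rw [hx' k hk, hx' k hk]
  have m2 : x ∈ C \ fx K C := mem_sdiff.2 ⟨hx, fun h => hx' (mem_fx.1 h).2⟩
  have c3 : (C \ fx K C).card = 2 := by rw [card_sdiff_of_subset (fx_subset K C)]; omega
  by_contra hne
  have a1 : k • x ≠ x := fun h => hne (by rw [h, h])
  have a2 : k • k • x ≠ k • x := fun h => a1 (smul_left_cancel k h)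
  have := card_le_card (show ({k • k • x, k • x, x} : Finset Ω) ⊆ C \ fx K C by
    simp only [insert_subset_iff, singleton_subset_iff]
    exact ⟨m1 _ (m1 _ m2), m1 _ m2, m2⟩)
  rw [card_eq_three.2 ⟨_, _, _, a2, hne, a1, rfl⟩] at this
  omega

theorem Blk.orb (hO : Orb H O) {B : Finset Ω} (hB : Blk H B) (hBO : B ⊆ O) :
    Orb (H ⊓ MulAction.stabilizer G B) B := by
  refine ⟨fun h hh x hx => ?_, fun x hx y hy => ?_⟩
  · have : h • B = B := hh.2
    exact this ▸ smul_mem_smul_finset hx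
  · obtain ⟨h, hh, rfl⟩ := hO.tr x (hBO hx) y (hBO hy)
    exact ⟨h, ⟨hh, hB.smul_eq hh hx hy⟩, rfl⟩

theorem blk_del (hP : PP K n) (hKH : K ≤ H) (hO : Orb H O) {B : Finset Ω} (hB : Blk H B) (hBO : B ⊆ O)
    {a : Ω} (ha : a ∈ fx K B) (hn : B.card < n) (hm : Mv K B) : 1 ≤ del K B :=
  hP Ω (H ⊓ MulAction.stabilizer G B) B (fun k hk => ⟨hKH hk, hB.fx hKH (self_mem_orb H B) ha k hk⟩) (hB.orb hO hBO) hn hm

theorem mv_cl (hK : Pro K) (hKH : K ≤ H) (hO : Orb H O) (hm : Mv K O) {a : Ω} (ha : a ∈ fx K O) :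
    Mv K (orb H (cl K H O a)) := by
  by_contra h
  have h : ∀ C ∈ orb H (cl K H O a), Fx K C := fun C hC => by_contra fun h' => h ⟨C, hC, h'⟩
  obtain ⟨x, hx, hx'⟩ := hm
  rw [mem_fx] at ha
  obtain ⟨t, ht, rfl⟩ := hO.tr a ha.1 x hx
  have hC : t • cl K H O a ∈ orb H (cl K H O a) := mem_orb.2 ⟨t, ht, rfl⟩
  obtain ⟨w, hw, e⟩ := hK.ex (Ω := Ω) t (L := H ⊓ MulAction.stabilizer G (t • cl K H O a))
    (fun k hk => ⟨hKH hk, h _ hC k hk⟩) (fun k hk => ⟨H.mul_mem (H.mul_mem ht (hKH hk)) (H.inv_mem ht), by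
      show _ • _ = _
      rw [mul_smul, mul_smul, inv_smul_smul, h _ (self_mem_orb _ _) k hk]⟩)
  have e1 := (e (t • a)).2 (by rw [inv_smul_smul]; exact ha.2)
  have e2 : w⁻¹ • t • a ∈ t • cl K H O a := by
    have : w • t • cl K H O a = t • cl K H O a := hw.2
    rw [inv_smul_mem_iff, this]
    exact smul_mem_smul_finset (self_mem_cl ha.1)
  obtain ⟨y, hy, e3⟩ := mem_smul_finset.1 e2
  exact hx' (cl_symm hO ha.1 hy t ht (by rw [show t • y = _ from e3]; exact e1))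

/-- the action on the closures -/
theorem cl_facts (hK : Pro K) (hKH : K ≤ H) (hO : Orb H O) {a : Ω} (ha : a ∈ fx K O) :
    O.card = (orb H (cl K H O a)).card * (cl K H O a).card ∧
      (cl K H O a).card * del K (orb H (cl K H O a)) ≤ del K O := by
  rw [mem_fx] at ha
  have hB := cl_blk (K := K) hO ha.1
  obtain ⟨h1, h2⟩ := blk_facts hK hKH hO hB (fun x hx => (mem_cl.1 hx).1)
    (mem_fx.2 ⟨self_mem_cl ha.1, ha.2⟩)
  refine ⟨h1, ?_⟩
  rw [fx_cl ha.2] at h2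
  have h3 : ((orb H (cl K H O a)).filter fun C => (fx K C).Nonempty).card ≤
      (fx K (orb H (cl K H O a))).card := card_le_card fun C hC => by
    obtain ⟨hC, x, hx⟩ := mem_filter.1 hC
    exact mem_fx.2 ⟨hC, hB.fx hKH hC hx⟩
  unfold del
  rw [h1, h2]
  push_cast
  have : (0 : ℤ) ≤ (cl K H O a).card := by positivity
  zify at h3
  nlinarith

theorem card_cl_le (hK : Pro K) (hP : PP K n) (hKH : K ≤ H) (hO : Orb H O) (hn : O.card ≤ n) (hm : Mv K O)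
    {a : Ω} (ha : a ∈ fx K O) (h2 : 2 ≤ (cl K H O a).card) : ((cl K H O a).card : ℤ) ≤ del K O := by
  obtain ⟨h1, h3⟩ := cl_facts hK hKH hO ha
  have h0 : 0 < O.card := card_pos.2 ⟨a, (mem_fx.1 ha).1⟩
  have := hP _ H _ hKH (orb_orb H (cl K H O a)) (by nlinarith) (mv_cl hK hKH hO hm ha)
  have h4 : (0 : ℤ) ≤ (cl K H O a).card := by positivity
  nlinarith

end Cfsg.Agent.L0.Pn
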