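import Mathlib
import Cfsg.Agent.L0.C12S1
import Cfsg.Agent.H1.C12S3
import Cfsg.Agent.H6.C12C4
import Cfsg.Agent.H6.C12Ctx

/-!
# Assembly of the simple case from the remaining pieces
-/

set_option autoImplicit false

namespace Cfsg.Agent.L0.C12

open Subgroup Cfsg.Agent.L0.SC3 Cfsg.Agent.H9 Cfsg.Agent.H1.T3

universe u

variable {G : Type u} [Group G] [Finite G] {x s : G} {V : Subgroup G}

theorem Ctx.v1 (c : Ctx x s V) (h : Nat.card V = 1) : Nat.card G < 6000 := by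
  have := c.simple
  have hV : V = ⊥ := card_eq_one.1 h
  have sc : SC x := ⟨c.t3.ne, c.t3.cube, fun g hg => by
    obtain ⟨v, hv, e⟩ := c.cent hg
    rw [hV, mem_bot] at hv
    simpa [hv] using e⟩
  have key : ∀ (N : Subgroup G) [N.Normal], x ∉ N → Nat.card (G ⧸ N) < 6000 →
      Nat.card G < 6000 := fun N hN hx h => by
    obtain rfl := hN.eq_bot_or_eq_top.resolve_right fun e => hx (e ▸ mem_top x)
    rwa [Nat.card_congr QuotientGroup.quotientBot.toEquiv] at h
  rcases sc.main with ⟨N, _, -, h3, h⟩ | ⟨N, _, -, h2, ⟨e⟩⟩ | ⟨⟨e⟩⟩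
  · refine key N (fun hx => ?_) ?_
    · have := N.orderOf_dvd_natCard hx
      rw [c.t3.orderOf_eq] at this
      exact absurd (Nat.eq_one_of_dvd_coprimes h3 this dvd_rfl) (by norm_num)
    · rcases h with h | ⟨⟨e⟩⟩
      · omega
      · rw [Nat.card_congr e.toEquiv, Nat.card_perm]; simp [Nat.factorial]
  · refine key N (fun hx => c.t3.ne (two_ne_three c.t3.cube (by rw [← pow_two]; exact h2 x hx))) ?_
    rw [Nat.card_congr e.toEquiv, card_alt5]; norm_num
  · rw [Nat.card_congr e.toEquiv, card_psl27]; norm_num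

theorem C4.false_of (c : C4 x s V)
    (h2 : ∀ v ∈ V, v ≠ 1 → ∀ K, TI x (centralizer {v}) K → IsPGroup 2 K)
    (hII : ∀ v ∈ V, v ≠ 1 → ∀ K M, ¬ TII x (centralizer {v}) K M) : False := by
  obtain ⟨s', T, c'⟩ := c.cs fun v hv v1 => by
    obtain ⟨K, h⟩ | ⟨K, M, h⟩ := c.str_sub (c.centralizer_ne_top v1) (c.x_mem hv)
    exacts [⟨K, h, h2 v hv v1 K h⟩, (hII v hv v1 K M h).elim]
  obtain ⟨v, hv, v1, -⟩ := exists_ne_two c.card 1
  by_cases hS : IsSylowIn 2 (T v ⊔ zpowers s') ⊤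
  exacts [c'.cs'.caseA hv v1 hS, c'.cs'.caseB hv v1 hS]

theorem main_of
    (H2 : ∀ (X : Type u) [Group X] [Finite X] (y s t : X), C2 y s t → Nat.card X < 6000)
    (H4 : ∀ (X : Type u) [Group X] [Finite X] (y s : X) (V : Subgroup X), C4 y s V → False)
    (X : Type u) [Group X] [Finite X] (y : X) (hs : IsSimpleGroup X)
    (nab : ∃ a b : X, a * b ≠ b * a) (h : T3 y) (ih : IH.{u} (Nat.card X)) :
    Nat.card X < 6000 := by
  obtain ⟨s, V, c⟩ := exists_ctx nab h ih
  have h4 := c.card_V_dvd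
  have h5 := Nat.le_of_dvd (by norm_num) h4
  have h6 : 0 < Nat.card V := Nat.card_pos
  obtain e | e | e : Nat.card V = 1 ∨ Nat.card V = 2 ∨ Nat.card V = 4 := by
    generalize Nat.card V = n at *
    interval_cases n <;> simp_all
  · exact c.v1 e
  · obtain ⟨s', t, c'⟩ := c.c2 e
    exact H2 X y s' t c'
  · exact (H4 X y s V (c.c4 e)).elim

end Cfsg.Agent.L0.C12
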