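import Mathlib
import Cfsg.Agent.L0.C12Asm
import Cfsg.Agent.H6.C12V2A
import Cfsg.Agent.H5.C12Fin

/-!
# Assembly of the simple case from the remaining local pieces
-/

set_option autoImplicit false

namespace Cfsg.Agent.L0.C12

open Subgroup Cfsg.Agent.L0.SC3 Cfsg.Agent.H9 Cfsg.Agent.H1.T3

universe u

theorem main_of'
    (L2 : ∀ (X : Type u) [Group X] [Finite X] (y s t : X), C2 y s t → ∀ K M,
      TII y (centralizer {t}) K M → False)
    (O2 : ∀ (X : Type u) [Group X] [Finite X] (y s t : X), C2 y s t → ∀ K,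
      TI y (centralizer {t}) K → IsPGroup 2 K)
    (B2 : ∀ (X : Type u) [Group X] [Finite X] (y s t : X), C2 y s t → ∀ K,
      TI y (centralizer {t}) K → IsPGroup 2 K → ¬ IsSylowIn 2 (K ⊔ zpowers s) ⊤ →
        Nat.card X < 6000)
    (O4 : ∀ (X : Type u) [Group X] [Finite X] (y s : X) (V : Subgroup X), C4 y s V →
      ∀ v ∈ V, v ≠ 1 → ∀ K, TI y (centralizer {v}) K → IsPGroup 2 K)
    (II4 : ∀ (X : Type u) [Group X] [Finite X] (y s : X) (V : Subgroup X), C4 y s V →
      (∀ v ∈ V, v ≠ 1 → ∀ K, TI y (centralizer {v}) K → IsPGroup 2 K) →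
      ∀ v ∈ V, v ≠ 1 → ∀ K M, TII y (centralizer {v}) K M → False)
    (X : Type u) [Group X] [Finite X] (y : X) (hs : IsSimpleGroup X)
    (nab : ∃ a b : X, a * b ≠ b * a) (h : T3 y) (ih : IH.{u} (Nat.card X)) :
    Nat.card X < 6000 := by
  refine main_of (fun X _ _ y s t c => ?_) (fun X _ _ y s V c => ?_) X y hs nab h ih
  · obtain ⟨K, h⟩ | ⟨K, M, h⟩ :=
      c.str_sub (c.centralizer_ne_top c.t1) (c.toCtx.x_mem (mem_zpowers t))
    · have h2 := O2 X y s t c K h
      by_cases hS : IsSylowIn 2 (K ⊔ zpowers s) ⊤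
      exacts [c.caseA h h2 hS, B2 X y s t c K h h2 hS]
    · exact (L2 X y s t c K M h).elim
  · exact c.false_of (O4 X y s V c) (II4 X y s V c (O4 X y s V c))

end Cfsg.Agent.L0.C12
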