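import Mathlib
import Cfsg.Agent.L0.C12Asm2
import Cfsg.Agent.H8.C12V2L
import Cfsg.Agent.H9.C12V2O
import Cfsg.Agent.H9.C12V4O
import Cfsg.Agent.H4.C12V2B
import Cfsg.Agent.H3.C12IIc

/-!
# The minimal simple configuration has order below `6000`
-/

set_option autoImplicit false

namespace Cfsg.Agent.L0.C12

universe u

theorem main (X : Type u) [Group X] [Finite X] (y : X) (hs : IsSimpleGroup X)
    (nab : ∃ a b : X, a * b ≠ b * a) (h : T3 y) (ih : IH.{u} (Nat.card X)) :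
    Nat.card X < 6000 :=
  main_of' (fun _ _ _ _ _ _ c _ _ h => c.typeII h) (fun _ _ _ _ _ _ c _ h => c.two h)
    (fun _ _ _ _ _ _ c _ h h2 hS => c.caseB h h2 hS)
    (fun _ _ _ _ _ _ c _ hv v1 _ h => c.two hv v1 h)
    (fun _ _ _ _ _ _ c h2 _ hv v1 _ _ h => c.not_typeII h2 hv v1 h) X y hs nab h ih

end Cfsg.Agent.L0.C12
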