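import Cfsg.Agent.H4.SS

/-!
# Simple connectivity by triangles: a kernel-checkable certificate

`K` is a group with a homomorphism `π` to a model, `HK` a subgroup on which `π` is injective and
`y` a further element. `InB` is the set `HK ∪ HK y HK`. If `InB` is closed under "triangles", a table
of facts `(W i)⁻¹ h (W j) ∈ InB` shows that `⟨HK, y⟩ = ⋃ HK (W i) HK`.
-/

set_option autoImplicit false

namespace Cfsg.Agent.L0.Cover

open Equiv Cfsg.Agent.H4

section abstract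

variable {K P : Type*} [Group K] [Group P]

/-- The set `HK ∪ HK y HK`. -/
def InB (HK : Subgroup K) (y k : K) : Prop := k ∈ HK ∨ ∃ a ∈ HK, ∃ b ∈ HK, k = a * y * b

theorem InB.mul_left {HK : Subgroup K} {y k h : K} (hk : InB HK y k) (hh : h ∈ HK) :
    InB HK y (h * k) := by
  rcases hk with hk | ⟨a, ha, b, hb, rfl⟩
  · exact Or.inl (HK.mul_mem hh hk)
  · exact Or.inr ⟨h * a, HK.mul_mem hh ha, b, hb, by group⟩

theorem InB.mul_right {HK : Subgroup K} {y k h : K} (hk : InB HK y k) (hh : h ∈ HK) :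
    InB HK y (k * h) := by
  rcases hk with hk | ⟨a, ha, b, hb, rfl⟩
  · exact Or.inl (HK.mul_mem hk hh)
  · exact Or.inr ⟨a, ha, b * h, HK.mul_mem hb hh, by group⟩

theorem InB.self (HK : Subgroup K) (y : K) : InB HK y y :=
  Or.inr ⟨1, HK.one_mem, 1, HK.one_mem, by group⟩

/-- The triangle hypotheses. -/
structure Tri (π : K →* P) (HK : Subgroup K) (y : K) (T : P) : Prop where
  inj : ∀ k ∈ HK, π k = 1 → k = 1
  comm : ∀ k ∈ HK, Commute (π k) T
  ny : ¬ Commute (π y) T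
  inv : InB HK y y⁻¹
  tri : ∀ h ∈ HK, Commute (π (y * h * y) * T * (π (y * h * y))⁻¹) T → InB HK y (y * h * y)

variable {π : K →* P} {HK : Subgroup K} {y : K} {T : P}

theorem Tri.inB_inv (H : Tri π HK y T) {k : K} (hk : InB HK y k) : InB HK y k⁻¹ := by
  rcases hk with hk | ⟨a, ha, b, hb, rfl⟩
  · exact Or.inl (HK.inv_mem hk)
  · rw [mul_inv_rev, mul_inv_rev, ← mul_assoc]
    exact (H.inv.mul_left (HK.inv_mem hb)).mul_right (HK.inv_mem ha)

theorem Tri.inB_mul (H : Tri π HK y T) {k k' : K} (hk : InB HK y k) (hk' : InB HK y k')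
    (hc : Commute (π (k * k') * T * (π (k * k'))⁻¹) T) : InB HK y (k * k') := by
  rcases hk with hk | ⟨a, ha, b, hb, rfl⟩
  · exact hk'.mul_left hk
  rcases hk' with hk' | ⟨c, hc', d, hd, rfl⟩
  · exact InB.mul_right (Or.inr ⟨a, ha, b, hb, rfl⟩) hk'
  rw [show a * y * b * (c * y * d) = a * (y * (b * c) * y) * d by group] at hc ⊢
  refine ((H.tri _ (HK.mul_mem hb hc') ?_).mul_left ha).mul_right hd
  generalize y * (b * c) * y = g at hc ⊢
  have h1 := (H.comm a ha).eq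
  have h2 := (H.comm d hd).eq
  have h3 : π g * T * (π g)⁻¹ = (π a)⁻¹ * (π (a * g * d) * T * (π (a * g * d))⁻¹) * π a := by
    rw [map_mul, map_mul]
    calc _ = (π a)⁻¹ * (π a * π g * (T * π d) * (π a * π g * π d)⁻¹) * π a := by group
      _ = _ := by rw [← h2]; group
  rw [h3]
  exact ((H.comm a ha).inv_left.mul_left hc).mul_left (H.comm a ha)

theorem Tri.mem_of_comm (H : Tri π HK y T) {k : K} (hk : InB HK y k) (hc : Commute (π k) T) :
    k ∈ HK := by
  rcases hk with hk | ⟨a, ha, b, hb, rfl⟩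
  · exact hk
  · refine absurd ?_ H.ny
    have := ((H.comm a ha).inv_left.mul_left hc).mul_left (H.comm b hb).inv_left
    simpa [mul_assoc] using this

theorem Tri.decomp (H : Tri π HK y T) {W : ℕ → K} {m : ℕ} (hm : 0 < m) (h0 : W 0 = 1)
    (hcov : ∀ i < m, ∀ h ∈ HK, ∃ j < m, ∃ a ∈ HK, ∃ b ∈ HK, W i * h * y = a * W j * b) {k : K}
    (hk : k ∈ Subgroup.closure (insert y (HK : Set K))) :
    ∃ i < m, ∃ a ∈ HK, ∃ b ∈ HK, k = a * W i * b := by
  have key : ∀ k g, InB HK y g → (∃ i < m, ∃ a ∈ HK, ∃ b ∈ HK, k = a * W i * b) →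
      ∃ i < m, ∃ a ∈ HK, ∃ b ∈ HK, k * g = a * W i * b := by
    rintro _ g (hg | ⟨c, hc, d, hd, rfl⟩) ⟨i, hi, a, ha, b, hb, rfl⟩
    · exact ⟨i, hi, a, ha, b * g, HK.mul_mem hb hg, by group⟩
    · obtain ⟨j, hj, a', ha', b', hb', e⟩ := hcov i hi _ (HK.mul_mem hb hc)
      refine ⟨j, hj, a * a', HK.mul_mem ha ha', b' * d, HK.mul_mem hb' hd, ?_⟩
      calc _ = a * (W i * (b * c) * y) * d := by group
        _ = _ := by rw [e]; group
  have hB : ∀ g ∈ insert y (HK : Set K), InB HK y g := by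
    rintro g (rfl | hg)
    · exact InB.self _ _
    · exact Or.inl hg
  induction hk using Subgroup.closure_induction_right with
  | one => exact ⟨0, hm, 1, HK.one_mem, 1, HK.one_mem, by rw [h0]; group⟩
  | mul_right k _ g hg ih => exact key k g (hB g hg) ih
  | mul_inv_cancel k _ g hg ih => exact key k _ (H.inB_inv (hB g hg)) ih

theorem Tri.cent (H : Tri π HK y T) {W : ℕ → K} {m : ℕ} (hm : 0 < m) (h0 : W 0 = 1)
    (hcov : ∀ i < m, ∀ h ∈ HK, ∃ j < m, ∃ a ∈ HK, ∃ b ∈ HK, W i * h * y = a * W j * b)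
    (hW : ∀ i < m, i ≠ 0 → ¬ Commute (π (W i)) T) {k : K}
    (hk : k ∈ Subgroup.closure (insert y (HK : Set K))) (hc : Commute (π k) T) : k ∈ HK := by
  obtain ⟨i, hi, a, ha, b, hb, rfl⟩ := H.decomp hm h0 hcov hk
  by_cases h : i = 0
  · rw [h, h0, mul_one]; exact HK.mul_mem ha hb
  · refine absurd ?_ (hW i hi h)
    have := ((H.comm a ha).inv_left.mul_left hc).mul_left (H.comm b hb).inv_left
    simpa [mul_assoc] using this

end abstract

/-! ### Words -/

/-- The value of the packed word `e` (four bits for a letter). -/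
def evW {Γ : Type*} [Group Γ] (L : ℕ → Γ) : ℕ → ℕ → Γ
  | 0, _ => 1
  | n + 1, e => if e = 0 then 1 else L (e % 16) * evW L n (e / 16)

theorem evW_zero {Γ : Type*} [Group Γ] (L : ℕ → Γ) (n : ℕ) : evW L n 0 = 1 := by
  cases n <;> simp [evW]

theorem evW_mem {Γ : Type*} [Group Γ] {L : ℕ → Γ} {H : Subgroup Γ} (h : ∀ l < 16, L l ∈ H)
    (n e : ℕ) : evW L n e ∈ H := by
  induction n generalizing e with
  | zero => exact H.one_mem
  | succ n ih =>
    rw [evW]
    split_ifs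
    · exact H.one_mem
    · exact H.mul_mem (h _ (Nat.mod_lt _ (by norm_num))) (ih _)

theorem map_evW {Γ Δ : Type*} [Group Γ] [Group Δ] (φ : Γ →* Δ) (L : ℕ → Γ) (n e : ℕ) :
    φ (evW L n e) = evW (fun l => φ (L l)) n e := by
  induction n generalizing e with
  | zero => exact map_one φ
  | succ n ih =>
    rw [evW, evW]
    split_ifs
    · exact map_one φ
    · rw [map_mul, ih]

/-- Field number `l` of width `b` (mask `m`) of the packed table `C`. -/
def cd (b m C l : ℕ) : ℕ := Nat.land (Nat.shiftRight C (Nat.mul b l)) m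

/-- Compose `f` with the word `e`. -/
noncomputable def wK (mk b m C n : ℕ) : ℕ → (ℕ → ℕ) → ((ℕ → ℕ) → Bool) → Bool :=
  Nat.rec (fun _ f k => k f) (fun _ ih e f k => Bool.rec
    (force (cd b m C (Nat.land e 15)) fun c => force (Nat.shiftRight e 4) fun e' =>
      ih e' (fun x => f (Nat.land (Nat.shiftRight c x) mk)) k) (k f) (Nat.beq e 0)) n

/-- Compose the inverse of the word `e` with `f` (`C` is the table of the inverses). -/
noncomputable def wI (mk b m C n : ℕ) : ℕ → (ℕ → ℕ) → ((ℕ → ℕ) → Bool) → Bool :=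
  Nat.rec (fun _ f k => k f) (fun _ ih e f k => Bool.rec
    (force (cd b m C (Nat.land e 15)) fun c => force (Nat.shiftRight e 4) fun e' =>
      ih e' (fun x => Nat.land (Nat.shiftRight c (f x)) mk) k) (k f) (Nat.beq e 0)) n

section

variable {w mk n b m : ℕ}

theorem land15 (e : ℕ) : Nat.land e 15 = e % 16 := Nat.and_two_pow_sub_one_eq_mod e 4

theorem shift4 (e : ℕ) : Nat.shiftRight e 4 = e / 16 := Nat.shiftRight_eq_div_pow e 4

theorem wK_sound {C : ℕ} {L : ℕ → Perm (Fin n)} (hL : ∀ l < 16, Rep w mk (cd b m C l) (L l))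
    {r e : ℕ} {f : ℕ → ℕ} {g : Perm (Fin n)} (hf : RepF w f g) (k : (ℕ → ℕ) → Bool) :
    ∃ f', RepF w f' (g * evW L r e) ∧ wK mk b m C r e f k = k f' := by
  induction r generalizing e f g with
  | zero => exact ⟨f, by simpa [evW] using hf, rfl⟩
  | succ r ih =>
    rw [evW]
    have : wK mk b m C (r + 1) e f k = (Bool.rec (force (cd b m C (Nat.land e 15)) fun c =>
      force (Nat.shiftRight e 4) fun e' => wK mk b m C r e' (fun x => f (app mk c x)) k) (k f)
      (Nat.beq e 0) : Bool) := rfl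
    rw [this]
    split_ifs with h
    · rw [h]; exact ⟨f, by simpa using hf, rfl⟩
    · rw [show Nat.beq e 0 = false from Bool.eq_false_iff.mpr fun e' => h (Nat.beq_eq.mp e')]
      simp only [force_eq, land15, shift4, ← mul_assoc]
      exact ih (hf.comp (hL _ (Nat.mod_lt _ (by norm_num))))

theorem wI_sound {C : ℕ} {L : ℕ → Perm (Fin n)} (hL : ∀ l < 16, Rep w mk (cd b m C l) (L l)⁻¹)
    {r e : ℕ} {f : ℕ → ℕ} {g : Perm (Fin n)} (hf : RepF w f g) (k : (ℕ → ℕ) → Bool) :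
    ∃ f', RepF w f' ((evW L r e)⁻¹ * g) ∧ wI mk b m C r e f k = k f' := by
  induction r generalizing e f g with
  | zero => exact ⟨f, by simpa [evW] using hf, rfl⟩
  | succ r ih =>
    rw [evW]
    have : wI mk b m C (r + 1) e f k = (Bool.rec (force (cd b m C (Nat.land e 15)) fun c =>
      force (Nat.shiftRight e 4) fun e' => wI mk b m C r e' (fun x => app mk c (f x)) k) (k f)
      (Nat.beq e 0) : Bool) := rfl
    rw [this]
    split_ifs with h
    · rw [h]; exact ⟨f, by simpa using hf, rfl⟩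
    · rw [show Nat.beq e 0 = false from Bool.eq_false_iff.mpr fun e' => h (Nat.beq_eq.mp e')]
      simp only [force_eq, land15, shift4, mul_inv_rev, mul_assoc]
      exact ih (RepF.comp (hL _ (Nat.mod_lt _ (by norm_num))) hf)

/-- `f` and `g` agree on the points of `B`. -/
noncomputable def eqB (B : List ℕ) (f g : ℕ → ℕ) : Bool := allL (fun x => Nat.beq (f x) (g x)) B

/-- `B` is a list of codes of the points of a base of `A`. -/
def IsBase (w : ℕ) {n : ℕ} (A : Subgroup (Perm (Fin n))) (B : List ℕ) : Prop :=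
  0 < w ∧ (∀ x ∈ B, ∃ i : Fin n, x = w * i) ∧
    ∀ g ∈ A, (∀ i : Fin n, w * i ∈ B → g i = i) → g = 1

theorem IsBase.eqB_iff {A : Subgroup (Perm (Fin n))} {B : List ℕ} (hB : IsBase w A B)
    {f f' : ℕ → ℕ} {g g' : Perm (Fin n)} (hf : RepF w f g) (hf' : RepF w f' g') (hg : g ∈ A)
    (hg' : g' ∈ A) : eqB B f f' = true ↔ g = g' := by
  simp only [eqB, allL_iff, Nat.beq_eq]
  constructor
  · intro h
    rw [← inv_mul_eq_one]
    refine hB.2.2 _ (A.mul_mem (A.inv_mem hg) hg') fun i hi => ?_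
    have := h _ hi
    rw [hf i, hf' i] at this
    rw [Perm.mul_apply, ← Fin.ext (Nat.eq_of_mul_eq_mul_left hB.1 this)]
    simp
  · rintro rfl x hx
    obtain ⟨i, rfl⟩ := hB.2.1 x hx
    rw [hf i, hf' i]

theorem SSOK.isBase (hw : 0 < w) {Ls : List Level} (h : SSOK w mk n Ls)
    (hS : ∀ c ∈ gensOf Ls, InG w mk (⊤ : Subgroup (Perm (Fin n))) c) :
    IsBase w (Grp w mk n (gensOf Ls)) (Ls.map fun L => w * L.b) := by
  refine ⟨hw, fun x hx => ?_, fun g hg hb => h.base hw hS hg fun L hL i hi =>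
    hb i (List.mem_map.mpr ⟨L, hL, by rw [hi]⟩)⟩
  obtain ⟨L, hL, rfl⟩ := List.mem_map.mp hx
  suffices L.b < n from ⟨⟨L.b, this⟩, rfl⟩
  clear hS hx
  induction Ls with
  | nil => simp at hL
  | cons L' Ls ih =>
    rcases List.mem_cons.mp hL with rfl | hL
    · exact h.hb
    · exact ih h.2.2 hL

/-- Membership by sifting. -/
noncomputable def memChk (w mk n : ℕ) (Ls : List Level) (c e : ℕ) : Bool :=
  pick mk Ls e (fun x => x) fun g => eqF w n (fun x => Nat.land (Nat.shiftRight c x) mk) g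

theorem memChk_sound (hw : 0 < w) {Ls : List Level} (h : SSOK w mk n Ls)
    (hS : ∀ c ∈ gensOf Ls, InG w mk (⊤ : Subgroup (Perm (Fin n))) c) {c e : ℕ}
    (hc : memChk w mk n Ls c e = true) : InG w mk (Grp w mk n (gensOf Ls)) c := by
  obtain ⟨g, hg, f, hf, hk⟩ := pick_sound (h.good hw hS).mem hc
  exact ⟨g, hg, hf.congr (eqF_iff.mp hk)⟩

open Classical in
/-- The permutation with code `c`. -/
noncomputable def pm (w mk n c : ℕ) : Perm (Fin n) :=
  if h : ∃ g : Perm (Fin n), Rep w mk c g then h.choose else 1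

theorem InG.pm (hw : 0 < w) {H : Subgroup (Perm (Fin n))} {c : ℕ} (h : InG w mk H c) :
    Rep w mk c (pm w mk n c) ∧ pm w mk n c ∈ H := by
  obtain ⟨g, hg, hr⟩ := h
  have h1 : ∃ g : Perm (Fin n), Rep w mk c g := ⟨g, hr⟩
  have h2 : Rep w mk c (Cover.pm w mk n c) := by rw [Cover.pm, dif_pos h1]; exact h1.choose_spec
  exact ⟨h2, RepF.unique hw hr h2 ▸ hg⟩

theorem rep_inv_of_eqF {f f' : ℕ → ℕ} {g : Perm (Fin n)} (hf : RepF w f g)
    (h : eqF w n (fun x => f' (f x)) (fun x => x) = true) : RepF w f' g⁻¹ := by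
  simpa using RepF.of_comp hf RepF.one (eqF_iff.mp h)

end

/-- Some product of transversal elements passes the test. -/
noncomputable def enumE (mk : ℕ) (chk : (ℕ → ℕ) → Bool) (Ls : List Level) (f : ℕ → ℕ) : Bool :=
  Bool.rec true false (enum mk (fun f => Bool.rec true false (chk f)) Ls f)

theorem enumE_sound {w mk n : ℕ} {H : Subgroup (Perm (Fin n))} {Ls : List Level}
    (hm : ∀ L ∈ Ls, ∀ i < L.m, InG w mk H (L.T.get i)) {chk : (ℕ → ℕ) → Bool} {f : ℕ → ℕ}
    (h : enumE mk chk Ls f = true) {g : Perm (Fin n)} (hf : RepF w f g) :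
    ∃ k ∈ H, ∃ f', RepF w f' (g * k) ∧ chk f' = true := by
  have h' : ¬ enum mk (fun f => Bool.rec true false (chk f)) Ls f = true := fun e => by
    rw [enumE, e] at h; exact absurd h (by simp)
  clear h
  induction Ls generalizing f g with
  | nil =>
    refine ⟨1, H.one_mem, f, by simpa using hf, ?_⟩
    by_contra hc
    exact h' (by
      show (Bool.rec true false (chk f) : Bool) = true
      rw [Bool.eq_false_iff.mpr hc])
  | cons L Ls ih =>
    rw [enum_cons, allB_iff] at h'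
    push Not at h'
    obtain ⟨i, hi, h'⟩ := h'
    rw [enumRow, force_eq] at h'
    obtain ⟨t, ht, hr⟩ := hm L (by simp) i hi
    obtain ⟨k, hk, f', hf', hc⟩ := ih (fun L hL => hm L (by simp [hL])) (hf.comp hr) h'
    exact ⟨t * k, H.mul_mem ht hk, f', by rwa [← mul_assoc], hc⟩

/-! ### The checker -/

/-- The data of a certificate. -/
structure Cert : Type where
  /-- mask for point codes -/
  ms : ℕ
  /-- width of a permutation code -/
  b : ℕ
  /-- mask for permutation codes -/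
  m : ℕ
  /-- base -/
  B : List ℕ
  /-- letters -/
  C : ℕ
  /-- inverses of the letters -/
  CI : ℕ
  /-- number of double cosets -/
  r : ℕ
  /-- representatives -/
  W : ℕ
  /-- inverses of the representatives -/
  WI : ℕ
  /-- vertices -/
  V : ℕ
  /-- parents (three bits each) -/
  par : ℕ
  /-- facts (64 bits each) -/
  F : ℕ
  /-- number of neighbours -/
  np : ℕ
  /-- coset representatives (32 bits each) -/
  H : ℕ
  /-- the fact to use for `(i, p)` (16 bits each) -/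
  CT : ℕ

/-- Fact number `q`. -/
def Cert.fact (c : Cert) (q : ℕ) : ℕ := cd 64 18446744073709551615 c.F q

/-- First index of a fact. -/
def fI (e : ℕ) : ℕ := Nat.land e 7

/-- Second index of a fact. -/
def fJ (e : ℕ) : ℕ := Nat.land (Nat.shiftRight e 3) 7

/-- Word of a fact. -/
def fW (e : ℕ) : ℕ := Nat.shiftRight e 32

/-- Use the fact `e` or its inverse. -/
noncomputable def Cert.orient (c : Cert) (e s : ℕ) (k : ℕ → (ℕ → ℕ) → ℕ → Bool) : Bool :=
  Bool.rec (wI c.ms c.b c.m c.CI 8 (fW e) (fun x => x) fun f => k (fJ e) f (fI e))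
    (wK c.ms c.b c.m c.C 8 (fW e) (fun x => x) fun f => k (fI e) f (fJ e)) (Nat.beq s 0)

/-- The chain rule. -/
noncomputable def Cert.chain (c : Cert) (q e : ℕ) : Bool :=
  force (Nat.land (Nat.shiftRight e 6) 2047) fun q1 =>
  force (Nat.land (Nat.shiftRight e 18) 2047) fun q2 =>
  band (Nat.ble (Nat.succ q1) q) <| band (Nat.ble (Nat.succ q2) q) <|
  force (c.fact q1) fun e1 => force (c.fact q2) fun e2 =>
  c.orient e1 (Nat.land (Nat.shiftRight e 17) 1) fun i1 f1 j1 =>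
  c.orient e2 (Nat.land (Nat.shiftRight e 29) 1) fun i2 f2 j2 =>
  band (Nat.beq i1 (fI e)) <| band (Nat.beq j1 i2) <| band (Nat.beq j2 (fJ e)) <|
  wK c.ms c.b c.m c.C 8 (fW e) (fun x => x) fun f =>
  wI c.ms c.b c.m c.CI 8 (fW e) (fun x => x) fun g =>
  force (cd c.b c.m c.V i1) fun u => force (cd c.b c.m c.V j2) fun v =>
  band (eqB c.B f fun x => f1 (f2 x))
    (eqB c.B (fun x => f (app c.ms v (g (app c.ms u x)))) fun x => app c.ms u (f (app c.ms v (g x))))

/-- Check of one fact. -/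
noncomputable def Cert.factChk (c : Cert) (q : ℕ) : Bool :=
  force (c.fact q) fun e =>
    bor (band (Nat.beq (fI e) 0) (Nat.ble (fJ e) 1))
      (bor (band (Nat.beq (fW e) 0) (band (Nat.ble (Nat.succ (fJ e)) c.r)
        (Nat.beq (fI e) (cd 3 7 c.par (fJ e))))) (c.chain q e))

/-- Check of one neighbour. -/
noncomputable def Cert.nbChk (c : Cert) (Q i p : ℕ) : Bool :=
  force (cd 16 65535 c.CT (Nat.add (Nat.mul c.np i) p)) fun q => band (Nat.ble (Nat.succ q) Q) <|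
  force (c.fact q) fun e => band (Nat.beq (fI e) i) <|
  force (cd 32 4294967295 c.H p) fun h =>
  wK c.ms c.b c.m c.C 8 (fW e) (fun x => x) fun f =>
  wI c.ms c.b c.m c.CI 8 (fW e) (fun x => x) fun g =>
  wK c.ms c.b c.m c.C 8 h (fun x => x) fun f' =>
  wI c.ms c.b c.m c.CI 8 h (fun x => x) fun g' =>
  force (cd c.b c.m c.V (fJ e)) fun v => force (cd c.b c.m c.V 1) fun u =>
  force (cd c.b c.m c.W i) fun a => force (cd c.b c.m c.WI i) fun a' =>
  eqB c.B (fun x => app c.ms a (f' (app c.ms u (g' (app c.ms a' x))))) fun x => f (app c.ms v (g x))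

/-- The meaning of the data. -/
structure Cert.Sem (c : Cert) {K : Type*} [Group K] (w : ℕ) {n : ℕ} (π : K →* Perm (Fin n))
    (A : Subgroup (Perm (Fin n))) (HK : Subgroup K) (y : K) (T : Perm (Fin n)) (L W : ℕ → K) :
    Prop where
  tri : Tri π HK y T
  base : IsBase w A c.B
  le : ∀ k ∈ HK, π k ∈ A
  memT : T ∈ A
  memW : ∀ i < c.r, π (W i) ∈ A
  memL : ∀ l < 16, L l ∈ HK
  repL : ∀ l < 16, Rep w c.ms (cd c.b c.m c.C l) (π (L l))
  repLI : ∀ l < 16, Rep w c.ms (cd c.b c.m c.CI l) (π (L l))⁻¹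
  repW : ∀ i < c.r, Rep w c.ms (cd c.b c.m c.W i) (π (W i))
  repWI : ∀ i < c.r, Rep w c.ms (cd c.b c.m c.WI i) (π (W i))⁻¹
  repV : ∀ i < c.r, Rep w c.ms (cd c.b c.m c.V i) (π (W i) * T * (π (W i))⁻¹)
  two : 2 ≤ c.r
  zero : W 0 = 1
  one : W 1 = y
  par : ∀ j < c.r, cd 3 7 c.par j < c.r ∧ InB HK y ((W (cd 3 7 c.par j))⁻¹ * W j)
  cov : ∀ h ∈ HK, ∃ p < c.np, ∃ h' ∈ HK, h * y = evW L 8 (cd 32 4294967295 c.H p) * y * h'

section sound

variable {c : Cert} {K : Type*} [Group K] {w n : ℕ} {π : K →* Perm (Fin n)}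
  {A : Subgroup (Perm (Fin n))} {HK : Subgroup K} {y : K} {T : Perm (Fin n)} {L W : ℕ → K}

/-- What a fact says. -/
def Cert.Good (c : Cert) (HK : Subgroup K) (y : K) (W : ℕ → K) (i : ℕ) (h : K) (j : ℕ) : Prop :=
  i < c.r ∧ j < c.r ∧ h ∈ HK ∧ InB HK y ((W i)⁻¹ * h * W j)

theorem Cert.Sem.wK (S : c.Sem w π A HK y T L W) (e : ℕ) (k : (ℕ → ℕ) → Bool) :
    ∃ f, RepF w f (π (evW L 8 e)) ∧ wK c.ms c.b c.m c.C 8 e (fun x => x) k = k f := by
  simpa only [one_mul, map_evW] using wK_sound S.repL (r := 8) (e := e) RepF.one k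

theorem Cert.Sem.wI (S : c.Sem w π A HK y T L W) (e : ℕ) (k : (ℕ → ℕ) → Bool) :
    ∃ f, RepF w f (π (evW L 8 e))⁻¹ ∧ wI c.ms c.b c.m c.CI 8 e (fun x => x) k = k f := by
  simpa only [mul_one, map_evW] using wI_sound S.repLI (r := 8) (e := e) RepF.one k

theorem Cert.Sem.orient (S : c.Sem w π A HK y T L W) {e : ℕ}
    (he : c.Good HK y W (fI e) (evW L 8 (fW e)) (fJ e)) (s : ℕ) (k : ℕ → (ℕ → ℕ) → ℕ → Bool) :
    ∃ i h j f, c.Good HK y W i h j ∧ RepF w f (π h) ∧ c.orient e s k = k i f j := by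
  rw [Cert.orient]
  cases Nat.beq s 0
  · obtain ⟨f, hf, e1⟩ := S.wI (fW e) fun f => k (fJ e) f (fI e)
    refine ⟨_, (evW L 8 (fW e))⁻¹, _, f, ⟨he.2.1, he.1, HK.inv_mem he.2.2.1, ?_⟩,
      by rwa [map_inv], e1⟩
    simpa [mul_assoc] using S.tri.inB_inv he.2.2.2
  · obtain ⟨f, hf, e1⟩ := S.wK (fW e) fun f => k (fI e) f (fJ e)
    exact ⟨_, _, _, f, he, hf, e1⟩

theorem Cert.Sem.chain (S : c.Sem w π A HK y T L W) {q e : ℕ} (h : c.chain q e = true)
    (ih : ∀ q' < q, c.Good HK y W (fI (c.fact q')) (evW L 8 (fW (c.fact q'))) (fJ (c.fact q'))) :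
    c.Good HK y W (fI e) (evW L 8 (fW e)) (fJ e) := by
  simp only [Cert.chain, force_eq, band_eq_true, Nat.ble_eq] at h
  obtain ⟨h1, h2, h⟩ := h
  obtain ⟨i1, g1, j1, f1, G1, r1, e1⟩ := S.orient (ih _ h1) (Nat.land (Nat.shiftRight e 17) 1) _
  rw [e1] at h
  obtain ⟨i2, g2, j2, f2, G2, r2, e2⟩ := S.orient (ih _ h2) (Nat.land (Nat.shiftRight e 29) 1) _
  rw [e2] at h
  simp only [band_eq_true, Nat.beq_eq] at h
  obtain ⟨a1, rfl, a3, h⟩ := h
  rw [← a1, ← a3]
  obtain ⟨f, hf, e3⟩ := S.wK (fW e) _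
  rw [e3] at h
  obtain ⟨g, hg, e4⟩ := S.wI (fW e) _
  rw [e4, band_eq_true] at h
  have hm : evW L 8 (fW e) ∈ HK := evW_mem S.memL _ _
  generalize evW L 8 (fW e) = k at *
  have b1 := (S.base.eqB_iff hf (r1.comp r2) (S.le k hm)
    (A.mul_mem (S.le _ G1.2.2.1) (S.le _ G2.2.2.1))).mp h.1
  have b2 : k = g1 * g2 := by
    rw [← inv_mul_eq_one]
    exact S.tri.inj _ (HK.mul_mem (HK.inv_mem hm) (HK.mul_mem G1.2.2.1 G2.2.2.1))
      (by rw [map_mul, map_mul, map_inv, b1, inv_mul_cancel])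
  have mV : ∀ i < c.r, π (W i) * T * (π (W i))⁻¹ ∈ A := fun i hi =>
    A.mul_mem (A.mul_mem (S.memW i hi) S.memT) (A.inv_mem (S.memW i hi))
  have mk := S.le k hm
  have b3 := (S.base.eqB_iff (hf.comp (RepF.comp (S.repV _ G2.2.1) (hg.comp (S.repV _ G1.1))))
    (RepF.comp (S.repV _ G1.1) (hf.comp (RepF.comp (S.repV _ G2.2.1) hg)))
    (A.mul_mem mk (A.mul_mem (mV _ G2.2.1) (A.mul_mem (A.inv_mem mk) (mV _ G1.1))))
    (A.mul_mem (mV _ G1.1) (A.mul_mem mk (A.mul_mem (mV _ G2.2.1) (A.inv_mem mk))))).mp h.2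
  refine ⟨G1.1, G2.2.1, hm, ?_⟩
  have b4 : (W i1)⁻¹ * k * W j2 = (W i1)⁻¹ * g1 * W j1 * ((W j1)⁻¹ * g2 * W j2) := by
    rw [b2]; group
  rw [b4]
  refine S.tri.inB_mul G1.2.2.2 G2.2.2.2 ?_
  rw [← b4]
  simp only [map_mul, map_inv]
  generalize π (W i1) = a, π (W j2) = a', π k = z at b3 ⊢
  change _ * _ = _ * _
  calc _ = a⁻¹ * (z * (a' * T * a'⁻¹ * (z⁻¹ * (a * T * a⁻¹)))) * a := by group
    _ = _ := by rw [b3]; group

theorem Cert.Sem.good (S : c.Sem w π A HK y T L W) {Q : ℕ} (h : ∀ q < Q, c.factChk q = true) :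
    ∀ q < Q, c.Good HK y W (fI (c.fact q)) (evW L 8 (fW (c.fact q))) (fJ (c.fact q)) := by
  intro q
  induction q using Nat.strong_induction_on with | _ q ih => ?_
  intro hq
  have h1 := h q hq
  have h2 := S.two
  simp only [Cert.factChk, force_eq, bor_eq_true, band_eq_true, Nat.beq_eq, Nat.ble_eq] at h1
  rcases h1 with ⟨a, b⟩ | ⟨a, b, d⟩ | h1
  · have hm : evW L 8 (fW (c.fact q)) ∈ HK := evW_mem S.memL _ _
    refine ⟨by omega, by omega, hm, ?_⟩
    rw [a, S.zero, inv_one, one_mul]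
    rcases Nat.le_one_iff_eq_zero_or_eq_one.mp b with b | b <;> rw [b]
    · rw [S.zero, mul_one]; exact Or.inl hm
    · rw [S.one]; exact (InB.self _ _).mul_left hm
  · rw [a, d, evW_zero]
    exact ⟨(S.par _ b).1, b, HK.one_mem, by rw [mul_one]; exact (S.par _ b).2⟩
  · exact S.chain h1 fun q' hq' => ih q' hq' (by omega)

theorem Cert.Sem.nb (S : c.Sem w π A HK y T L W) {Q : ℕ} (h : ∀ q < Q, c.factChk q = true)
    {i p : ℕ} (hc : c.nbChk Q i p = true) :
    ∃ j < c.r, ∃ a ∈ HK, ∃ b ∈ HK, W i * evW L 8 (cd 32 4294967295 c.H p) * y = a * W j * b := by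
  simp only [Cert.nbChk, force_eq, band_eq_true, Nat.ble_eq, Nat.beq_eq] at hc
  obtain ⟨h1, h2, hc⟩ := hc
  have G := S.good h _ h1
  rw [h2] at G
  obtain ⟨f, hf, e1⟩ := S.wK (fW _) _
  rw [e1] at hc
  obtain ⟨g, hg, e2⟩ := S.wI (fW _) _
  rw [e2] at hc
  obtain ⟨f', hf', e3⟩ := S.wK (cd 32 4294967295 c.H p) _
  rw [e3] at hc
  obtain ⟨g', hg', e4⟩ := S.wI (cd 32 4294967295 c.H p) _
  rw [e4] at hc
  have hm : evW L 8 (cd 32 4294967295 c.H p) ∈ HK := evW_mem S.memL _ _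
  generalize evW L 8 (cd 32 4294967295 c.H p) = k at *
  generalize evW L 8 (fW _) = k' at *
  generalize fJ _ = j at *
  have mV : ∀ i < c.r, π (W i) * T * (π (W i))⁻¹ ∈ A := fun i hi =>
    A.mul_mem (A.mul_mem (S.memW i hi) S.memT) (A.inv_mem (S.memW i hi))
  have mk := S.le k hm
  have mk' := S.le k' G.2.2.1
  have h3 : 1 < c.r := S.two
  have b3 := (S.base.eqB_iff (RepF.comp (S.repW _ G.1) (hf'.comp (RepF.comp (S.repV _ h3)
      (hg'.comp (S.repWI _ G.1))))) (hf.comp (RepF.comp (S.repV _ G.2.1) hg))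
    (A.mul_mem (S.memW _ G.1) (A.mul_mem mk (A.mul_mem (mV _ h3)
      (A.mul_mem (A.inv_mem mk) (A.inv_mem (S.memW _ G.1))))))
    (A.mul_mem mk' (A.mul_mem (mV _ G.2.1) (A.inv_mem mk')))).mp hc
  rw [S.one] at b3
  have b4 : π ((k * y)⁻¹ * ((W i)⁻¹ * k' * W j)) * T * (π ((k * y)⁻¹ * ((W i)⁻¹ * k' * W j)))⁻¹ =
      T := by
    simp only [map_mul, map_inv]
    generalize π (W i) = a, π (W j) = a', π k = z, π k' = z', π y = Y at b3 ⊢
    calc _ = (a * z * Y)⁻¹ * (z' * (a' * T * a'⁻¹ * z'⁻¹)) * (a * z * Y) := by group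
      _ = _ := by rw [← b3]; group
  have b5 := S.tri.mem_of_comm (S.tri.inB_mul (S.tri.inB_inv ((InB.self _ _).mul_left hm)) G.2.2.2
    (by rw [b4]; exact Commute.refl T)) (mul_inv_eq_iff_eq_mul.mp b4)
  exact ⟨j, G.2.1, k', G.2.2.1, _, HK.inv_mem b5, by group⟩

/-- The main theorem: the centralizer of `T` in `⟨HK, y⟩` is `HK`. -/
theorem Cert.Sem.cent (S : c.Sem w π A HK y T L W) {Q : ℕ} (h : ∀ q < Q, c.factChk q = true)
    (hn : ∀ i < c.r, i ≠ 0 → ∀ p < c.np, c.nbChk Q i p = true)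
    (hW : ∀ i < c.r, i ≠ 0 → ¬ Commute (π (W i)) T) {k : K}
    (hk : k ∈ Subgroup.closure (insert y (HK : Set K))) (hc : Commute (π k) T) : k ∈ HK := by
  have h2 := S.two
  refine S.tri.cent (m := c.r) (by omega) S.zero (fun i hi g hg => ?_) hW hk hc
  by_cases h0 : i = 0
  · exact ⟨1, h2, g, hg, 1, HK.one_mem, by rw [h0, S.zero, S.one]; group⟩
  obtain ⟨p, hp, g', hg', e⟩ := S.cov g hg
  obtain ⟨j, hj, a, ha, b, hb, e'⟩ := S.nb h (hn i hi h0 p hp)
  refine ⟨j, hj, a, ha, b * g', HK.mul_mem hb hg', ?_⟩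
  rw [mul_assoc, e, ← mul_assoc, ← mul_assoc, e']; group

end sound

end Cfsg.Agent.L0.Cover
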