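import Cfsg.Agent.L0.L43B2
import Cfsg.Agent.H1.A9Main

/-!
# The case `PSL₄(3)`: strong `3`-embedding
-/

set_option autoImplicit false
set_option maxRecDepth 100000
set_option linter.unusedSectionVars false
set_option maxHeartbeats 2000000

namespace Cfsg.Agent.L0.L43

open Cfsg.Agent.H4 Subgroup Cfsg.Agent.H9 Cfsg.Agent.H1.T3
open scoped Pointwise

def tbAT : Trie :=
  (.node (.node (.node (.node (.node (.node (.node (.node (.node (.node (.leaf (nat_lit
  46768052394588894680592129582933241670363074527233)) (.leaf (nat_lit
  93558940752261084719281191287956705948736860192770))) (.node (.leaf (nat_lit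
  93581776715344380077378123712352170436665343475714)) (.leaf (nat_lit
  93558940752261083421206976503134071364266951180289)))) (.node (.node (.leaf (nat_lit
  46790888357674849792754846472855207881356813010946)) (.leaf (nat_lit
  45671926171908926251219750526148120365963939841))) (.leaf (nat_lit
  46813724320758142554703349780952585555891544131584)))) (.node (.leaf (nat_lit
  93581776715349694393212834259619485827790375227392)) (.node (.leaf (nat_lit
  45671926169250470259649918706553529959150782465)) (.leaf (nat_lit
  93558940752263740579124331852214912321297238198272))))) (.node (.node (.node (.leaf 0) (.node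
  (.leaf (nat_lit 46768052394594212890649483577826522151293326200834)) (.leaf (nat_lit
  45671926169250470259649767738400030720184551425)))) (.node (.node (.leaf 0) (.node (.leaf 0)
  (.node (.leaf (nat_lit 45671926169249172185434982768191493669184866304)) (.leaf (nat_lit
  22835963088614866228501506490408409567028318210))))) (.leaf (nat_lit
  46790888357677506950672201821936048838378505900033)))) (.node (.leaf (nat_lit
  46768052394588894680592129431817514218551615946753)) (.leaf (nat_lit
  93581776715349695691287049044442120412234518630401))))) (.node (.node (.node (.node (.node (.leaf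
  (nat_lit 22835963085955112162717192079634138356198148097)) (.leaf (nat_lit
  93536104789177788063110044229928121304453371396097))) (.leaf (nat_lit
  46768052394591553136583699112521381357121188136961))) (.node (.node (.node (.leaf (nat_lit
  46790888357677506950672201670820321386558457384961)) (.leaf (nat_lit
  93581776715347035937221264578915618689195041622016))) (.leaf 0)) (.leaf (nat_lit
  22835963085956410236931976976055699095175563266)))) (.node (.node (.node (.leaf (nat_lit
  22835963085956410236931674670813819143039485954)) (.leaf (nat_lit
  22835963088613568154287175088743156895082090497))) (.node (.node (.node (.leaf (nat_lit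
  93581776715344378779303909229687203779592249671681)) (.leaf (nat_lit
  93581776715349694393212834108503758375953146843136))) (.leaf 0)) (.leaf (nat_lit
  46813724320758142554703349780952585555874372651008)))) (.node (.leaf (nat_lit
  22835963085953814088502407256999553894879070208)) (.leaf (nat_lit
  93581776715349695691287048893326392960423055855617))))) (.node (.node (.node (.leaf (nat_lit
  93581776715347035937221264578841831712917383284736)) (.node (.leaf (nat_lit
  46813724320755485396785994582766111121788217851905)) (.leaf (nat_lit
  22835963085956410236931674818387771741305833474)))) (.node (.leaf (nat_lit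
  93581776715347035937221264427799891237374976329728)) (.leaf (nat_lit
  45671926169251768333864401371520187058018584578)))) (.node (.leaf (nat_lit
  93581776715347035937221264427799891237366394783744)) (.node (.leaf (nat_lit
  93536104789183104975093183742156435128276165332993)) (.leaf (nat_lit
  46768052394594212890649483880057977054950628265986))))))) (.node (.node (.node (.node (.node
  (.node (.leaf (nat_lit 93581776715344380077378124014509838364027803140098)) (.node (.leaf
  (nat_lit 46768052394588894680592129431891301194837864218625)) (.leaf (nat_lit
  93581776715344378779303909078571476327746422964225)))) (.leaf 0)) (.node (.node (.node (.leaf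
  (nat_lit 22835963085956410236931977049842675407193638914)) (.leaf (nat_lit
  93558940752263741877198546637037546905767147210753))) (.leaf (nat_lit
  45671926169251768333864250182005758917345282050))) (.node (.node (.leaf (nat_lit
  46790888357674847196606417054325666164288591497216)) (.leaf (nat_lit
  93581776715347035937221264276757950761849757632512))) (.leaf 0)))) (.node (.node (.node (.leaf
  (nat_lit 46768052394591554434657914048385956417107717523458)) (.leaf (nat_lit
  46790888357674847196606417205441393616108644206592))) (.leaf 0)) (.node (.leaf (nat_lit
  93581776715344380077378123712278383460387693527042)) (.node (.leaf (nat_lit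
  22835963088614866228501657606135861387081027586)) (.node (.leaf 0) (.node (.leaf (nat_lit
  93536104789180446519101613759368687038630390138881)) (.leaf (nat_lit
  46768052394591554434657914048459743393402559924226)))))))) (.node (.node (.node (.node (.leaf
  (nat_lit 46813724320758142554703349629763071127768067475456)) (.leaf (nat_lit
  46790888357674847196606417356557121067945885173760))) (.node (.leaf (nat_lit
  22835963085956410236931977049842675407185250306)) (.leaf (nat_lit
  93581776715344378779303909380950505183993401442305)))) (.node (.node (.leaf (nat_lit
  46813724320758142554703349931920739055113334687744)) (.leaf (nat_lit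
  93581776715349694393212834410587639327020755718144))) (.node (.node (.leaf (nat_lit
  46813724320758143852777564414659492688515634825217)) (.leaf (nat_lit
  93558940752261083421206976805291739291646586519553))) (.node (.node (.leaf (nat_lit
  93581776715344380077378124014657412316634655227906)) (.leaf (nat_lit
  22835963088613568154286872857288253246369959937))) (.leaf 0))))) (.node (.leaf (nat_lit
  93558940752263740579124331701246758822058271967232)) (.node (.node (.node (.node (.leaf (nat_lit
  46813724320758143852777564414511918735908778543105)) (.leaf (nat_lit
  46768052394591553136583699112373807404531511724033))) (.leaf 0)) (.leaf 0)) (.leaf 0))))) (.node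
  (.node (.node (.node (.leaf (nat_lit 46768052394588895978666344065450634374863675981826)) (.leaf
  (nat_lit 46768052394591554434657913897270228965287669008386))) (.node (.node (.leaf (nat_lit
  93558940752263740579124331701099184869468591360000)) (.node (.leaf 0) (.node (.leaf (nat_lit
  22835963085953814088502558446513982035543984128)) (.leaf (nat_lit
  93581776715347035937221264427873678213669822924800))))) (.leaf (nat_lit
  46790888357677506950672201519630806958443562274817)))) (.node (.node (.node (.node (.node (.leaf
  (nat_lit 46768052394588895978666344065450634374880855851010)) (.leaf (nat_lit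
  45671926169251768333864552487247638869477165058))) (.leaf 0)) (.leaf 0)) (.node (.node (.leaf
  (nat_lit 93558940752263740579124331701172971845772023695360)) (.leaf (nat_lit
  46768052394588894680592129582859454694076826255361))) (.leaf 0))) (.node (.node (.leaf (nat_lit
  93558940752261083421206976654249798816095602212865)) (.leaf (nat_lit
  45671926169249172185435285147220349933334824960))) (.node (.leaf (nat_lit
  46790888357674849792754846321591906476947083888642)) (.leaf (nat_lit
  46813724320755485396785994431797957622557837361153)))))) (.node (.node (.node (.leaf (nat_lit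
  46768052394588895978666343914482480875641881231362)) (.leaf (nat_lit
  46768052394588894680592129431891301194846449958913))) (.leaf (nat_lit
  46768052394591553136583699263489534856360154368001))) (.node (.node (.leaf 0) (.node (.node
  (.leaf (nat_lit 22835963085953814088502558372727005723521714176)) (.leaf (nat_lit
  46813724320758142554703349629836858104062897293312))) (.leaf 0))) (.node (.leaf (nat_lit
  46768052394594211592575269095235342470497894928385)) (.leaf (nat_lit
  45671926169249172185435284999646397326474348544)))))))) (.node (.node (.node (.node (.node (.node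
  (.node (.leaf (nat_lit 22835963085956410236931825786541270988861999106)) (.leaf (nat_lit
  22835963088613568154287023973015705057841123329))) (.node (.node (.leaf (nat_lit
  93581776715349694393212834259545698851486951280640)) (.leaf (nat_lit
  93581776715347035937221264578989405665498469763072))) (.leaf 0))) (.node (.leaf 0) (.node (.node
  (.leaf (nat_lit 46768052394588894680592129280701786766705780850689)) (.leaf (nat_lit
  93581776715344378779303909229687203779583668125697))) (.leaf 0)))) (.node (.node (.leaf (nat_lit
  93558940752263740579124331852288699297600670533632)) (.leaf (nat_lit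
  46768052394594211592575268944267188971250334568449))) (.node (.node (.node (.node (.node (.leaf
  (nat_lit 46790888357674847196606417054251879187985167550464)) (.leaf (nat_lit
  46768052394588894680592129280627999790428130902017))) (.leaf 0)) (.leaf 0)) (.leaf 0)) (.leaf
  (nat_lit 22835963085955112162717343195361590193430726657))))) (.node (.node (.node (.leaf
  (nat_lit 46813724320758143852777564263396191284080123316225)) (.node (.leaf (nat_lit
  93558940752261083421206976805439313244227677192193)) (.node (.leaf (nat_lit
  93581776715344380077378123863541684864788836909058)) (.leaf (nat_lit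
  45671926169249172185435134031492898104683792384))))) (.node (.leaf 0) (.node (.leaf (nat_lit
  46768052394594212890649483880205551007531706355714)) (.leaf (nat_lit
  45671926169250470259649918780340506262583117825))))) (.node (.leaf (nat_lit
  45671926169250470259649616475098626293271365633)) (.node (.node (.leaf (nat_lit
  93558940752263740579124331852288699297592084793344)) (.leaf (nat_lit
  46813724320760803606843349031154147910794086453250))) (.leaf 0))))) (.node (.node (.node (.leaf
  (nat_lit 93581776715347035937221264276757950761832581957632)) (.node (.node (.leaf (nat_lit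
  93536104789183104975093183742230222104579597668353)) (.leaf (nat_lit
  46768052394588895978666343914334906923035024949250))) (.leaf 0))) (.node (.node (.leaf (nat_lit
  22835963088612270080072541234262071672729243648)) (.leaf (nat_lit
  93581776715349695691287049044294546459653427957761))) (.node (.node (.leaf (nat_lit
  22835963085956410236931825934115223561358542850)) (.leaf (nat_lit
  45671926169251768333864552413460662591827216386))) (.node (.leaf (nat_lit
  46790888357674847196606417205367606639822395934720)) (.leaf (nat_lit
  46813724320758142554703349780805011603301871912960)))))) (.node (.node (.node (.leaf (nat_lit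
  46790888357677506950672201519778380911016054624257)) (.node (.node (.node (.leaf (nat_lit
  46768052394591553136583699414752836260778473424897)) (.leaf (nat_lit
  46813724320758143852777564263543765236678393858049))) (.leaf 0)) (.leaf 0))) (.node (.leaf 0)
  (.node (.leaf (nat_lit 93558940752261084719281191439146220376851755302914)) (.node (.leaf
  (nat_lit 46768052394588895978666344065450634374872265916418)) (.leaf (nat_lit
  46768052394588894680592129431891301194846454153217)))))) (.node (.node (.leaf (nat_lit
  46768052394591553136583699263563321832663578314753)) (.leaf (nat_lit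
  46768052394591554434657913897344015941591088760834))) (.node (.node (.node (.node (.leaf (nat_lit
  93581776715347035937221264578915618689203623168000)) (.leaf (nat_lit
  22835963085953814088502407330786530206888757248))) (.leaf (nat_lit
  46813724320758142554703349629763071127750883411968))) (.leaf 0)) (.leaf 0)))))) (.node (.node
  (.node (.node (.leaf (nat_lit 45671926169251768333864250255792735220777617410)) (.node (.node
  (.leaf 0) (.node (.leaf 0) (.node (.leaf (nat_lit
  46768052394591553136583699414679049284492233541633)) (.leaf (nat_lit
  46813724320758143852777564565701433164049435068417))))) (.leaf (nat_lit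
  46768052394591554434657913746228288489745270441986)))) (.node (.node (.node (.leaf (nat_lit
  46768052394594212890649483880131764031228282408962)) (.node (.leaf (nat_lit
  45671926169250470259649616548885602596691118081)) (.leaf (nat_lit
  22835963085953814088502709562241433864186628096)))) (.leaf (nat_lit
  93581776715344380077378123863394110912207742042114))) (.node (.leaf (nat_lit
  46768052394591554434657913897196441988984236673026)) (.leaf (nat_lit
  46813724320758142554703349931920739055130518751232))))) (.node (.node (.node (.node (.leaf
  (nat_lit 45671926169251768333864401297733210754586249218)) (.leaf (nat_lit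
  46813724320758143852777564414585705712212206684161))) (.node (.leaf (nat_lit
  46813724320758142554703349931994526031425361152000)) (.leaf (nat_lit
  46790888357674847196606417356409547115356212955136)))) (.node (.node (.leaf (nat_lit
  46768052394588895978666344216566361826709506883586)) (.leaf (nat_lit
  22835963085956410236931976902268722808927291394))) (.leaf (nat_lit
  93581776715344378779303909229834777732181926084609)))) (.node (.node (.leaf (nat_lit
  22835963085955112162717040963906686518952986625)) (.node (.node (.leaf (nat_lit
  46768052394591553136583699112447594380834935670785)) (.node (.leaf (nat_lit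
  93536104789180446519101613759442474014908044281857)) (.leaf (nat_lit
  46768052394591554434657914048385956417124897392642)))) (.leaf 0))) (.node (.node (.leaf 0) (.node
  (.leaf (nat_lit 93558940752263740579124331701099184869477189683200)) (.leaf (nat_lit
  93581776715347035937221264276610376809242901350400)))) (.leaf 0))))) (.node (.node (.node (.node
  (.leaf (nat_lit 46790888357677506950672201670746534410272204918785)) (.leaf (nat_lit
  22835963085953814088502709488454457552164358144))) (.leaf (nat_lit
  46768052394594211592575268944193401994964090490881))) (.node (.node (.leaf (nat_lit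
  93558940752261084719281191136767191520596195278850)) (.leaf (nat_lit
  93558940752261083421206976654323585792399026159617))) (.node (.node (.leaf (nat_lit
  46790888357677506950672201821862261862100847562753)) (.leaf (nat_lit
  46768052394588894680592129280627999790419532578817))) (.leaf (nat_lit
  93558940752263740579124331701246758822075456030720))))) (.node (.node (.node (.node (.leaf
  (nat_lit 46813724320760803606843348728996479983414446919682)) (.leaf (nat_lit
  93558940752263740579124332003478213725715565643776))) (.leaf (nat_lit
  93581776715349695691287048742136878532299562422273))) (.node (.leaf 0) (.node (.node (.leaf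
  (nat_lit 46768052394588894680592129582859454694068236320769)) (.leaf (nat_lit
  46768052394588895978666344065598208327470532263938))) (.leaf 0)))) (.node (.node (.node (.node
  (.leaf (nat_lit 93581776715344380077378124014583625340331235475458)) (.leaf (nat_lit
  45671926169249172185434982915765446276045342720))) (.leaf (nat_lit
  93558940752261083421206976503060284387989297037313))) (.node (.node (.node (.node (.leaf (nat_lit
  46813724320755485396785994733955625549928882765825)) (.leaf (nat_lit
  45671926169250470259649616622672578900123453441))) (.leaf 0)) (.leaf 0)) (.leaf 0))) (.leaf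
  0))))))) (.node (.node (.node (.node (.node (.node (.node (.leaf (nat_lit
  22835963085953814088502558520300958321788061696)) (.leaf (nat_lit
  22835963085955112162717041111480639117219334145))) (.node (.leaf (nat_lit
  46768052394591554434657914048385956417116307458050)) (.leaf (nat_lit
  46768052394591553136583699112521381357129778071553)))) (.node (.node (.leaf (nat_lit
  46768052394591553136583699414605262308197386946561)) (.node (.leaf (nat_lit
  46813724320760803606843348728996479983431630983170)) (.leaf (nat_lit
  46790888357677506950672201519704593934738396286977)))) (.node (.leaf (nat_lit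
  46768052394588894680592129280627999790410942644225)) (.leaf (nat_lit
  45671926169249172185435285147220349933330630656))))) (.node (.node (.node (.node (.node (.leaf
  (nat_lit 46813724320755485396785994431650383669976746688513)) (.leaf (nat_lit
  46790888357672191336763276489846098862817929068546))) (.leaf 0)) (.leaf 0)) (.node (.leaf
  (nat_lit 45671926169251768333864250182005758917353670658)) (.node (.node (.leaf (nat_lit
  93536104789183104975093183591188281629028609167361)) (.leaf (nat_lit
  46768052394591553136583699414679049284483643607041))) (.leaf 0)))) (.node (.node (.leaf (nat_lit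
  46813724320755486694860209065357290802583644930050)) (.leaf (nat_lit
  93581776715347035937221264427873678213678404470784))) (.node (.node (.node (.leaf (nat_lit
  46768052394588895978666343914334906923052204818434)) (.leaf (nat_lit
  46768052394594212890649483729016036579416811245570))) (.leaf (nat_lit
  22835963085955112162717343195361590193434920961))) (.leaf 0))))) (.node (.node (.node (.node
  (.leaf (nat_lit 46768052394594212890649483880131764031245462278146)) (.leaf (nat_lit
  46768052394594211592575269095235342470480715059201))) (.node (.leaf (nat_lit
  46768052394591554434657913897344015941582498826242)) (.node (.node (.leaf (nat_lit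
  93558940752263740579124331852362486273886918805504)) (.leaf (nat_lit
  45671926169249172185435285147220349933339019264))) (.leaf (nat_lit
  46768052394594212890649483880205551007540296290306))))) (.node (.node (.leaf (nat_lit
  93581776715344380077378124014583625340339817021442)) (.leaf (nat_lit
  22835963085953814088502709562241433864182433792))) (.node (.leaf (nat_lit
  46813724320755485396785994582839898098083056058369)) (.node (.leaf (nat_lit
  46790888357674847196606417054178092211681731020800)) (.leaf (nat_lit
  93581776715349695691287049044294546459662022086657)))))) (.node (.node (.node (.node (.leaf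
  (nat_lit 93581776715344380077378123863467897888502580248578)) (.leaf (nat_lit
  93558940752261083421206976503207858340561789386753))) (.leaf (nat_lit
  46813724320755485396785994431724170646254400831489))) (.node (.node (.leaf (nat_lit
  45671926169250470259649616622672578900119259137)) (.leaf (nat_lit
  93558940752263740579124331701099184869485775423488))) (.leaf 0))) (.node (.node (.node (.node
  (.node (.leaf (nat_lit 46813724320758142554703349629836858104045725812736)) (.leaf (nat_lit
  46813724320760803606843349031080360934499239858178))) (.leaf 0)) (.leaf 0)) (.leaf (nat_lit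
  45671926169250470259649767664613054416748021761))) (.node (.leaf (nat_lit
  93558940752261084719281191439072433400548331356162)) (.node (.leaf (nat_lit
  46768052394594211592575269246351069922317947637761)) (.leaf (nat_lit
  46813724320760803606843348728922693007136784388098)))))))) (.node (.node (.node (.node (.node
  (.leaf (nat_lit 93581776715344378779303909380950505184010577117185)) (.node (.leaf (nat_lit
  22835963085955112162717192227208090954460301313)) (.leaf (nat_lit
  46768052394588895978666343914408693899347043024898)))) (.node (.leaf 0) (.node (.node (.leaf
  (nat_lit 93581776715344380077378124014509838364044978814978)) (.leaf (nat_lit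
  93581776715347035937221264427726104261071548188672))) (.leaf (nat_lit
  93558940752261083421206976654176011839809349746689))))) (.node (.node (.leaf (nat_lit
  45671926169250470259649616475098626293262977025)) (.node (.node (.leaf 0) (.node (.leaf (nat_lit
  46790888357677506950672201519778380911033230299137)) (.leaf (nat_lit
  46813724320760803606843348880112207435243097952258)))) (.leaf (nat_lit
  45671926169251768333864401297733210754582054914)))) (.node (.node (.leaf (nat_lit
  46790888357674849792754846321739480429519580432386)) (.leaf (nat_lit
  46813724320755485396785994734029412526206536908801))) (.leaf (nat_lit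
  45671926169249172185435133957705921801264039936))))) (.node (.node (.node (.node (.leaf (nat_lit
  22835963085953814088502407330786530206892951552)) (.leaf (nat_lit
  46813724320755485396785994734029412526223720972289))) (.leaf (nat_lit
  46790888357677506950672201670894108362853291397121))) (.leaf (nat_lit
  93581776715349695691287048893252605984119619325953))) (.node (.node (.node (.leaf 0) (.node
  (.node (.leaf (nat_lit 46790888357677506950672201670746534410263610789889)) (.leaf (nat_lit
  22835963088612270080072239076594144318867902464))) (.leaf (nat_lit
  93558940752261083421206976805439313244219091451905)))) (.leaf 0)) (.node (.node (.leaf (nat_lit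
  46768052394594212890649483880057977054933448396802)) (.leaf (nat_lit
  45671926169249172185435134031492898104687986688))) (.node (.leaf (nat_lit
  46790888357677506950672201822009835814681934041089)) (.leaf (nat_lit
  46768052394594211592575269095382916423078977212417))))))) (.node (.node (.node (.node (.leaf
  (nat_lit 93581776715344378779303909380876718207715738910721)) (.node (.leaf (nat_lit
  46790888357674847196606417356409547115339024697344)) (.node (.node (.leaf (nat_lit
  46813724320760803606843348880112207435251683692546)) (.leaf (nat_lit
  46813724320758142554703349931994526031408177088512))) (.leaf 0)))) (.node (.node (.leaf (nat_lit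
  46813724320758143852777564565775220140344277469185)) (.leaf (nat_lit
  46768052394591554434657913897270228965296258942978))) (.leaf (nat_lit
  46768052394591553136583699263637108808958420715521)))) (.node (.node (.leaf (nat_lit
  93581776715344380077378123863541684864806012583938)) (.node (.leaf (nat_lit
  93558940752263740579124332003478213725732749707264)) (.node (.leaf (nat_lit
  22835963088614866228501808721863313232916123650)) (.leaf (nat_lit
  22835963085953814088502407404573506493145417728))))) (.leaf (nat_lit
  46813724320758143852777564565627646187737421187073)))) (.node (.node (.leaf (nat_lit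
  22835963085955112162717192079634138356189759489)) (.node (.leaf (nat_lit
  93536104789180446519101613910410627514164194576385)) (.leaf (nat_lit
  46768052394594211592575268944193401994946910621697)))) (.node (.node (.node (.leaf (nat_lit
  46813724320758143852777564565701433164032263587841)) (.leaf (nat_lit
  46768052394591553136583699414752836260787063359489))) (.leaf 0)) (.leaf (nat_lit
  93581776715344378779303909078719050280353287634945))))))) (.node (.node (.node (.node (.node
  (.node (.node (.leaf (nat_lit 93581776715344380077378123863541684864797418455042)) (.leaf
  (nat_lit 46813724320755486694860209216546805230715719909378))) (.node (.leaf (nat_lit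
  93581776715347035937221264276610376809260089608192)) (.leaf (nat_lit
  22835963085953814088502407330786530206897145856)))) (.node (.node (.leaf (nat_lit
  22835963085955112162717040963906686518957180929)) (.leaf (nat_lit
  22835963085953814088502709562241433864190822400))) (.leaf (nat_lit
  93581776715344378779303909078719050280336099377153)))) (.node (.node (.leaf (nat_lit
  93581776715349695691287049044368333435939676229633)) (.node (.leaf (nat_lit
  22835963088612270080072239076594144318859513856)) (.leaf (nat_lit
  46768052394591553136583699414752836260795653294081)))) (.node (.node (.leaf (nat_lit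
  46790888357677506950672201822009835814690528169985)) (.leaf (nat_lit
  46768052394591553136583699414679049284500823476225))) (.leaf (nat_lit
  22835963088614866228501657679922837690509168642))))) (.node (.node (.node (.node (.node (.node
  (.leaf (nat_lit 93581776715349695691287048742136878532290980876289)) (.leaf (nat_lit
  93558940752266401631264331102564048628806628413442))) (.leaf 0)) (.leaf (nat_lit
  46768052394591554434657914048312169440812887705602))) (.leaf 0)) (.node (.node (.node (.node
  (.leaf (nat_lit 46790888357677506950672201519778380911024648753153)) (.leaf (nat_lit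
  93558940752261084719281191136914765473203055755266))) (.leaf 0)) (.leaf 0)) (.leaf (nat_lit
  22835963085953814088502709636028410150430705664)))) (.node (.node (.leaf (nat_lit
  46768052394588894680592129280701786766722960719873)) (.node (.leaf (nat_lit
  46768052394588895978666344216713935779282003427330)) (.leaf (nat_lit
  22835963085955112162717041111480639117227722753)))) (.node (.leaf 0) (.node (.leaf (nat_lit
  93558940752261083421206976805365526267941424726017)) (.leaf (nat_lit
  93581776715347035937221264578989405665489875634176))))))) (.node (.node (.node (.node (.leaf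
  (nat_lit 45671926169249172185434982841978469972613007360)) (.node (.node (.node (.node (.leaf
  (nat_lit 46768052394591554434657913746154501513459017975810)) (.leaf (nat_lit
  93581776715344380077378124014657412316626073681922))) (.leaf 0)) (.leaf 0)) (.leaf 0))) (.node
  (.leaf (nat_lit 46768052394594212890649483728942249603113387298818)) (.node (.leaf (nat_lit
  46813724320760803606843349031080360934490654117890)) (.leaf (nat_lit
  46768052394594211592575269095309129446784143200257))))) (.node (.leaf (nat_lit
  46768052394591554434657913746080714537172765509634)) (.node (.leaf (nat_lit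
  22835963088614866228501506416621433263604371458)) (.leaf (nat_lit
  93581776715344380077378123712425957412960181682178))))) (.node (.node (.node (.node (.leaf
  (nat_lit 46768052394594211592575269095309129446792733134849)) (.leaf (nat_lit
  22835963085956410236931674670813819143035291650))) (.node (.leaf (nat_lit
  46768052394594212890649483880131764031236872343554)) (.leaf (nat_lit
  93558940752263740579124331701172971845763437955072)))) (.node (.node (.leaf (nat_lit
  93581776715344380077378124014583625340322641346562)) (.node (.leaf (nat_lit
  22835963085955112162717192227208090954464495617)) (.leaf (nat_lit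
  93558940752261083421206976503060284387980711297025)))) (.leaf 0))) (.node (.node (.node (.leaf
  (nat_lit 93581776715344378779303909229834777732164750409729)) (.leaf (nat_lit
  46813724320755485396785994431650383669968160948225))) (.leaf 0)) (.node (.leaf (nat_lit
  46813724320760803606843349031154147910785488130050)) (.leaf (nat_lit
  46768052394591553136583699263563321832672168249345))))))) (.node (.node (.node (.node (.node
  (.node (.leaf (nat_lit 93558940752261083421206976654249798816112786276353)) (.leaf (nat_lit
  93581776715344380077378123712278383460379099398146))) (.node (.node (.node (.node (.leaf (nat_lit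
  46768052394588894680592129280775573743009208991745)) (.leaf (nat_lit
  93558940752263740579124331852288699297609256273920))) (.leaf 0)) (.leaf 0)) (.leaf 0))) (.node
  (.leaf 0) (.node (.leaf (nat_lit 46768052394594211592575269246351069922326537572353)) (.leaf
  (nat_lit 45671926171908926251219599336633692259658764289))))) (.node (.node (.leaf 0) (.node
  (.leaf (nat_lit 93581776715349694393212834259471911875209297137664)) (.leaf (nat_lit
  93558940752261084719281191287882918972433436246018)))) (.leaf (nat_lit
  45671926169250470259649616548885602596699506689)))) (.node (.node (.node (.node (.leaf (nat_lit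
  22835963088614866228501657532348885109422690306)) (.leaf (nat_lit
  93581776715349695691287048742210665508585810694145))) (.leaf 0)) (.node (.node (.node (.leaf 0)
  (.node (.leaf (nat_lit 46813724320755486694860209367736319658847794888706)) (.leaf (nat_lit
  46768052394588895978666343914334906923043614883842)))) (.leaf (nat_lit
  93581776715344380077378123712278383460370505269250))) (.leaf (nat_lit
  22835963085953814088502558446513982035539789824)))) (.node (.node (.leaf (nat_lit
  46813724320755485396785994582839898098091641798657)) (.node (.leaf (nat_lit
  46768052394594211592575268944267188971258924503041)) (.leaf (nat_lit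
  45671926169249172185435285073433373629902489600)))) (.leaf (nat_lit
  46790888357677506950672201821862261862092266016769))))) (.node (.node (.node (.node (.leaf
  (nat_lit 46768052394591553136583699112373807404540101658625)) (.leaf (nat_lit
  46813724320758143852777564565701433164040849328129))) (.node (.leaf (nat_lit
  93581776715344378779303909229760990755878506332161)) (.node (.leaf (nat_lit
  46790888357677506950672201670746534410255029243905)) (.leaf (nat_lit
  46813724320760803606843348879964633482653417345026))))) (.node (.node (.leaf (nat_lit
  93536104789180446519101613910484414490441848719361)) (.leaf (nat_lit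
  22835963085955112162717343342935542765927270401))) (.node (.leaf 0) (.node (.leaf (nat_lit
  93558940752263740579124332003330639773125885036544)) (.leaf (nat_lit
  22835963085953814088502558446513982035535595520)))))) (.node (.node (.node (.leaf (nat_lit
  46768052394594211592575269095382916423070387277825)) (.leaf (nat_lit
  46768052394594212890649483729089823555694477971458))) (.node (.node (.node (.node (.leaf (nat_lit
  46813724320760803606843348728922693007119612907522)) (.leaf (nat_lit
  93558940752266399035115901835076447387246445727744))) (.leaf (nat_lit
  22835963085955112162717343342935542765923076097))) (.leaf 0)) (.leaf (nat_lit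
  93581776715347035937221264427726104261088736446464)))) (.node (.node (.leaf (nat_lit
  46790888357672191336763276641109400267227662385154)) (.leaf (nat_lit
  46813724320758143852777564263469978260392149780481))) (.node (.node (.leaf (nat_lit
  46813724320758143852777564565627646187754605250561)) (.leaf (nat_lit
  45671926169251768333864552413460662591823022082))) (.leaf (nat_lit
  93536104789183104975093183591114494652750946635777)))))))))) (.node (.node (.node (.node (.node
  (.node (.node (.node (.leaf (nat_lit 46768052394594212890649483729089823555711657840642)) (.leaf
  (nat_lit 46768052394594211592575269095382916423087567147009))) (.node (.leaf 0) (.node (.leaf 0)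
  (.node (.leaf (nat_lit 46813724320755486694860209216473018254429480026114)) (.leaf (nat_lit
  45671926169249172185435133957705921801255651328)))))) (.node (.node (.leaf (nat_lit
  46768052394588894680592129280775573743000619057153)) (.node (.leaf (nat_lit
  22835963085953814088502558372727005723525908480)) (.leaf (nat_lit
  46813724320755485396785994733881838573625446236161)))) (.node (.leaf (nat_lit
  46813724320755485396785994431724170646271584894977)) (.leaf (nat_lit
  93581776715349695691287049044368333435948270358529))))) (.node (.node (.node (.node (.leaf
  (nat_lit 93536104789177788063110044078664819900026454016001)) (.leaf (nat_lit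
  22835963085955112162717343269148566479678998529))) (.leaf 0)) (.node (.node (.leaf (nat_lit
  93558940752263740579124332003330639773134483359744)) (.leaf (nat_lit
  93581776715347035937221264578841831712908789155840))) (.leaf (nat_lit
  93581776715349695691287048893252605984128213454849)))) (.node (.node (.node (.leaf (nat_lit
  22835963088613568154287023899228728780186980353)) (.leaf (nat_lit
  46813724320760803606843348879964633482670601408514))) (.leaf (nat_lit
  46790888357674849792754846472707633928758546663426))) (.node (.leaf (nat_lit
  45671926169249172185435133957705921801259845632)) (.node (.leaf (nat_lit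
  93581776715349695691287048893252605984111037779969)) (.leaf (nat_lit
  46768052394594211592575269246498643874899042504705))))))) (.node (.node (.node (.node (.node
  (.node (.leaf (nat_lit 93558940752261084719281191136840978496899631808514)) (.leaf (nat_lit
  22835963085956410236931825786541270988866193410))) (.leaf (nat_lit
  46790888357672191336763276489919885839121361403906))) (.leaf 0)) (.node (.leaf (nat_lit
  45671926169251768333864552561034615172913694722)) (.node (.leaf (nat_lit
  46790888357674847196606417054178092211690325149696)) (.node (.leaf 0) (.node (.leaf (nat_lit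
  46768052394591553136583699263489534856368744302593)) (.leaf (nat_lit
  46813724320758142554703349932068313007711605229568))))))) (.node (.leaf (nat_lit
  93581776715347035937221264427726104261080142317568)) (.node (.node (.leaf (nat_lit
  22835963085955112162717192227208090954456107009)) (.leaf (nat_lit
  46768052394594212890649483577974096103883006808066))) (.leaf 0)))) (.node (.node (.node (.node
  (.leaf (nat_lit 46813724320758142554703349932068313007720190969856)) (.leaf (nat_lit
  93581776715349694393212834108356184423372056170496))) (.node (.leaf (nat_lit
  22835963085956410236931825860328247275114465282)) (.leaf (nat_lit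
  46813724320760803606843349031227934887088920465410)))) (.node (.node (.node (.leaf (nat_lit
  46813724320758143852777564414659492688498450761729)) (.leaf (nat_lit
  45671926169250470259649767590826078139089684481))) (.leaf (nat_lit
  46768052394594212890649483728942249603121977233410))) (.leaf 0))) (.node (.leaf (nat_lit
  22835963085956410236931674818387771741310027778)) (.leaf (nat_lit
  46813724320758143852777564565627646187746006927361)))))) (.node (.node (.node (.node (.node
  (.leaf (nat_lit 46768052394594212890649483729016036579399631376386)) (.node (.leaf (nat_lit
  46813724320760803606843348728996479983423032659970)) (.leaf (nat_lit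
  46768052394594211592575269246424856898621375778817)))) (.node (.leaf (nat_lit
  46813724320758143852777564263543765236686979598337)) (.node (.node (.leaf (nat_lit
  22835963088612270080072390266108572450938687488)) (.leaf (nat_lit
  46813724320758142554703349629689284151473225074688))) (.leaf (nat_lit
  93581776715349694393212834410661426303324192247808))))) (.node (.node (.leaf (nat_lit
  46768052394588895978666344065524421351158514188290)) (.leaf (nat_lit
  93558940752263740579124331852362486273895504545792))) (.leaf (nat_lit
  93581776715349695691287048893326392960405867597825)))) (.node (.node (.node (.leaf (nat_lit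
  22835963085955112162717041111480639117223528449)) (.leaf (nat_lit
  46790888357674847196606417205367606639805220259840))) (.node (.node (.leaf (nat_lit
  93536104789180446519101614061673928918582513633281)) (.leaf (nat_lit
  93558940752263740579124331852214912321305836521472))) (.leaf (nat_lit
  46768052394594211592575269246351069922309357703169)))) (.node (.node (.leaf 0) (.node (.node
  (.node (.leaf (nat_lit 45671926169250470259649918854127482540241455105)) (.leaf (nat_lit
  22835963085956410236931674670813819143043680258))) (.leaf 0)) (.leaf 0))) (.node (.leaf (nat_lit
  46768052394588894680592129280627999790428122513409)) (.leaf (nat_lit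
  46813724320755485396785994582913685074395065745409)))))) (.node (.node (.node (.node (.node
  (.node (.leaf 0) (.node (.leaf (nat_lit 93581776715344378779303909078645263304049855299585))
  (.leaf (nat_lit 46813724320755485396785994582913685074386480005121)))) (.leaf (nat_lit
  46768052394588894680592129280627999790410951032833))) (.leaf 0)) (.node (.leaf (nat_lit
  45671926169251768333864401371520187058010195970)) (.node (.leaf 0) (.node (.node (.leaf (nat_lit
  93581776715347035937221264276684163785537747945472)) (.leaf (nat_lit
  46813724320758143852777564263469978260374965716993))) (.leaf 0))))) (.node (.node (.node (.leaf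
  (nat_lit 46790888357677506950672201670820321386567038930945)) (.leaf (nat_lit
  93558940752266399035115901835150234363558472192000))) (.leaf 0)) (.node (.leaf (nat_lit
  45671926169249172185434982841978469972617201664)) (.leaf (nat_lit
  46768052394591554434657913746154501513467607910402))))) (.node (.node (.node (.node (.leaf
  (nat_lit 46790888357674847196606417356483334091642461227008)) (.leaf (nat_lit
  46813724320758142554703349780878798579588115990528))) (.node (.node (.node (.leaf (nat_lit
  93581776715344378779303909380802931231412306575361)) (.leaf (nat_lit
  45671926169251768333864250329579711524201564162))) (.leaf 0)) (.leaf (nat_lit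
  46790888357677506950672201519630806958426374017025)))) (.node (.node (.leaf (nat_lit
  93581776715344378779303909229760990755869912203265)) (.leaf (nat_lit
  46790888357674849792754846321665693453233332160514))) (.node (.leaf (nat_lit
  22835963088613568154287175014956180591645560833)) (.leaf (nat_lit
  45671926169249172185434982768191493669180672000))))) (.node (.node (.leaf (nat_lit
  45671926169249172185435134031492898104692180992)) (.node (.leaf (nat_lit
  46768052394588895978666344216640148802995755155458)) (.leaf (nat_lit
  93581776715347035937221264427799891237383570458624)))) (.node (.node (.leaf (nat_lit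
  46768052394588895978666344216713935779290593361922)) (.leaf (nat_lit
  22835963085955112162717041037693662830979450881))) (.leaf (nat_lit
  93581776715344378779303909380876718207707144781825)))))))) (.node (.node (.node (.node (.node
  (.leaf (nat_lit 45671926169249172185435284999646397326482737152)) (.node (.leaf (nat_lit
  46768052394594212890649483577900309127579582861314)) (.leaf (nat_lit
  46768052394594211592575268944119615018660662349825)))) (.node (.leaf (nat_lit
  93581776715349695691287048742210665508577229148161)) (.node (.leaf 0) (.node (.leaf (nat_lit
  46768052394588895978666344216713935779299183296514)) (.leaf (nat_lit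
  93558940752261084719281191288030492925014526918658)))))) (.node (.node (.node (.leaf 0) (.node
  (.node (.node (.leaf (nat_lit 93558940752263740579124332003404426749437903112192)) (.leaf
  (nat_lit 46813724320755486694860209367662532682535785201666))) (.leaf 0)) (.leaf (nat_lit
  93581776715344380077378123863394110912199160496130)))) (.leaf (nat_lit
  46768052394588895978666344065598208327461942329346))) (.node (.node (.node (.leaf (nat_lit
  46813724320755485396785994733881838573616860495873)) (.leaf (nat_lit
  46768052394588894680592129583007028646666506862593))) (.leaf 0)) (.node (.node (.node (.node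
  (.leaf (nat_lit 22835963088614866228501808648076336929483788290)) (.leaf (nat_lit
  22835963085956410236931976976055699095167174658))) (.leaf (nat_lit
  45671926169251768333864250255792735220781811714))) (.leaf (nat_lit
  46813724320760803606843348880038420458956849680386))) (.leaf 0))))) (.node (.node (.node (.node
  (.node (.leaf (nat_lit 22835963088613568154286872783501276942946013185)) (.leaf (nat_lit
  46813724320758143852777564565775220140335691728897))) (.leaf (nat_lit
  93581776715347035937221264578915618689212217296896))) (.leaf (nat_lit
  93581776715344378779303909229760990755887087878145))) (.node (.node (.leaf (nat_lit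
  46768052394594212890649483729089823555703067906050)) (.node (.leaf (nat_lit
  22835963085955112162717343269148566479674804225)) (.leaf (nat_lit
  46768052394594211592575268944119615018669252284417)))) (.node (.leaf 0) (.node (.node (.leaf
  (nat_lit 22835963085955112162717041037693662830971062273)) (.leaf (nat_lit
  46813724320758142554703349780878798579596714313728))) (.leaf 0))))) (.node (.node (.node (.node
  (.leaf (nat_lit 46768052394591554434657914048459743393419739793410)) (.leaf (nat_lit
  93581776715349695691287049044442120412251694305281))) (.node (.leaf (nat_lit
  46768052394591553136583699112447594380843525605377)) (.leaf (nat_lit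
  22835963088612270080072390266108572450942881792)))) (.node (.node (.leaf (nat_lit
  46813724320758142554703349931920739055121933010944)) (.node (.leaf (nat_lit
  46790888357674847196606417205293819663518971987968)) (.leaf (nat_lit
  46790888357677506950672201821862261862083671887873)))) (.leaf (nat_lit
  22835963085956410236931976902268722808918902786)))) (.node (.node (.leaf (nat_lit
  22835963085955112162717343342935542765931464705)) (.node (.leaf (nat_lit
  46813724320758143852777564565775220140327093405697)) (.leaf (nat_lit
  93581776715344378779303909078645263304058449428481)))) (.node (.node (.leaf (nat_lit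
  22835963085953814088502709488454457552168552448)) (.node (.leaf 0) (.node (.leaf (nat_lit
  93558940752263740579124332003404426749429317371904)) (.leaf (nat_lit
  93581776715347035937221264276684163785546329491456))))) (.leaf 0)))))) (.node (.node (.node
  (.node (.node (.node (.leaf (nat_lit 46790888357674847196606417356557121067937291044864)) (.leaf
  (nat_lit 46813724320758142554703349629763071127759469152256))) (.leaf (nat_lit
  46813724320758143852777564263469978260383551457281))) (.node (.leaf 0) (.node (.leaf (nat_lit
  46813724320760803606843348728848906030824766312450)) (.leaf (nat_lit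
  22835963085956410236931674744600795455061755906))))) (.node (.node (.node (.leaf (nat_lit
  93558940752263740579124331701246758822066857707520)) (.leaf (nat_lit
  93536104789180446519101614061526354965975665739777))) (.leaf 0)) (.node (.leaf (nat_lit
  46790888357674847196606417054325666164271415822336)) (.node (.leaf (nat_lit
  93581776715344380077378123712352170436682531733506)) (.node (.node (.leaf (nat_lit
  46813724320755486694860209065504864755181919666178)) (.leaf (nat_lit
  93558940752263740579124331852214912321314422261760))) (.leaf 0)))))) (.node (.node (.node (.node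
  (.node (.node (.leaf (nat_lit 46813724320758143852777564414511918735917364283393)) (.leaf
  (nat_lit 46768052394594211592575269246424856898612785844225))) (.leaf 0)) (.leaf 0)) (.leaf
  (nat_lit 46768052394594212890649483577826522151276146331650))) (.node (.node (.leaf (nat_lit
  46768052394594211592575269246498643874907632439297)) (.node (.leaf (nat_lit
  46813724320760803606843349031154147910776902389762)) (.leaf (nat_lit
  22835963085955112162717192153421114642442225665)))) (.leaf 0))) (.node (.node (.node (.leaf
  (nat_lit 46790888357672191336763276640961826314646580101122)) (.leaf (nat_lit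
  93558940752261084719281191438998646424270677213186))) (.leaf (nat_lit
  46813724320758143852777564414585705712220792424449))) (.leaf (nat_lit
  45671926169251768333864401445307163335672727554))))) (.node (.node (.node (.node (.node (.node
  (.leaf (nat_lit 93581776715349695691287048742063091555987544346625)) (.leaf (nat_lit
  46813724320758143852777564263396191284097307379713))) (.leaf 0)) (.leaf 0)) (.node (.node (.leaf
  0) (.node (.leaf (nat_lit 46768052394588894680592129431817514218543021817857)) (.leaf (nat_lit
  46768052394588895978666344216640148802987165220866)))) (.leaf (nat_lit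
  22835963085953814088502407256999553894870681600)))) (.node (.node (.leaf 0) (.node (.leaf
  (nat_lit 45671926169249172185435133883918945497831704576)) (.leaf (nat_lit
  46768052394594211592575269095309129446775553265665)))) (.node (.node (.node (.leaf (nat_lit
  93581776715349695691287048893178819007816195379201)) (.leaf (nat_lit
  46790888357677506950672201821936048838395694157825))) (.leaf 0)) (.leaf (nat_lit
  46813724320758142554703349629689284151464639334400))))) (.node (.node (.node (.leaf (nat_lit
  45671926169251768333864552487247638869481359362)) (.leaf (nat_lit
  45671926169249172185434982841978469972608813056))) (.node (.leaf (nat_lit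
  46768052394588895978666343914482480875624701362178)) (.node (.leaf (nat_lit
  93581776715344378779303909229687203779575073996801)) (.leaf (nat_lit
  46768052394588894680592129582933241670380258590721))))) (.node (.node (.leaf (nat_lit
  22835963085955112162717192153421114642446419969)) (.leaf (nat_lit
  46768052394591554434657913746080714537164175575042))) (.leaf (nat_lit
  93581776715347035937221264276757950761841176086528)))))))) (.node (.node (.node (.node (.node
  (.node (.node (.node (.leaf (nat_lit 93558940752263740579124331701172971845780609435648)) (.leaf
  (nat_lit 46813724320760803606843348880038420458965435420674))) (.leaf (nat_lit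
  46790888357672191336763276489993672815399011352578))) (.node (.node (.leaf 0) (.node (.leaf
  (nat_lit 93536104789183104975093183893272162580104816365569)) (.leaf (nat_lit
  46768052394591553136583699263637108808949830780929)))) (.leaf 0))) (.node (.leaf 0) (.node (.leaf
  (nat_lit 22835963085956410236931674744600795455053367298)) (.node (.node (.node (.leaf (nat_lit
  46768052394588895978666344065598208327453352394754)) (.leaf (nat_lit
  46813724320758142554703349629689284151456041011200))) (.leaf 0)) (.node (.leaf (nat_lit
  46790888357674847196606417205441393616100062660608)) (.leaf (nat_lit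
  22835963085955112162717041037693662830975256577))))))) (.node (.node (.node (.node (.leaf
  (nat_lit 93581776715347035937221264578841831712900195026944)) (.leaf (nat_lit
  46813724320760803606843348880112207435260269432834))) (.leaf (nat_lit
  22835963088613568154287174941169204313991417857))) (.leaf (nat_lit
  46768052394594212890649483577900309127588172795906))) (.node (.leaf (nat_lit
  46768052394591554434657913746080714537155585640450)) (.node (.leaf (nat_lit
  46813724320758142554703349931994526031416762828800)) (.leaf (nat_lit
  46813724320758143852777564263396191284088721639425)))))) (.node (.node (.node (.node (.leaf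
  (nat_lit 22835963085953814088502709488454457552172746752)) (.node (.leaf (nat_lit
  93581776715344380077378123863394110912216336171010)) (.leaf (nat_lit
  93558940752261083421206976654323585792407624482817)))) (.node (.leaf (nat_lit
  93581776715349695691287048893326392960414461726721)) (.node (.leaf (nat_lit
  45671926169250470259649767590826078139093878785)) (.leaf (nat_lit
  46768052394591553136583699112373807404548691593217))))) (.node (.node (.node (.leaf (nat_lit
  46768052394591553136583699112447594380826345736193)) (.leaf (nat_lit
  45671926169250470259649918854127482540237260801))) (.node (.node (.leaf (nat_lit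
  46813724320760803606843348728848906030841950375938)) (.leaf (nat_lit
  46790888357677506950672201519630806958434968145921))) (.leaf 0))) (.node (.node (.leaf 0) (.node
  (.leaf (nat_lit 46768052394588895978666343914408693899329863155714)) (.node (.leaf (nat_lit
  46768052394588894680592129582933241670371668656129)) (.leaf (nat_lit
  46768052394594211592575268944193401994955500556289))))) (.leaf (nat_lit
  45671926169249172185434982768191493669189060608))))) (.node (.node (.leaf (nat_lit
  22835963085953814088502407404573506493141223424)) (.node (.leaf 0) (.node (.node (.leaf 0) (.node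
  (.leaf (nat_lit 93558940752261084719281191288030492925031698399234)) (.leaf (nat_lit
  46768052394588895978666344216640148803004345090050)))) (.leaf 0)))) (.node (.node (.leaf (nat_lit
  46813724320755486694860209367588745706249532735490)) (.leaf (nat_lit
  46768052394588894680592129582859454694085416189953))) (.node (.leaf 0) (.node (.node (.leaf
  (nat_lit 22835963085956410236931674818387771741301639170)) (.leaf (nat_lit
  45671926169251768333864401445307163335676921858))) (.leaf (nat_lit
  46768052394594211592575269246424856898604195909633)))))))) (.node (.node (.node (.node (.node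
  (.leaf (nat_lit 93581776715347035937221264276684163785554923620352)) (.leaf (nat_lit
  93558940752261084719281191136840978496891033485314))) (.node (.node (.node (.leaf (nat_lit
  46768052394591553136583699414605262308205976881153)) (.leaf (nat_lit
  46768052394591554434657913897344015941573908891650))) (.leaf (nat_lit
  93558940752266401631264331102637835605084286750722))) (.leaf 0))) (.node (.node (.leaf 0) (.node
  (.leaf 0) (.node (.node (.leaf (nat_lit 46790888357677506950672201670894108362844697268225))
  (.leaf (nat_lit 45671926169251768333864250329579711524205758466))) (.leaf (nat_lit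
  93558940752261083421206976503207858340578973450241))))) (.node (.leaf (nat_lit
  46768052394588894680592129583007028646657912733697)) (.leaf (nat_lit
  46768052394588895978666344065524421351167104122882))))) (.node (.node (.leaf (nat_lit
  46790888357677506950672201519704593934729802158081)) (.node (.leaf 0) (.node (.leaf (nat_lit
  46768052394591553136583699263489534856377334237185)) (.leaf (nat_lit
  46768052394588894680592129583007028646675096797185))))) (.node (.node (.node (.leaf (nat_lit
  93558940752261083421206976805291739291629415038977)) (.leaf (nat_lit
  93581776715344380077378124014657412316617479553026))) (.leaf (nat_lit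
  22835963085953814088502558372727005723517519872))) (.node (.leaf (nat_lit
  93581776715344378779303909380802931231403725029377)) (.leaf (nat_lit
  22835963085955112162717343195361590193426532353)))))) (.node (.node (.node (.node (.leaf 0)
  (.node (.node (.leaf (nat_lit 46790888357674847196606417356483334091633867098112)) (.leaf
  (nat_lit 22835963085955112162717343269148566479683192833))) (.leaf (nat_lit
  46813724320758142554703349780878798579579530250240)))) (.node (.node (.leaf (nat_lit
  22835963085956410236931825934115223561366931458)) (.leaf (nat_lit
  46768052394594211592575269246498643874916222373889))) (.leaf 0))) (.node (.node (.leaf (nat_lit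
  45671926169250470259649767664613054416752216065)) (.node (.leaf (nat_lit
  93558940752263740579124331852362486273904102868992)) (.leaf (nat_lit
  46813724320760803606843349031227934887071736401922)))) (.leaf (nat_lit
  46790888357674847196606417054251879187993749096448)))) (.node (.node (.node (.node (.leaf
  (nat_lit 22835963088614866228501657532348885109426884610)) (.leaf (nat_lit
  22835963085953814088502558520300958321792256000))) (.node (.leaf 0) (.node (.leaf (nat_lit
  93581776715344380077378123863467897888493998702594)) (.leaf (nat_lit
  46790888357677506950672201670820321386549863256065))))) (.leaf (nat_lit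
  93581776715349695691287048893178819007833371054081))) (.node (.node (.leaf (nat_lit
  22835963088612270080072541234262071672725049344)) (.leaf (nat_lit
  46768052394591554434657914048312169440821477640194))) (.node (.node (.leaf (nat_lit
  93558940752263740579124332003478213725724151384064)) (.leaf (nat_lit
  46768052394594212890649483577974096103865826938882))) (.leaf (nat_lit
  46813724320760803606843349031227934887080334725122)))))))) (.node (.node (.node (.node (.node
  (.node (.leaf (nat_lit 46768052394591553136583699112521381357138368006145)) (.leaf (nat_lit
  46768052394591554434657913746228288489762450311170))) (.leaf 0)) (.node (.node (.node (.node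
  (.node (.leaf (nat_lit 22835963085956410236931825860328247275110270978)) (.leaf (nat_lit
  22835963085955112162717192079634138356193953793))) (.leaf 0)) (.leaf (nat_lit
  46768052394588895978666343914408693899338453090306))) (.leaf (nat_lit
  46768052394594212890649483577826522151284736266242))) (.node (.node (.leaf 0) (.node (.leaf
  (nat_lit 22835963088613568154287023825441752476750450689)) (.leaf (nat_lit
  93558940752261083421206976503134071364275549503489)))) (.leaf 0)))) (.node (.node (.node (.leaf
  (nat_lit 46768052394591553136583699414605262308188797011969)) (.leaf (nat_lit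
  46768052394588894680592129431817514218543026012161))) (.node (.leaf (nat_lit
  93581776715347035937221264276610376809251495479296)) (.node (.node (.leaf 0) (.node (.leaf
  (nat_lit 46790888357677506950672201821936048838387100028929)) (.leaf (nat_lit
  45671926169251768333864552561034615172905306114)))) (.leaf (nat_lit
  46813724320760803606843348728848906030833364635650))))) (.node (.node (.node (.leaf (nat_lit
  46813724320758143852777564263543765236669808117761)) (.leaf (nat_lit
  93581776715344378779303909078571476327755017093121))) (.node (.leaf (nat_lit
  22835963085955112162717192153421114642438031361)) (.leaf (nat_lit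
  46813724320758142554703349932068313007703019489280)))) (.node (.leaf (nat_lit
  46768052394591554434657913897196441988992826607618)) (.leaf (nat_lit
  22835963085953814088502558520300958321783867392)))))) (.node (.node (.node (.node (.node (.leaf
  (nat_lit 46813724320755486694860209065431077778895667200002)) (.leaf (nat_lit
  93581776715344380077378123863467897888511174377474))) (.leaf (nat_lit
  46790888357674849792754846472781420905070564739074))) (.node (.node (.node (.node (.leaf (nat_lit
  93581776715349694393212834410735213279627616194560)) (.leaf (nat_lit
  22835963085953814088502407404573506493137029120))) (.leaf 0)) (.leaf (nat_lit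
  46813724320758142554703349780805011603293286172672))) (.node (.leaf (nat_lit
  93581776715344380077378124014509838364036397268994)) (.leaf (nat_lit
  93558940752261083421206976654176011839800764006401))))) (.node (.node (.leaf 0) (.node (.leaf 0)
  (.node (.node (.leaf (nat_lit 93558940752261084719281191438998646424262078889986)) (.leaf
  (nat_lit 46768052394588895978666344216566361826700916948994))) (.leaf 0)))) (.node (.leaf
  (nat_lit 46768052394591553136583699263637108808967010650113)) (.leaf (nat_lit
  46813724320760803606843348728922693007128198647810))))) (.node (.node (.node (.node (.leaf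
  (nat_lit 46790888357674847196606417205293819663527566116864)) (.leaf (nat_lit
  93581776715349695691287048742063091556004732604417))) (.leaf 0)) (.node (.node (.leaf 0) (.node
  (.leaf (nat_lit 93581776715344380077378123712352170436673937604610)) (.leaf (nat_lit
  46790888357677506950672201519704593934721220612097)))) (.node (.leaf (nat_lit
  22835963085953814088502407256999553894874875904)) (.node (.leaf (nat_lit
  22835963088614866228501808795650289510570266626)) (.leaf (nat_lit
  93558940752263740579124332003330639773143069100032)))))) (.node (.node (.node (.node (.leaf
  (nat_lit 93558940752263740579124332003404426749420731631616)) (.node (.leaf (nat_lit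
  46768052394588894680592129280775573743000627445761)) (.leaf (nat_lit
  46768052394594211592575268944267188971241744633857)))) (.leaf (nat_lit
  22835963085956410236931825860328247275118659586))) (.leaf 0)) (.leaf (nat_lit
  46768052394588894680592129280701786766705789239297)))))) (.node (.node (.node (.node (.node
  (.leaf 0) (.node (.leaf (nat_lit 22835963088614866228501506564195385870460653570)) (.leaf
  (nat_lit 46813724320758143852777564414511918735925950023681)))) (.leaf (nat_lit
  22835963085953814088502709636028410150439094272))) (.node (.node (.leaf (nat_lit
  46768052394594211592575268944119615018652072415233)) (.leaf (nat_lit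
  46768052394588894680592129280627999790419540967425))) (.leaf (nat_lit
  46790888357677506950672201822009835814673352495105)))) (.node (.node (.node (.node (.leaf
  (nat_lit 45671926169249172185435284999646397326478542848)) (.leaf (nat_lit
  46768052394591553136583699263563321832654988380161))) (.leaf (nat_lit
  93536104789177788063110043927622879424509821059073))) (.node (.leaf (nat_lit
  45671926169250470259649767738400030720176162817)) (.node (.leaf 0) (.node (.leaf (nat_lit
  93581776715347035937221264578989405665507051309056)) (.leaf (nat_lit
  46790888357677506950672201670894108362861885526017)))))) (.node (.node (.leaf (nat_lit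
  93581776715344378779303909229834777732173344538625)) (.leaf (nat_lit
  22835963088613568154286872709714300639522066433))) (.node (.node (.leaf (nat_lit
  93558940752261083421206976805365526267932838985729)) (.node (.node (.leaf (nat_lit
  93581776715349695691287048893178819007824789508097)) (.leaf (nat_lit
  93581776715344380077378123712425957412977369939970))) (.leaf 0))) (.leaf (nat_lit
  22835963085953814088502709636028410150434899968)))))) (.node (.node (.node (.node (.leaf 0)
  (.node (.leaf (nat_lit 22835963085956410236931976976055699095171368962)) (.leaf (nat_lit
  46768052394594211592575269095235342470489304993793)))) (.node (.leaf (nat_lit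
  93581776715347035937221264427873678213661228795904)) (.node (.node (.leaf (nat_lit
  46813724320760803606843348880038420458948251357186)) (.node (.leaf (nat_lit
  45671926171908926251219448368480193012098404353)) (.leaf (nat_lit
  22835963085955112162717040963906686518961375233)))) (.leaf 0)))) (.node (.leaf (nat_lit
  46790888357672191336763276641035613290949999853570)) (.leaf (nat_lit
  93536104789183104975093183893419736532685898649601)))) (.node (.node (.node (.leaf (nat_lit
  22835963085956410236931977049842675407189444610)) (.node (.leaf (nat_lit
  46813724320758142554703349629836858104054311553024)) (.leaf (nat_lit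
  93581776715349694393212834108429971399675480117248)))) (.node (.node (.leaf (nat_lit
  93581776715344380077378123712425957412968775811074)) (.leaf (nat_lit
  46813724320755486694860209216620592207001972375554))) (.leaf (nat_lit
  22835963088614866228501657679922837690517557250)))) (.node (.node (.leaf (nat_lit
  46813724320760803606843349031080360934482068377602)) (.leaf (nat_lit
  22835963085956410236931825786541270988870387714))) (.leaf 0)))))))))
/-- Table look-up. -/
noncomputable def tbA (c : ℕ) : ℕ := tbAT.get (Nat.mod c 4517)

def ibAT : Trie :=
  (.node (.node (.node (.node (.node (.node (.node (.node (.node (.leaf (nat_lit 32313054261))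
  (.node (.leaf (nat_lit 18573437031)) (.leaf (nat_lit 31809737811)))) (.node (.node (.leaf
  (nat_lit 22349416326)) (.leaf (nat_lit 36340507731))) (.leaf (nat_lit 14295369336)))) (.node
  (.node (.leaf (nat_lit 14044633206)) (.leaf (nat_lit 557078376))) (.leaf 0))) (.node (.node
  (.node (.leaf (nat_lit 22356062496)) (.node (.leaf (nat_lit 27783144756)) (.leaf (nat_lit
  309879861)))) (.leaf (nat_lit 14049313056))) (.node (.node (.leaf (nat_lit 36344967201)) (.leaf
  (nat_lit 28040184321))) (.leaf (nat_lit 8863827591))))) (.node (.node (.node (.node (.leaf
  (nat_lit 31815119106)) (.leaf (nat_lit 14295246471))) (.node (.leaf (nat_lit 36343861281)) (.leaf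
  (nat_lit 4333058166)))) (.node (.node (.leaf (nat_lit 27783205716)) (.leaf (nat_lit
  31810659141))) (.node (.node (.leaf (nat_lit 36341613381)) (.leaf (nat_lit 14042667111))) (.leaf
  (nat_lit 14302077456))))) (.node (.node (.node (.node (.leaf (nat_lit 22607781906)) (.leaf
  (nat_lit 18573436536))) (.leaf 0)) (.node (.leaf (nat_lit 14042666886)) (.leaf (nat_lit
  27784127541)))) (.node (.node (.leaf (nat_lit 560432211)) (.node (.node (.leaf (nat_lit
  310801236)) (.leaf (nat_lit 36092203296))) (.leaf (nat_lit 32312992851)))) (.leaf (nat_lit
  14043711111)))))) (.node (.node (.node (.node (.leaf (nat_lit 8610203496)) (.leaf (nat_lit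
  31813091856))) (.node (.node (.node (.leaf (nat_lit 14050418706)) (.leaf (nat_lit 27785233461)))
  (.node (.leaf (nat_lit 27783144261)) (.leaf (nat_lit 36093309441)))) (.node (.leaf (nat_lit
  8614479156)) (.node (.node (.node (.leaf (nat_lit 14051401761)) (.leaf (nat_lit 18076950786)))
  (.leaf 0)) (.leaf (nat_lit 18071164536)))))) (.node (.node (.node (.leaf 0) (.node (.node (.node
  (.leaf (nat_lit 14044694406)) (.leaf (nat_lit 22600091526))) (.leaf 0)) (.leaf (nat_lit
  31809738036)))) (.node (.node (.leaf (nat_lit 18572514936)) (.leaf (nat_lit 36340507956))) (.node
  (.leaf 0) (.node (.leaf (nat_lit 18580267521)) (.leaf (nat_lit 27783206211)))))) (.node (.node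
  (.node (.node (.leaf (nat_lit 14051401986)) (.leaf (nat_lit 18573559656))) (.leaf (nat_lit
  562459956))) (.leaf 0)) (.node (.leaf (nat_lit 18071226486)) (.node (.leaf (nat_lit 27786498081))
  (.leaf (nat_lit 32317329696))))))) (.node (.node (.node (.node (.node (.leaf 0) (.node (.leaf
  (nat_lit 22354096386)) (.leaf (nat_lit 18572454006)))) (.leaf 0)) (.node (.leaf (nat_lit
  14296352391)) (.node (.leaf (nat_lit 27786559506)) (.node (.leaf (nat_lit 32312993076)) (.leaf
  (nat_lit 27788525826)))))) (.node (.leaf (nat_lit 307509096)) (.node (.node (.leaf (nat_lit
  22347388536)) (.leaf (nat_lit 18071164806))) (.leaf 0)))) (.node (.node (.node (.leaf (nat_lit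
  28038217761)) (.leaf (nat_lit 22601074536))) (.node (.node (.leaf (nat_lit 306403176)) (.leaf
  (nat_lit 4337333061))) (.leaf (nat_lit 8862906486)))) (.node (.node (.leaf (nat_lit 4838683731))
  (.node (.node (.node (.leaf (nat_lit 31810659411)) (.leaf (nat_lit 14294263416))) (.leaf 0))
  (.leaf (nat_lit 14294263686)))) (.node (.leaf (nat_lit 36341613651)) (.node (.node (.node (.leaf
  (nat_lit 22355140896)) (.leaf (nat_lit 14049374466))) (.leaf 0)) (.leaf (nat_lit
  36087927861))))))))) (.node (.node (.node (.node (.node (.leaf (nat_lit 8611124871)) (.node
  (.leaf (nat_lit 36341551956)) (.leaf (nat_lit 14044694136)))) (.node (.node (.node (.leaf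
  (nat_lit 32314098771)) (.leaf (nat_lit 32318435346))) (.leaf (nat_lit 18573559926))) (.node
  (.node (.leaf (nat_lit 18572453736)) (.leaf (nat_lit 18069137511))) (.leaf 0)))) (.node (.node
  (.node (.node (.leaf (nat_lit 4838622261)) (.leaf (nat_lit 28035786036))) (.leaf 0)) (.leaf
  (nat_lit 22356062226))) (.node (.node (.leaf (nat_lit 14294325096)) (.leaf (nat_lit
  31814013456))) (.node (.node (.node (.node (.leaf (nat_lit 559106166)) (.leaf (nat_lit
  36092325921))) (.leaf 0)) (.leaf (nat_lit 28040245281))) (.leaf (nat_lit 22599046791)))))) (.node
  (.node (.node (.node (.leaf (nat_lit 22599047286)) (.node (.node (.leaf (nat_lit 14043711606))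
  (.leaf (nat_lit 22355017761))) (.leaf 0))) (.node (.node (.leaf (nat_lit 36091281696)) (.node
  (.node (.leaf (nat_lit 8862906216)) (.leaf (nat_lit 36091220226))) (.leaf 0))) (.leaf (nat_lit
  18069198696)))) (.node (.leaf 0) (.node (.leaf 0) (.node (.leaf (nat_lit 28035785541)) (.leaf
  (nat_lit 18572515206)))))) (.node (.leaf 0) (.node (.node (.leaf (nat_lit 27785171781)) (.leaf
  (nat_lit 308835636))) (.node (.leaf (nat_lit 14051340801)) (.leaf (nat_lit 32314098996)))))))
  (.node (.node (.node (.node (.node (.node (.leaf (nat_lit 4837357686)) (.leaf (nat_lit
  8612231286))) (.leaf (nat_lit 4333979766))) (.node (.leaf (nat_lit 558184071)) (.leaf (nat_lit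
  28040245506)))) (.node (.node (.node (.leaf (nat_lit 28036891461)) (.leaf (nat_lit 36089894196)))
  (.leaf (nat_lit 27784127811))) (.node (.node (.node (.leaf (nat_lit 4334040696)) (.leaf (nat_lit
  18070243206))) (.leaf (nat_lit 22606798881))) (.leaf (nat_lit 27784250451))))) (.node (.node
  (.node (.node (.leaf (nat_lit 36341613876)) (.leaf (nat_lit 22598985831))) (.leaf (nat_lit
  18075906066))) (.node (.node (.leaf (nat_lit 27785233236)) (.leaf (nat_lit 31814136096))) (.node
  (.leaf (nat_lit 22347389031)) (.leaf (nat_lit 28034864436))))) (.node (.node (.node (.leaf
  (nat_lit 32317329921)) (.node (.leaf (nat_lit 27787604001)) (.leaf (nat_lit 36088972596))))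
  (.node (.leaf (nat_lit 22347327336)) (.leaf (nat_lit 561537861)))) (.node (.node (.node (.node
  (.leaf (nat_lit 36092203026)) (.leaf (nat_lit 22349354631))) (.leaf 0)) (.node (.node (.leaf
  (nat_lit 32318373921)) (.leaf (nat_lit 8865215541))) (.leaf 0))) (.leaf (nat_lit
  14295246696)))))) (.node (.node (.node (.node (.node (.leaf (nat_lit 32314098501)) (.node (.leaf
  (nat_lit 27786559776)) (.leaf (nat_lit 8615523381)))) (.node (.leaf (nat_lit 8867181381)) (.leaf
  (nat_lit 22349355126)))) (.node (.node (.leaf (nat_lit 27785172051)) (.node (.node (.leaf
  (nat_lit 32316408321)) (.leaf (nat_lit 22348433256))) (.leaf 0))) (.leaf (nat_lit 32313054531))))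
  (.node (.node (.node (.leaf (nat_lit 306403446)) (.leaf (nat_lit 28038156576))) (.leaf (nat_lit
  28038217986))) (.leaf (nat_lit 31815118881)))) (.node (.node (.node (.node (.leaf (nat_lit
  18070120071)) (.leaf (nat_lit 8861800566))) (.node (.leaf (nat_lit 36344967696)) (.leaf (nat_lit
  22347327606)))) (.node (.leaf (nat_lit 558184296)) (.node (.leaf (nat_lit 305481846)) (.leaf
  (nat_lit 4336411731))))) (.node (.node (.node (.node (.leaf (nat_lit 18075845136)) (.leaf
  (nat_lit 14296291431))) (.leaf (nat_lit 28038156801))) (.leaf 0)) (.node (.node (.leaf (nat_lit
  36089955651)) (.leaf (nat_lit 32313975636))) (.node (.leaf (nat_lit 28035785811)) (.node (.leaf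
  (nat_lit 14043588216)) (.leaf (nat_lit 8610142086))))))))))) (.node (.node (.node (.node (.node
  (.leaf (nat_lit 22356062721)) (.node (.leaf (nat_lit 558061671)) (.node (.node (.leaf (nat_lit
  558184566)) (.leaf (nat_lit 4336411461))) (.leaf (nat_lit 559167096))))) (.node (.node (.node
  (.node (.node (.leaf (nat_lit 4840649781)) (.leaf (nat_lit 36343984146))) (.leaf (nat_lit
  22601013126))) (.node (.leaf (nat_lit 4835268216)) (.leaf (nat_lit 18581188626)))) (.node (.node
  (.node (.leaf (nat_lit 308773716)) (.leaf (nat_lit 36087928131))) (.leaf 0)) (.node (.leaf
  (nat_lit 18077872386)) (.leaf (nat_lit 8613557331))))) (.node (.node (.node (.leaf (nat_lit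
  4336288821)) (.leaf (nat_lit 31811703636))) (.leaf (nat_lit 4835329671))) (.node (.leaf (nat_lit
  22605754386)) (.leaf (nat_lit 36091220496)))))) (.node (.node (.node (.node (.node (.leaf
  (nat_lit 561415221)) (.leaf (nat_lit 18071225991))) (.leaf (nat_lit 8865153861))) (.leaf 0))
  (.node (.node (.node (.leaf (nat_lit 22356123906)) (.node (.leaf (nat_lit 310801461)) (.leaf
  (nat_lit 32313976131)))) (.leaf (nat_lit 4840710981))) (.node (.leaf (nat_lit 14051340576))
  (.node (.leaf (nat_lit 4839728451)) (.leaf (nat_lit 18069137286)))))) (.node (.node (.node (.leaf
  0) (.node (.node (.leaf (nat_lit 8866259781)) (.leaf (nat_lit 22606676481))) (.leaf 0))) (.node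
  (.leaf (nat_lit 36339524661)) (.node (.leaf (nat_lit 8612230791)) (.leaf (nat_lit
  14043588711))))) (.node (.node (.leaf (nat_lit 18581250306)) (.leaf (nat_lit 4836374406))) (.node
  (.leaf (nat_lit 8611248231)) (.leaf (nat_lit 4332935271))))))) (.node (.node (.node (.node (.node
  (.node (.leaf 0) (.node (.node (.leaf (nat_lit 27788525601)) (.leaf (nat_lit 8865215316))) (.leaf
  0))) (.leaf (nat_lit 18075906561))) (.node (.node (.leaf (nat_lit 28035908661)) (.leaf (nat_lit
  561414996))) (.leaf 0))) (.node (.node (.leaf (nat_lit 4839728181)) (.node (.node (.node (.leaf
  (nat_lit 4837296231)) (.leaf (nat_lit 18076951056))) (.leaf 0)) (.leaf 0))) (.node (.leaf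
  (nat_lit 8612169336)) (.node (.leaf (nat_lit 18075844866)) (.leaf (nat_lit 8861861496))))))
  (.node (.node (.node (.leaf 0) (.node (.node (.node (.leaf (nat_lit 22354034976)) (.leaf (nat_lit
  4840711251))) (.leaf 0)) (.leaf 0))) (.node (.leaf (nat_lit 14050418976)) (.leaf (nat_lit
  4838683956)))) (.node (.node (.leaf (nat_lit 8863889286)) (.node (.node (.leaf (nat_lit
  27785172276)) (.leaf (nat_lit 27786498576))) (.leaf (nat_lit 36093309216)))) (.node (.leaf 0)
  (.node (.leaf (nat_lit 4336289091)) (.leaf (nat_lit 8861861991))))))) (.node (.node (.node (.node
  (.node (.node (.leaf (nat_lit 22606799376)) (.leaf (nat_lit 22599047016))) (.leaf (nat_lit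
  8862783591))) (.leaf (nat_lit 307447911))) (.node (.leaf 0) (.node (.leaf (nat_lit 8863889016))
  (.leaf (nat_lit 22607720481))))) (.node (.node (.leaf (nat_lit 36342939681)) (.leaf (nat_lit
  18076827936))) (.leaf 0))) (.node (.node (.node (.node (.leaf (nat_lit 8866137141)) (.node (.leaf
  (nat_lit 14044632711)) (.leaf (nat_lit 36339524436)))) (.leaf 0)) (.node (.leaf (nat_lit
  4333057896)) (.node (.leaf (nat_lit 27786560001)) (.leaf (nat_lit 27787604226))))) (.node (.node
  (.leaf (nat_lit 4837296006)) (.leaf (nat_lit 8613557556))) (.node (.leaf (nat_lit 307447416))
  (.leaf (nat_lit 4838622531)))))))) (.node (.node (.node (.node (.node (.node (.node (.leaf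
  (nat_lit 31810782261)) (.leaf (nat_lit 14301954561))) (.leaf (nat_lit 36342878226))) (.leaf
  (nat_lit 36340630851))) (.node (.leaf (nat_lit 8610141816)) (.node (.node (.node (.leaf (nat_lit
  22599968391)) (.leaf (nat_lit 14300971536))) (.leaf (nat_lit 4332934776))) (.leaf 0)))) (.node
  (.node (.node (.leaf (nat_lit 14050419201)) (.node (.node (.leaf (nat_lit 36342878496)) (.leaf
  (nat_lit 8614601781))) (.leaf (nat_lit 22600091751)))) (.node (.leaf (nat_lit 308835141)) (.leaf
  (nat_lit 36089955156)))) (.node (.node (.node (.node (.node (.leaf (nat_lit 4837357416)) (.leaf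
  (nat_lit 36092326416))) (.leaf 0)) (.leaf (nat_lit 32318435841))) (.node (.leaf (nat_lit
  560493396)) (.leaf (nat_lit 36341552451)))) (.node (.node (.node (.node (.leaf (nat_lit
  27788526096)) (.leaf (nat_lit 8867242836))) (.leaf 0)) (.leaf (nat_lit 28036830036))) (.leaf
  0))))) (.node (.node (.node (.node (.leaf (nat_lit 8867181651)) (.node (.leaf (nat_lit
  4334041191)) (.leaf (nat_lit 14295246966)))) (.leaf 0)) (.node (.node (.leaf (nat_lit
  8615585076)) (.leaf (nat_lit 32313054036))) (.node (.leaf (nat_lit 31815057696)) (.leaf (nat_lit
  22355140626))))) (.node (.node (.node (.leaf (nat_lit 14301032961)) (.node (.leaf (nat_lit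
  31809676341)) (.leaf (nat_lit 562521411)))) (.node (.leaf (nat_lit 36093247746)) (.node (.node
  (.node (.leaf (nat_lit 28034802516)) (.leaf (nat_lit 22606676256))) (.leaf 0)) (.leaf 0))))
  (.node (.leaf (nat_lit 4838683461)) (.node (.leaf (nat_lit 4839605331)) (.leaf (nat_lit
  4835268486))))))) (.node (.node (.node (.node (.node (.leaf (nat_lit 22607782401)) (.node (.leaf
  (nat_lit 36340630581)) (.leaf (nat_lit 4337395011)))) (.leaf (nat_lit 31810782036))) (.node
  (.node (.leaf (nat_lit 22606799106)) (.node (.node (.leaf (nat_lit 32315081781)) (.leaf (nat_lit
  8613495861))) (.leaf 0))) (.node (.leaf (nat_lit 18070242936)) (.leaf (nat_lit 4836374631)))))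
  (.node (.node (.leaf (nat_lit 18077934081)) (.node (.node (.leaf (nat_lit 22606675986)) (.leaf
  (nat_lit 22348310136))) (.leaf 0))) (.node (.node (.leaf (nat_lit 27788587026)) (.node (.leaf
  (nat_lit 4331952246)) (.leaf (nat_lit 18579222561)))) (.node (.node (.leaf (nat_lit 559167591))
  (.leaf (nat_lit 18075844641))) (.leaf 0))))) (.node (.node (.node (.node (.leaf (nat_lit
  8611248006)) (.leaf (nat_lit 22598985336))) (.node (.node (.leaf (nat_lit 14302999056)) (.leaf
  (nat_lit 558061176))) (.leaf (nat_lit 8614601556)))) (.node (.node (.node (.leaf 0) (.node (.leaf
  (nat_lit 22605754656)) (.leaf (nat_lit 4836251766)))) (.node (.node (.node (.leaf (nat_lit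
  31815119376)) (.leaf (nat_lit 28036830261))) (.leaf 0)) (.leaf 0))) (.leaf (nat_lit
  18076827666)))) (.node (.node (.leaf (nat_lit 4335366996)) (.node (.node (.node (.node (.leaf
  (nat_lit 32316346626)) (.leaf (nat_lit 562520916))) (.leaf 0)) (.leaf 0)) (.leaf (nat_lit
  8862905991)))) (.node (.leaf (nat_lit 308835411)) (.leaf (nat_lit 8615523651))))))))) (.node
  (.node (.node (.node (.node (.node (.node (.node (.leaf (nat_lit 559105671)) (.leaf (nat_lit
  4835329896))) (.node (.leaf (nat_lit 560432436)) (.leaf (nat_lit 14294324871)))) (.node (.node
  (.leaf (nat_lit 36088849731)) (.node (.leaf (nat_lit 36339585861)) (.leaf (nat_lit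
  14044694631)))) (.node (.leaf (nat_lit 14301032736)) (.node (.node (.leaf (nat_lit 31811765061))
  (.leaf (nat_lit 31813030176))) (.leaf 0))))) (.node (.node (.node (.leaf (nat_lit 14301954066))
  (.leaf (nat_lit 8866260276))) (.node (.leaf (nat_lit 18075906336)) (.leaf (nat_lit 4836251496))))
  (.node (.node (.node (.node (.node (.leaf (nat_lit 22354096161)) (.leaf (nat_lit 22355141121)))
  (.leaf 0)) (.leaf 0)) (.node (.node (.node (.leaf (nat_lit 310862931)) (.leaf (nat_lit
  4839727956))) (.leaf 0)) (.leaf 0))) (.node (.node (.node (.node (.leaf (nat_lit 18579161601))
  (.leaf (nat_lit 309756741))) (.leaf 0)) (.leaf 0)) (.node (.leaf (nat_lit 310801731)) (.leaf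
  (nat_lit 36087866451))))))) (.node (.node (.node (.node (.node (.leaf (nat_lit 36344906016))
  (.node (.node (.leaf (nat_lit 18580144161)) (.leaf (nat_lit 18580267026))) (.leaf 0))) (.leaf
  (nat_lit 310862661))) (.node (.node (.leaf 0) (.node (.leaf (nat_lit 14049312786)) (.leaf
  (nat_lit 32313975861)))) (.node (.leaf (nat_lit 14296290936)) (.leaf (nat_lit 309879636)))))
  (.node (.node (.leaf (nat_lit 4331951976)) (.leaf (nat_lit 8612231016))) (.node (.node (.leaf 0)
  (.node (.leaf (nat_lit 4337333556)) (.leaf (nat_lit 36342939906)))) (.leaf (nat_lit
  18069198966))))) (.node (.node (.leaf (nat_lit 308773941)) (.node (.node (.node (.leaf (nat_lit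
  18580144386)) (.leaf (nat_lit 18574481031))) (.leaf 0)) (.leaf (nat_lit 4840650051)))) (.node
  (.node (.leaf (nat_lit 14303060481)) (.node (.leaf (nat_lit 18572515431)) (.leaf (nat_lit
  28039262496)))) (.node (.leaf (nat_lit 22348310406)) (.node (.leaf (nat_lit 31811704131)) (.leaf
  (nat_lit 32315082051)))))))) (.node (.node (.node (.node (.node (.node (.leaf (nat_lit
  18579222786)) (.node (.node (.leaf (nat_lit 309880131)) (.leaf (nat_lit 22356124176))) (.leaf
  0))) (.leaf (nat_lit 4840711476))) (.node (.leaf (nat_lit 8610142311)) (.node (.leaf (nat_lit
  4838622036)) (.leaf (nat_lit 14295369606))))) (.node (.leaf 0) (.node (.leaf 0) (.node (.leaf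
  (nat_lit 36339524931)) (.leaf (nat_lit 8866137411)))))) (.node (.node (.leaf (nat_lit
  4333979271)) (.node (.node (.leaf 0) (.node (.leaf (nat_lit 22348433031)) (.leaf (nat_lit
  18579223056)))) (.node (.leaf (nat_lit 4332013176)) (.leaf (nat_lit 22599968616))))) (.node
  (.node (.node (.leaf 0) (.node (.node (.leaf (nat_lit 14051340306)) (.leaf (nat_lit 8613557061)))
  (.leaf 0))) (.node (.leaf (nat_lit 36339586131)) (.leaf (nat_lit 22347388806)))) (.node (.leaf
  (nat_lit 8614478931)) (.leaf (nat_lit 18579161106)))))) (.node (.node (.node (.node (.leaf
  (nat_lit 28035908436)) (.leaf (nat_lit 18574542456))) (.node (.leaf (nat_lit 22607782176)) (.leaf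
  (nat_lit 4835330166)))) (.node (.node (.leaf (nat_lit 14050296336)) (.node (.node (.leaf (nat_lit
  14302076961)) (.leaf (nat_lit 18070120566))) (.leaf (nat_lit 4334040966)))) (.node (.leaf
  (nat_lit 305420166)) (.leaf (nat_lit 32315020101))))) (.node (.node (.node (.leaf (nat_lit
  22354035201)) (.leaf (nat_lit 310863156))) (.node (.node (.node (.node (.leaf (nat_lit
  18581189121)) (.leaf (nat_lit 309757011))) (.leaf 0)) (.leaf 0)) (.node (.node (.node (.leaf
  (nat_lit 308774211)) (.leaf (nat_lit 14050296066))) (.leaf 0)) (.leaf (nat_lit 36340507461)))))
  (.node (.node (.node (.leaf (nat_lit 8861800296)) (.leaf (nat_lit 562459461))) (.node (.leaf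
  (nat_lit 4336288596)) (.leaf (nat_lit 31811703861)))) (.leaf 0)))))) (.node (.node (.node (.node
  (.node (.leaf (nat_lit 18071226216)) (.node (.leaf (nat_lit 22601074806)) (.leaf (nat_lit
  306525816)))) (.node (.node (.leaf (nat_lit 18574542726)) (.node (.leaf (nat_lit 28034803011))
  (.leaf (nat_lit 36087927636)))) (.node (.node (.leaf (nat_lit 31809676116)) (.leaf (nat_lit
  31815057921))) (.leaf (nat_lit 18077933856))))) (.node (.node (.leaf (nat_lit 559105896)) (.leaf
  (nat_lit 14296352886))) (.node (.node (.leaf (nat_lit 8613495636)) (.leaf (nat_lit 18579161376)))
  (.leaf (nat_lit 4839605556))))) (.node (.node (.node (.node (.leaf 0) (.node (.leaf (nat_lit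
  36343984641)) (.leaf (nat_lit 14049313281)))) (.leaf 0)) (.node (.node (.node (.node (.node
  (.leaf (nat_lit 8611125366)) (.leaf (nat_lit 22601074311))) (.leaf 0)) (.leaf (nat_lit
  557139846))) (.leaf (nat_lit 8861800071))) (.node (.node (.node (.node (.leaf (nat_lit
  14296352616)) (.leaf (nat_lit 4333979496))) (.leaf 0)) (.leaf 0)) (.leaf 0)))) (.node (.node
  (.leaf (nat_lit 8615584581)) (.node (.leaf (nat_lit 8614602051)) (.leaf (nat_lit 22354034706))))
  (.node (.node (.node (.node (.node (.leaf (nat_lit 32318374416)) (.leaf (nat_lit 8867243061)))
  (.leaf 0)) (.leaf (nat_lit 28036830531))) (.leaf (nat_lit 18076828161))) (.node (.node (.leaf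
  (nat_lit 560493621)) (.leaf (nat_lit 36341552181))) (.leaf 0)))))) (.node (.node (.node (.node
  (.node (.leaf (nat_lit 8615584851)) (.leaf (nat_lit 18581250576))) (.node (.node (.node (.leaf
  (nat_lit 36088972101)) (.leaf (nat_lit 14294263911))) (.leaf (nat_lit 8615523156))) (.node (.node
  (.leaf (nat_lit 32315081556)) (.leaf (nat_lit 18580267296))) (.leaf 0)))) (.node (.node (.node
  (.leaf (nat_lit 305481351)) (.leaf (nat_lit 8610203271))) (.leaf (nat_lit 557078646))) (.node
  (.node (.leaf (nat_lit 4335367221)) (.leaf (nat_lit 28034802741))) (.node (.node (.leaf (nat_lit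
  28039139856)) (.leaf (nat_lit 4335305811))) (.leaf 0))))) (.node (.node (.node (.leaf (nat_lit
  14294325366)) (.leaf (nat_lit 8863828086))) (.node (.node (.leaf (nat_lit 18069198471)) (.leaf
  (nat_lit 4333057671))) (.node (.leaf (nat_lit 307508871)) (.node (.leaf (nat_lit 18581250081))
  (.leaf (nat_lit 14042605191)))))) (.node (.node (.node (.leaf (nat_lit 14042666616)) (.node
  (.leaf (nat_lit 28040183826)) (.leaf (nat_lit 28036891731)))) (.leaf (nat_lit 22605754881)))
  (.leaf (nat_lit 14303059986))))) (.node (.node (.node (.node (.leaf (nat_lit 22349416551)) (.leaf
  (nat_lit 31810782531))) (.node (.leaf (nat_lit 4837357191)) (.leaf (nat_lit 14301954336))))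
  (.node (.node (.leaf (nat_lit 8862783366)) (.node (.node (.leaf (nat_lit 14044632936)) (.leaf
  (nat_lit 14049374241))) (.leaf (nat_lit 22355018256)))) (.node (.node (.node (.leaf (nat_lit
  27787481601)) (.leaf (nat_lit 8613496131))) (.node (.leaf (nat_lit 18071165031)) (.leaf (nat_lit
  27784250676)))) (.leaf 0)))) (.node (.node (.node (.leaf (nat_lit 22349416056)) (.node (.node
  (.leaf (nat_lit 36089955381)) (.leaf (nat_lit 18581188896))) (.leaf 0))) (.node (.node (.node
  (.leaf (nat_lit 31814135826)) (.leaf (nat_lit 28034863941))) (.node (.leaf (nat_lit 18573436806))
  (.leaf (nat_lit 14049374736)))) (.leaf (nat_lit 4839605061)))) (.node (.node (.node (.leaf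
  (nat_lit 18070120296)) (.leaf (nat_lit 560493891))) (.node (.leaf (nat_lit 557078151)) (.leaf
  (nat_lit 561538131)))) (.node (.leaf (nat_lit 8863827816)) (.leaf (nat_lit 4836251271)))))))))
  (.node (.node (.node (.node (.node (.node (.node (.node (.leaf (nat_lit 36089893701)) (.leaf
  (nat_lit 32317329426))) (.leaf (nat_lit 14051402256))) (.node (.node (.node (.leaf (nat_lit
  4332935046)) (.leaf (nat_lit 14296291206))) (.leaf (nat_lit 14042605686))) (.leaf 0))) (.leaf 0))
  (.node (.node (.node (.leaf (nat_lit 27786498306)) (.leaf (nat_lit 8865154131))) (.node (.node
  (.leaf (nat_lit 28038218256)) (.node (.node (.leaf (nat_lit 32317452546)) (.leaf (nat_lit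
  4335367491))) (.leaf 0))) (.node (.node (.node (.leaf (nat_lit 22599968886)) (.leaf (nat_lit
  8611125096))) (.leaf (nat_lit 18077933586))) (.leaf 0)))) (.node (.node (.node (.node (.node
  (.leaf (nat_lit 14302998561)) (.leaf (nat_lit 18580144656))) (.leaf 0)) (.leaf (nat_lit
  28040184096))) (.leaf (nat_lit 305419896))) (.node (.leaf (nat_lit 27784127316)) (.node (.leaf
  (nat_lit 18070243431)) (.leaf (nat_lit 14300971266))))))) (.node (.node (.leaf (nat_lit
  4840649556)) (.node (.node (.node (.leaf (nat_lit 32316346896)) (.leaf (nat_lit 27788587296)))
  (.leaf 0)) (.node (.node (.node (.node (.leaf (nat_lit 14043711336)) (.leaf (nat_lit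
  4335305541))) (.leaf 0)) (.leaf 0)) (.leaf (nat_lit 36093308946))))) (.node (.node (.node (.node
  (.leaf (nat_lit 14302998786)) (.node (.leaf (nat_lit 4332013671)) (.leaf (nat_lit 22598985606))))
  (.leaf 0)) (.node (.leaf (nat_lit 22354096656)) (.node (.leaf (nat_lit 32315020371)) (.leaf
  (nat_lit 4835268711))))) (.node (.leaf (nat_lit 562459731)) (.node (.leaf (nat_lit 31813091586))
  (.leaf (nat_lit 305481576))))))) (.node (.node (.node (.node (.node (.node (.node (.node (.leaf
  (nat_lit 306526311)) (.leaf (nat_lit 14302077186))) (.leaf 0)) (.leaf (nat_lit 557140071)))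
  (.leaf 0)) (.node (.node (.leaf (nat_lit 14300971041)) (.leaf (nat_lit 559167366))) (.node (.leaf
  (nat_lit 28034864211)) (.leaf (nat_lit 4836374136))))) (.node (.leaf (nat_lit 4331951751)) (.node
  (.leaf (nat_lit 36343861506)) (.leaf (nat_lit 31813029906))))) (.node (.node (.node (.node (.node
  (.leaf (nat_lit 36089893971)) (.leaf (nat_lit 36092326146))) (.node (.node (.leaf (nat_lit
  36091281921)) (.leaf (nat_lit 18573559431))) (.leaf 0))) (.leaf (nat_lit 8865154356))) (.node
  (.node (.leaf (nat_lit 8866136916)) (.leaf (nat_lit 18574481256))) (.node (.leaf (nat_lit
  32316408096)) (.leaf (nat_lit 27784250181))))) (.node (.node (.node (.leaf (nat_lit 28038156306))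
  (.leaf (nat_lit 28039262226))) (.leaf 0)) (.node (.leaf (nat_lit 27785233731)) (.leaf (nat_lit
  309757236)))))) (.node (.node (.node (.node (.leaf (nat_lit 36344905746)) (.leaf (nat_lit
  28039139361))) (.leaf (nat_lit 36344967426))) (.node (.node (.node (.leaf (nat_lit 558061446))
  (.leaf (nat_lit 18077872656))) (.leaf (nat_lit 36088972371))) (.node (.node (.leaf (nat_lit
  557139576)) (.leaf (nat_lit 4336411956))) (.node (.leaf (nat_lit 32315020596)) (.leaf (nat_lit
  32318435616)))))) (.node (.node (.node (.leaf (nat_lit 22607720976)) (.node (.node (.leaf
  (nat_lit 306526086)) (.leaf (nat_lit 22348310631))) (.leaf (nat_lit 28036891956)))) (.node (.leaf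
  (nat_lit 31815057426)) (.node (.node (.node (.leaf (nat_lit 8611247736)) (.leaf (nat_lit
  22605692961))) (.leaf 0)) (.leaf 0)))) (.node (.node (.node (.node (.node (.leaf (nat_lit
  27787481106)) (.leaf (nat_lit 18574481526))) (.leaf 0)) (.node (.node (.leaf (nat_lit
  36093247521)) (.leaf (nat_lit 8865215811))) (.leaf 0))) (.leaf (nat_lit 560431941))) (.node
  (.node (.node (.leaf (nat_lit 18572453511)) (.leaf (nat_lit 28035908931))) (.leaf (nat_lit
  561415491))) (.node (.node (.node (.leaf (nat_lit 306402951)) (.leaf (nat_lit 32317452321)))
  (.leaf 0)) (.leaf (nat_lit 36092203521))))))))) (.node (.node (.node (.node (.node (.node (.node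
  (.leaf (nat_lit 36088849236)) (.leaf (nat_lit 14050295841))) (.leaf (nat_lit 4837295736))) (.node
  (.leaf (nat_lit 8612169606)) (.node (.node (.leaf (nat_lit 14295369831)) (.leaf (nat_lit
  8861861766))) (.leaf (nat_lit 22605693186))))) (.node (.leaf (nat_lit 31814013186)) (.node (.node
  (.leaf (nat_lit 31814136321)) (.leaf (nat_lit 4335306036))) (.leaf (nat_lit 28040245776)))))
  (.node (.node (.node (.node (.leaf (nat_lit 8866260051)) (.leaf (nat_lit 8867181876))) (.node
  (.leaf (nat_lit 32316407826)) (.leaf (nat_lit 32318374146)))) (.node (.leaf (nat_lit 8610203766))
  (.node (.node (.leaf (nat_lit 31809676611)) (.leaf (nat_lit 14042605416))) (.leaf (nat_lit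
  562521141))))) (.node (.node (.leaf (nat_lit 8612169831)) (.leaf (nat_lit 28039262721))) (.node
  (.node (.leaf 0) (.node (.node (.leaf (nat_lit 18069137016)) (.leaf (nat_lit 8614478661))) (.leaf
  0))) (.leaf (nat_lit 27783205941)))))) (.node (.node (.node (.node (.leaf 0) (.node (.leaf
  (nat_lit 36344906241)) (.leaf (nat_lit 36342878721)))) (.leaf (nat_lit 36088849461))) (.node
  (.node (.leaf 0) (.node (.node (.node (.leaf (nat_lit 36093248016)) (.leaf (nat_lit 8867243331)))
  (.leaf 0)) (.leaf 0))) (.node (.node (.node (.leaf (nat_lit 32317452816)) (.leaf (nat_lit
  36087866181))) (.leaf (nat_lit 27788587521))) (.node (.leaf (nat_lit 4337333331)) (.leaf (nat_lit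
  8862783096)))))) (.node (.node (.node (.leaf (nat_lit 36339586356)) (.node (.node (.leaf (nat_lit
  22601012856)) (.leaf (nat_lit 18077872161))) (.node (.leaf (nat_lit 22601013351)) (.leaf (nat_lit
  8863889511))))) (.node (.node (.leaf (nat_lit 307447686)) (.leaf (nat_lit 31811765556))) (.node
  (.leaf (nat_lit 31813030401)) (.leaf (nat_lit 22356123681))))) (.node (.node (.leaf (nat_lit
  561538356)) (.leaf (nat_lit 32316346401))) (.node (.leaf (nat_lit 307509366)) (.node (.leaf
  (nat_lit 4337394516)) (.leaf (nat_lit 36340630356)))))))) (.node (.node (.node (.node (.leaf
  (nat_lit 18076950561)) (.node (.node (.node (.leaf (nat_lit 18574542951)) (.leaf (nat_lit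
  305420391))) (.leaf (nat_lit 31811765331))) (.leaf 0))) (.node (.node (.leaf (nat_lit
  14303060256)) (.node (.leaf (nat_lit 28039139586)) (.leaf (nat_lit 27787604496)))) (.node (.leaf
  0) (.node (.leaf (nat_lit 31813091361)) (.leaf (nat_lit 22349354856)))))) (.node (.node (.node
  (.leaf 0) (.node (.leaf (nat_lit 22600091256)) (.leaf (nat_lit 22347327111)))) (.node (.node
  (.leaf (nat_lit 36087866676)) (.leaf (nat_lit 36091281426))) (.leaf (nat_lit 22355017986))))
  (.leaf (nat_lit 36343861776)))) (.node (.node (.node (.node (.leaf (nat_lit 36342940176)) (.leaf
  (nat_lit 36343984416))) (.node (.leaf (nat_lit 14301032466)) (.leaf (nat_lit 31814012961))))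
  (.node (.node (.leaf (nat_lit 32312992581)) (.node (.leaf (nat_lit 4332013446)) (.leaf (nat_lit
  22607720706)))) (.node (.node (.leaf (nat_lit 31809737541)) (.leaf (nat_lit 22605693456))) (.leaf
  0)))) (.node (.node (.node (.node (.leaf (nat_lit 31810659636)) (.leaf (nat_lit 14043588486)))
  (.leaf 0)) (.leaf 0)) (.node (.node (.leaf 0) (.node (.leaf (nat_lit 22348433526)) (.leaf
  (nat_lit 4337394741)))) (.node (.node (.leaf (nat_lit 27787481376)) (.node (.leaf (nat_lit
  27783144531)) (.leaf (nat_lit 36091220001)))) (.leaf 0))))))))))
/-- Table look-up. -/
noncomputable def ibA (c : ℕ) : ℕ := ibAT.get (Nat.mod c 2797)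

def ffAB : List (ℕ × ℕ) :=
  [(nat_lit 4194304, 2), (nat_lit 8589934592, 3), (nat_lit 73786976294838206464, 6), (nat_lit
  151115727451828646838272, 7), (nat_lit 1298074214633706907132624082305025, 10), (nat_lit
  2658455991569831745807614120560691200, 11), (nat_lit
  22835963083295358096932575511191939774309990400, 14), (nat_lit
  46768052394588893382517914646921092657786860339200, 15)]
theorem ffAC : certChk [(nat_lit 46768052394588894680592129431743727242239593676801, nat_lit 46768052394588894680592129431743727242239593676801)] [] ffAB
    [(0, [nat_lit 309485009821345068724781056]), (0, [nat_lit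
    5444517870735015415413993718908291383296]), (0, [nat_lit 0]), (0, [nat_lit 0]), (0, [nat_lit
    633825300114114700748351602688]), (0, [nat_lit 11150372599265311570767859136324180752990208]),
    (0, [nat_lit 0]), (0, [nat_lit 0]), (0, [nat_lit 2]), (0, [nat_lit 35184372088832]), (0,
    [nat_lit 0]), (0, [nat_lit 0]), (0, [nat_lit 4096]), (0, [nat_lit 72057594037927936]), (0,
    [nat_lit 0]), (0, [nat_lit 0])] = true := by decide +kernel
def cjA : List (ℕ × ℕ) :=
  [(nat_lit 8867243331, nat_lit 35741960001), (nat_lit 22601074806, nat_lit 23660532576), (nat_lit
  8615585076, nat_lit 35743073841), (nat_lit 8867181876, nat_lit 35743012416), (nat_lit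
  22349355126, nat_lit 23660462961), (nat_lit 22349416551, nat_lit 23659480161), (nat_lit
  22601013351, nat_lit 23659418736), (nat_lit 8615523651, nat_lit 35742029616), (nat_lit 562521141,
  nat_lit 31180785201), (nat_lit 4337394516, nat_lit 26616268881), (nat_lit 4840711251, nat_lit
  31178557521), (nat_lit 562459461, nat_lit 30910191696), (nat_lit 14296352616, nat_lit
  23392031616), (nat_lit 22599047016, nat_lit 19096016256), (nat_lit 310862661, nat_lit
  26617382721), (nat_lit 18071225991, nat_lit 23123727216), (nat_lit 14294324871, nat_lit
  18827711856), (nat_lit 18574542726, nat_lit 23390979201), (nat_lit 22599968391, nat_lit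
  14534841456), (nat_lit 22348433031, nat_lit 18827642241), (nat_lit 4337333331, nat_lit
  26885822256), (nat_lit 14296291206, nat_lit 23391114336), (nat_lit 4840649556, nat_lit
  30912353856), (nat_lit 18069198966, nat_lit 19364517216), (nat_lit 14295246966, nat_lit
  15071646816), (nat_lit 18573559926, nat_lit 19364447601), (nat_lit 18572515431, nat_lit
  19366609761), (nat_lit 22598985336, nat_lit 14533727616), (nat_lit 310801461, nat_lit
  26884642896), (nat_lit 14294263911, nat_lit 15070532976), (nat_lit 18574481256, nat_lit
  23392158561), (nat_lit 22347327336, nat_lit 14803272801), (nat_lit 14044694136, nat_lit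
  23122674801), (nat_lit 22347388536, nat_lit 18829804401), (nat_lit 8865215541, nat_lit
  35473655601), (nat_lit 14044632711, nat_lit 23123657601), (nat_lit 18572453511, nat_lit
  14534771841), (nat_lit 14042666886, nat_lit 19098108801), (nat_lit 22348310406, nat_lit
  14802093441), (nat_lit 22600091526, nat_lit 19098243936), (nat_lit 8866136916, nat_lit
  35205154641), (nat_lit 8866260051, nat_lit 35474708016), (nat_lit 560493396, nat_lit
  30912284241), (nat_lit 8613557331, nat_lit 35474572881), (nat_lit 14042605686, nat_lit
  15071577201), (nat_lit 14043588711, nat_lit 15070594401), (nat_lit 18070243431, nat_lit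
  19366548336), (nat_lit 18071164536, nat_lit 23122613376), (nat_lit 8865153861, nat_lit
  35206207056), (nat_lit 561415491, nat_lit 31449089601), (nat_lit 561538356, nat_lit 31446997056),
  (nat_lit 4335367491, nat_lit 27153074241), (nat_lit 308835636, nat_lit 27154188081), (nat_lit
  8614601781, nat_lit 35473528656), (nat_lit 8613495636, nat_lit 35205224256), (nat_lit
  18069137286, nat_lit 14802228576), (nat_lit 560432211, nat_lit 31178692656), (nat_lit 309879636,
  nat_lit 26616338496), (nat_lit 4839728451, nat_lit 31449159216), (nat_lit 308774211, nat_lit
  27153143856), (nat_lit 14295369336, nat_lit 18829742976), (nat_lit 18573436536, nat_lit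
  14533789041), (nat_lit 8614478661, nat_lit 35206268481), (nat_lit 4335306036, nat_lit
  27154126656), (nat_lit 4839605556, nat_lit 31447058481), (nat_lit 18070120296, nat_lit
  14803145856), (nat_lit 14043711336, nat_lit 19096143201), (nat_lit 4838683461, nat_lit
  30910253121), (nat_lit 309757011, nat_lit 26885687121), (nat_lit 4838622261, nat_lit
  31180658256), (nat_lit 4336411461, nat_lit 26617321296), (nat_lit 4336288821, nat_lit
  26884769841)]

attribute [local irreducible] cls inPat mul pw ng pmPat can tbA ibA

variable {G : Type*} [Group G] [Finite G]

open H1 A9K Code PC S3702 in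
theorem range_top {X : Type*} [Group X] [Finite X] {ι : K →* X} (hι : Function.Injective ι)
    (ct : ∀ k : K, Code.enc (k : Equiv.Perm (Fin 9)) ∈
      [0x687354021, 0x876435021, 0x687543102, 0x687435210] → Ctl ι.range (ι k)) :
    ι.range = ⊤ := by
  obtain ⟨m1, m2, m3, -, mx, -⟩ := k_m
  have cx := ct x3 (by rw [enc_x3]; simp)
  obtain ⟨y, hy⟩ := hK.exists_elt (c := 0x876435021) (by decide +kernel)
  have cy := ct y (by rw [hy]; simp)
  have hyJ : y ∈ A9K.J := mem_subgroupOf.mpr ((hJ0.mem_iff _).mpr (by rw [hy]; decide +kernel))
  have hyi : y⁻¹ = y * y := inv_eq_of_mul_eq_one_right (by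
    rw [hK.eq_iff, hK.enc_mul', hK.enc_mul', hy]; decide +kernel)
  have hxi : x3⁻¹ = x3 * x3 := inv_eq_of_mul_eq_one_right (by
    rw [hK.eq_iff, hK.enc_mul', hK.enc_mul', enc_x3]; decide +kernel)
  have c3 := ct (x3 * y) (by rw [hK.enc_mul', enc_x3, hy]; decide +kernel)
  have c4 := ct (x3 * y⁻¹) (by rw [hyi, hK.enc_mul', hK.enc_mul', enc_x3, hy]; decide +kernel)
  rw [map_mul] at c3
  rw [map_mul, map_inv] at c4
  have ne : ∀ {a b : K}, Code.enc (a : Equiv.Perm (Fin 9)) ≠ Code.enc (b : Equiv.Perm (Fin 9)) →
      ι a ≠ ι b := fun h e => h (by rw [hι e])
  have cube : ∀ k : K, k ^ 3 = 1 ↔ mulc 9 (Code.enc (k : Equiv.Perm (Fin 9)))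
      (mulc 9 (Code.enc (k : Equiv.Perm (Fin 9))) (Code.enc (k : Equiv.Perm (Fin 9)))) =
        S3702.one := fun k => by
    rw [hK.eq_iff, pow_succ', sq, hK.enc_mul', hK.enc_mul', ← S3702.enc_one]; rfl
  have hB : Base ι := by
    refine ⟨hι, fun g hg => cx.ctl g (map_le_range _ _
      (conj_mem_of_mem_normalizer hg (mem_map_of_mem ι mx))), fun j hj _ O _ hn hc => ?_⟩
    have hJ : ∀ i ∈ A9K.J, ι i ∈ normalizer (O : Set X) := fun i hi =>
      hn (mem_cent.mpr (abJ ι _ (mem_map_of_mem ι hi) _ (mem_map_of_mem ι hj)))
    have h3 : ∀ o ∈ O, o ^ 3 = 1 → o = 1 := fun o ho h => orderOf_eq_one_iff.mp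
      (Nat.eq_one_of_dvd_coprimes hc (O.orderOf_dvd_natCard ho) (orderOf_dvd_of_pow_eq_one h))
    have hO : O ≤ ι.range := by
      refine le_of_two cx.z3 cy.z3 (abJ ι _ (mem_map_of_mem ι mx) _ (mem_map_of_mem ι hyJ)) ?_ ?_
        (ne (by rw [enc_x3, hy]; decide +kernel)) ?_ (hJ _ mx) (hJ _ hyJ) hc cx.cent cy.cent
        c3.cent c4.cent
      · rw [← map_one ι]; exact ne (by rw [enc_x3]; decide +kernel)
      · rw [← map_one ι]; exact ne (by rw [hy]; decide +kernel)
      · rw [← map_inv, hxi]; exact ne (by rw [hK.enc_mul', enc_x3, hy]; decide +kernel)
    refine eq_bot_iff.mpr fun o ho => h3 o ho ?_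
    obtain ⟨k, rfl⟩ := hO ho
    have h4 : ∀ i ∈ A9K.J, k * i = i * k := fun i hi => hι (by
      have := h3 (ι (k * i * k⁻¹ * i⁻¹)) (by
        simpa [mul_assoc] using mul_mem ho (conj_mem_of_mem_normalizer (hJ i hi) (inv_mem ho)))
        (expJ ι _ (mem_map_of_mem ι (mul_mem (J_conj k hi) (inv_mem hi))))
      simpa [mul_inv_eq_iff_eq_mul, mul_inv_eq_one] using this)
    have h5 := hK.forall_of_all (fun c => !(Nat.beq (mulc 9 c 0x876543021) (mulc 9 0x876543021 c) &&
      Nat.beq (mulc 9 c 0x876354210) (mulc 9 0x876354210 c) &&
      Nat.beq (mulc 9 c 0x687543210) (mulc 9 0x687543210 c)) ||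
      Nat.beq (mulc 9 c (mulc 9 c c)) S3702.one) (by decide +kernel) k
    have a1 := (hK.conj_iff _ _ _).mp (h4 _ m1)
    have a2 := (hK.conj_iff _ _ _).mp (h4 _ m2)
    have a3 := (hK.conj_iff _ _ _).mp (h4 _ m3)
    rw [enc_e1] at a1
    rw [enc_e2] at a2
    rw [enc_e3] at a3
    rw [← map_pow, (cube k).mpr (by simpa [a1, a2, a3] using h5), map_one]
  refine (A9.Base.main hB).resolve_right fun ⟨ψ, hψ⟩ => ?_
  have hJ1 : J0 ≤ A9L.K1 := hJ0.le_of A9L.hK1 (by decide +kernel)
  have a1 : ∀ j : K, j ∈ A9K.J → ∃ h, ψ ⟨j, h⟩ = ι j := fun j hj =>
    ⟨A9L.le_alt (hJ1 hj), hψ j ⟨j, hJ1 hj⟩ rfl⟩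
  obtain ⟨p, hp⟩ := ψ.surjective (ι u)
  have a2 : ∀ j : K, j ∈ A9K.J → (p : Equiv.Perm (Fin 9)) * j * (p : Equiv.Perm (Fin 9))⁻¹ =
      (u * j * u⁻¹ : K) := fun j hj => by
    obtain ⟨h1, h2⟩ := a1 j hj
    obtain ⟨h3, h4⟩ := a1 _ (J_conj u hj)
    exact congrArg Subtype.val (ψ.injective (a₁ := p * ⟨j, h1⟩ * p⁻¹) (a₂ := ⟨_, h3⟩) (by
      rw [h4, map_mul, map_mul, map_inv, hp, h2]; simp))
  have hpK : (p : Equiv.Perm (Fin 9)) ∈ K := S9.norm_J ▸ ⟨p.2, mem_normalizer_of_conj_mem
    fun j hj => by rw [a2 ⟨j, le_J hj⟩ hj]; exact J_conj u (j := ⟨j, le_J hj⟩) hj⟩
  have u3 : u ^ 3 = 1 := (cube u).mpr (by rw [enc_u]; decide +kernel)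
  have h5 := hK.forall_of_all (fun c => !Nat.beq (mulc 9 c (mulc 9 c c)) S3702.one ||
    Nat.beq (mulc 9 c 0x876543021) (mulc 9 0x876543021 c) || force (lkp cjA c) fun q =>
      okB 9 q && Nat.beq (PC.invs 9 q % 2) 0 && Nat.beq (mulc 9 q 0x687354021) (mulc 9 c q))
    (by decide +kernel) ⟨p, hpK⟩
  have h6 : (⟨p, hpK⟩ : K) ^ 3 = 1 := Subtype.ext (congrArg (fun a : A9.A9 => (a : Equiv.Perm (Fin 9)))
    (ψ.injective (a₁ := p ^ 3) (a₂ := 1) (by rw [map_pow, hp, ← map_pow, u3, map_one, map_one])))
  have h7 : ¬ (⟨p, hpK⟩ : K) * e1 = e1 * ⟨p, hpK⟩ := fun h => by
    have h8 : e1 = u * e1 * u⁻¹ := Subtype.ext (by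
      rw [← a2 e1 m1]; exact (conj_eq_iff.mpr (congrArg Subtype.val h)).symm)
    rw [eq_comm, conj_eq_iff, hK.conj_iff, enc_u, enc_e1] at h8
    exact absurd h8 (by decide +kernel)
  rw [cube] at h6
  rw [hK.conj_iff, enc_e1] at h7
  simp only [force_eq, Bool.or_eq_true, Bool.and_eq_true, Bool.not_eq_true', ← Bool.not_eq_true,
    Nat.beq_eq] at h5 h7
  obtain ⟨⟨q1, q2⟩, q3⟩ := h5.resolve_left (not_or.mpr ⟨not_not.mpr h6, h7⟩)
  obtain ⟨h8, h9'⟩ := a1 x3 mx
  let q : A9.A9 := ⟨_, dec_mem_alt h9 q1 q2⟩
  have h10 : ψ q * ι x3 * (ψ q)⁻¹ = ι u := by
    rw [← h9', ← hp, ← map_inv, ← map_mul, ← map_mul, conj_eq_iff.mpr]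
    refine Subtype.ext (Code.enc_injective h9 ?_)
    rw [Subgroup.coe_mul, Subgroup.coe_mul, Code.enc_mul h9, Code.enc_mul h9, enc_dec h9 q1, enc_x3]
    exact q3
  obtain ⟨k, hk⟩ := cx.ctl (ψ q) ⟨u, h10.symm⟩
  have h11 : u ∈ A9K.J := hι (show ι (k * x3 * k⁻¹) = ι u by simp [hk, h10]) ▸ J_conj k mx
  rw [mem_subgroupOf, hJ0.mem_iff, enc_u] at h11
  exact absurd h11 (by decide +kernel)

namespace Emb

variable {φ : M true →* G} (e : Emb φ) (c : Ctl φ.range (φ z0))
include e c

theorem ctl1 {A : M true} (hA : A ∈ Pat true mkS) (hk : cls (cd A) = 0 ∨ cls (cd A) = 1) :
    Ctl φ.range (φ A) := by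
  refine hk.elim (e.ctl0 c hA) fun hk => ?_
  obtain ⟨g, hg⟩ := cls_conj hA hk (by norm_num)
  have := c.conj (h := (φ (el true k1c * g))⁻¹) (inv_mem ⟨_, rfl⟩)
  rw [← k1_spec, show c0 = rep 1 from rfl, ← hg] at this
  simpa [mul_assoc] using this

theorem cent_fA : centralizer {φ f0} ≤ φ.range := by
  have hZc : ∀ g ∈ centralizer {φ f0}, ∀ ζ ∈ zpowers (φ f0), g * ζ = ζ * g :=
    fun g hg _ ⟨k, hk⟩ => hk ▸ (Commute.zpow_right (mem_cent.mp hg) k).eq
  have := normal_subgroupOf (le_normalizer_of_cent hZc)
  let π := QuotientGroup.mk' ((zpowers (φ f0)).subgroupOf (centralizer {φ f0}))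
  have hk : ∀ g, π g = 1 ↔ (g : G) ∈ zpowers (φ f0) := fun g => QuotientGroup.eq_one_iff g
  obtain ⟨ι, hι, hr, ht⟩ := e.exists_iota π hk S3702.hSK S3702.hK tbA ibA S3702.enc_one
    (by decide +kernel) (by decide +kernel) (by decide +kernel) fun A h =>
      int1 ffAC (P := fun a => force (can a) (fun d => force (ibA d) fun c =>
        band (memL S3702.L c) (Nat.beq d (can (tbA c))))) (by decide +kernel) cds2.1 cds2.1 h
        (by simp)
  have h := range_top hι fun k hk' => by
    obtain ⟨A, hA, hAf, hAk⟩ := ht k
    have h1 := allL_iff.mp (show allL (fun c => force (tbA c) fun d => band (inPat mkS d)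
      (bor (Nat.beq (cls d) 0) (Nat.beq (cls d) 1)))
      [0x687354021, 0x876435021, 0x687543102, 0x687435210] = true by decide +kernel) _ hk'
    simp only [force_eq, band_eq_true, bor_eq_true, Nat.beq_eq, ← hA] at h1
    have h2 := e.ctl1 c (memS h1.1) h1.2
    have hAc : φ A ∈ centralizer {φ f0} := mem_cent.mpr (by rw [← map_mul, hAf, map_mul])
    refine ⟨⟨k, rfl⟩, by
      rw [hAk hAc, ← map_pow, hk]; show φ A ^ 3 ∈ _; rw [h2.z3]; exact one_mem _, fun x hx => ?_⟩
    obtain ⟨g, rfl⟩ := QuotientGroup.mk'_surjective _ x
    rw [hAk hAc] at hx
    exact (hr g).mpr (h2.ctl g ((hr (g * ⟨_, hAc⟩ * g⁻¹)).mp (by rwa [map_mul, map_mul, map_inv])))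
  exact fun g hg => (hr ⟨g, hg⟩).mp (h ▸ mem_top _)

theorem cent_repA (k : ℕ) (h : k < 6) : centralizer {φ (rep k)} ≤ φ.range := by
  interval_cases k
  · exact c.cent
  · exact (e.ctl1 c (A := c0) (memS (by simp only [cds]; decide +kernel))
      (Or.inr (by simp only [cds]; decide +kernel))).cent
  · exact e.cent_fA c
  · have := e.twist.cent_fA (twist_ctl c)
    rwa [range_twist, MonoidHom.comp_apply, dels.2.2.2] at this
  · exact e.cent_e c
  · exact cent_conj (h := φ (el true k2c)) ⟨_, rfl⟩ (by
      simpa [← k2_spec, show (rep 5 : M true) = v0 from rfl] using e.cent_e c)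

omit c in
/-- **Strong `3`-embedding.** -/
theorem strongA (x : G) (hx : x ∈ φ.range) (h1 : x ≠ 1) (h3 : x ^ 3 = 1) : Ctl φ.range x :=
  have c := e.ctl (by simp)
  e.strong c (e.cent_repA c) hx h1 h3

end Emb

end Cfsg.Agent.L0.L43
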