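import Cfsg.Agent.L0.L43Ctl
import Cfsg.Agent.L0.HomCode
import Cfsg.Agent.L0.CharTab
import Cfsg.Agent.L0.CharCode

/-!
# A strongly `3`-embedded subgroup of order `162`
-/

set_option autoImplicit false
set_option maxRecDepth 100000

namespace Cfsg.Agent.L0.L43.N9

open Cfsg.Agent.L0 Cfsg.Agent.L0.Gram Cfsg.Agent.L0.Code Cfsg.Agent.H3 Equiv Cfsg.Agent.H1.T3
open scoped ComplexConjugate

def one9 : ℕ := nat_lit 36344967696
def gs9 : List ℕ :=
  [nat_lit 36344967201, nat_lit 8867243331, nat_lit 32314098771]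
def L9 : List ℕ :=
  [nat_lit 36344967696, nat_lit 36344967201, nat_lit 8867243331, nat_lit 32314098771, nat_lit
  36344967426, nat_lit 8867242836, nat_lit 32314098501, nat_lit 562521411, nat_lit 22601074806,
  nat_lit 18580267296, nat_lit 32315020371, nat_lit 4836374406, nat_lit 8867243061, nat_lit
  32314098996, nat_lit 562520916, nat_lit 22601074311, nat_lit 18580267026, nat_lit 32315020101,
  nat_lit 4836374136, nat_lit 4337395011, nat_lit 14296352886, nat_lit 14050418976, nat_lit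
  22599047286, nat_lit 18580267521, nat_lit 32312992851, nat_lit 4837296006, nat_lit 36343861776,
  nat_lit 8611248006, nat_lit 562521141, nat_lit 22601074536, nat_lit 32315020596, nat_lit
  4836374631, nat_lit 4337394516, nat_lit 14296352391, nat_lit 14050418706, nat_lit 22599046791,
  nat_lit 32312992581, nat_lit 4837295736, nat_lit 36343861281, nat_lit 8611247736, nat_lit
  18071226486, nat_lit 22355140896, nat_lit 14294325366, nat_lit 28040245776, nat_lit 306526086,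
  nat_lit 14050419201, nat_lit 27784250451, nat_lit 22599968886, nat_lit 36342940176, nat_lit
  4835268486, nat_lit 8612169606, nat_lit 18581188896, nat_lit 8866137411, nat_lit 4337394741,
  nat_lit 14296352616, nat_lit 22599047016, nat_lit 32312993076, nat_lit 4837296231, nat_lit
  36343861506, nat_lit 8611248231, nat_lit 18071225991, nat_lit 22355140626, nat_lit 14294324871,
  nat_lit 28040245281, nat_lit 306525816, nat_lit 27784250181, nat_lit 22599968391, nat_lit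
  36342939681, nat_lit 4835268216, nat_lit 8612169336, nat_lit 18581188626, nat_lit 8866136916,
  nat_lit 18069198966, nat_lit 31815119376, nat_lit 22355141121, nat_lit 36088972371, nat_lit
  14295246966, nat_lit 28038218256, nat_lit 305420166, nat_lit 27784250676, nat_lit 27785172051,
  nat_lit 8865215811, nat_lit 8610142086, nat_lit 18579161376, nat_lit 307447686, nat_lit
  22356062496, nat_lit 18070120566, nat_lit 18581189121, nat_lit 561415491, nat_lit 18071226216,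
  nat_lit 14294325096, nat_lit 28040245506, nat_lit 306526311, nat_lit 22599968616, nat_lit
  36342939906, nat_lit 4835268711, nat_lit 8612169831, nat_lit 8866137141, nat_lit 18069198471,
  nat_lit 31815118881, nat_lit 36088972101, nat_lit 14295246471, nat_lit 28038217761, nat_lit
  305419896, nat_lit 27785171781, nat_lit 8865215316, nat_lit 8610141816, nat_lit 18579161106,
  nat_lit 307447416, nat_lit 22356062226, nat_lit 18070120071, nat_lit 561414996, nat_lit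
  31813091856, nat_lit 36088972596, nat_lit 36089893971, nat_lit 28039139856, nat_lit 560493891,
  nat_lit 27783144531, nat_lit 14049313056, nat_lit 27785172276, nat_lit 22354034976, nat_lit
  18579161601, nat_lit 14051340576, nat_lit 22356062721, nat_lit 4336289091, nat_lit 31814013456,
  nat_lit 18069198696, nat_lit 31815119106, nat_lit 14295246696, nat_lit 28038217986, nat_lit
  305420391, nat_lit 8865215541, nat_lit 8610142311, nat_lit 307447911, nat_lit 18070120296,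
  nat_lit 561415221, nat_lit 31813091361, nat_lit 36089893701, nat_lit 28039139361, nat_lit
  560493396, nat_lit 27783144261, nat_lit 14049312786, nat_lit 22354034706, nat_lit 14051340306,
  nat_lit 4336288596, nat_lit 31814012961, nat_lit 4335367491, nat_lit 36087866451, nat_lit
  36089894196, nat_lit 14049313281, nat_lit 27783144756, nat_lit 28039139586, nat_lit 22354035201,
  nat_lit 14051340801, nat_lit 4336288821, nat_lit 31813091586, nat_lit 560493621, nat_lit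
  31814013186, nat_lit 4335366996, nat_lit 36087866181, nat_lit 36087866676, nat_lit 4335367221]
def ws9 : List (List ℕ) :=
  [[], [0], [1], [2], [0, 0], [1, 0], [2, 0], [0, 1], [1, 1], [2, 1], [0, 2], [1, 2], [1, 0, 0],
  [2, 0, 0], [0, 1, 0], [1, 1, 0], [2, 1, 0], [0, 2, 0], [1, 2, 0], [0, 0, 1], [1, 0, 1], [2, 0,
  1], [0, 1, 1], [0, 2, 1], [0, 0, 2], [1, 0, 2], [2, 0, 2], [0, 1, 2], [0, 1, 0, 0], [1, 1, 0, 0],
  [0, 2, 0, 0], [1, 2, 0, 0], [0, 0, 1, 0], [1, 0, 1, 0], [2, 0, 1, 0], [0, 1, 1, 0], [0, 0, 2, 0],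
  [1, 0, 2, 0], [2, 0, 2, 0], [0, 1, 2, 0], [1, 0, 0, 1], [2, 0, 0, 1], [0, 1, 0, 1], [1, 1, 0, 1],
  [2, 1, 0, 1], [0, 2, 0, 1], [1, 2, 0, 1], [0, 0, 1, 1], [1, 0, 1, 1], [2, 0, 1, 1], [0, 1, 0, 2],
  [1, 1, 0, 2], [1, 2, 0, 2], [0, 0, 1, 0, 0], [1, 0, 1, 0, 0], [0, 1, 1, 0, 0], [0, 0, 2, 0, 0],
  [1, 0, 2, 0, 0], [2, 0, 2, 0, 0], [0, 1, 2, 0, 0], [1, 0, 0, 1, 0], [2, 0, 0, 1, 0], [0, 1, 0, 1,
  0], [1, 1, 0, 1, 0], [2, 1, 0, 1, 0], [1, 2, 0, 1, 0], [0, 0, 1, 1, 0], [1, 0, 1, 1, 0], [2, 0,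
  1, 1, 0], [0, 1, 0, 2, 0], [1, 1, 0, 2, 0], [1, 2, 0, 2, 0], [0, 1, 0, 0, 1], [1, 1, 0, 0, 1],
  [0, 2, 0, 0, 1], [1, 2, 0, 0, 1], [0, 0, 1, 0, 1], [1, 0, 1, 0, 1], [2, 0, 1, 0, 1], [1, 0, 2, 0,
  1], [0, 1, 2, 0, 1], [1, 1, 0, 1, 1], [0, 2, 0, 1, 1], [1, 2, 0, 1, 1], [0, 0, 1, 0, 2], [1, 0,
  1, 0, 2], [2, 0, 1, 0, 2], [0, 1, 1, 0, 2], [0, 1, 2, 0, 2], [1, 0, 0, 1, 0, 0], [0, 1, 0, 1, 0,
  0], [1, 1, 0, 1, 0, 0], [2, 1, 0, 1, 0, 0], [0, 0, 1, 1, 0, 0], [1, 0, 1, 1, 0, 0], [2, 0, 1, 1,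
  0, 0], [0, 1, 0, 2, 0, 0], [1, 2, 0, 2, 0, 0], [0, 1, 0, 0, 1, 0], [1, 1, 0, 0, 1, 0], [1, 2, 0,
  0, 1, 0], [0, 0, 1, 0, 1, 0], [1, 0, 1, 0, 1, 0], [2, 0, 1, 0, 1, 0], [0, 1, 2, 0, 1, 0], [1, 1,
  0, 1, 1, 0], [0, 2, 0, 1, 1, 0], [1, 2, 0, 1, 1, 0], [0, 0, 1, 0, 2, 0], [1, 0, 1, 0, 2, 0], [2,
  0, 1, 0, 2, 0], [0, 1, 2, 0, 2, 0], [1, 0, 1, 0, 0, 1], [1, 0, 2, 0, 0, 1], [0, 1, 2, 0, 0, 1],
  [1, 0, 0, 1, 0, 1], [1, 1, 0, 1, 0, 1], [2, 1, 0, 1, 0, 1], [1, 2, 0, 1, 0, 1], [0, 1, 0, 2, 0,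
  1], [1, 0, 2, 0, 1, 1], [0, 1, 2, 0, 1, 1], [1, 0, 0, 1, 0, 2], [0, 1, 0, 1, 0, 2], [2, 1, 0, 1,
  0, 2], [1, 2, 0, 1, 0, 2], [0, 1, 0, 0, 1, 0, 0], [1, 1, 0, 0, 1, 0, 0], [0, 0, 1, 0, 1, 0, 0],
  [1, 0, 1, 0, 1, 0, 0], [2, 0, 1, 0, 1, 0, 0], [1, 1, 0, 1, 1, 0, 0], [0, 2, 0, 1, 1, 0, 0], [0,
  0, 1, 0, 2, 0, 0], [2, 0, 1, 0, 2, 0, 0], [0, 1, 2, 0, 2, 0, 0], [1, 0, 1, 0, 0, 1, 0], [0, 1, 2,
  0, 0, 1, 0], [1, 0, 0, 1, 0, 1, 0], [1, 1, 0, 1, 0, 1, 0], [2, 1, 0, 1, 0, 1, 0], [1, 2, 0, 1, 0,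
  1, 0], [1, 0, 2, 0, 1, 1, 0], [1, 0, 0, 1, 0, 2, 0], [2, 1, 0, 1, 0, 2, 0], [1, 2, 0, 1, 0, 2,
  0], [1, 1, 0, 1, 0, 0, 1], [2, 1, 0, 1, 0, 0, 1], [0, 1, 0, 2, 0, 0, 1], [0, 1, 2, 0, 1, 0, 1],
  [0, 0, 1, 0, 2, 0, 1], [2, 0, 1, 0, 2, 0, 1], [0, 1, 0, 2, 0, 1, 1], [0, 1, 0, 0, 1, 0, 2], [2,
  0, 1, 0, 1, 0, 2], [1, 0, 1, 0, 0, 1, 0, 0], [1, 1, 0, 1, 0, 1, 0, 0], [1, 2, 0, 1, 0, 2, 0, 0],
  [1, 1, 0, 1, 0, 0, 1, 0], [2, 1, 0, 1, 0, 0, 1, 0], [0, 0, 1, 0, 2, 0, 0, 1], [2, 0, 1, 0, 2, 0,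
  1, 1]]
def gW9 : List ℕ :=
  [nat_lit 36344967201, nat_lit 8867243331]
def LW9 : List ℕ :=
  [nat_lit 36344967696, nat_lit 36344967201, nat_lit 8867243331, nat_lit 36344967426, nat_lit
  8867242836, nat_lit 562521411, nat_lit 22601074806, nat_lit 8867243061, nat_lit 562520916,
  nat_lit 22601074311, nat_lit 4337395011, nat_lit 14296352886, nat_lit 22599047286, nat_lit
  562521141, nat_lit 22601074536, nat_lit 4337394516, nat_lit 14296352391, nat_lit 22599046791,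
  nat_lit 18071226486, nat_lit 14294325366, nat_lit 28040245776, nat_lit 22599968886, nat_lit
  36342940176, nat_lit 4337394741, nat_lit 14296352616, nat_lit 22599047016, nat_lit 18071225991,
  nat_lit 14294324871, nat_lit 28040245281, nat_lit 22599968391, nat_lit 36342939681, nat_lit
  18069198966, nat_lit 31815119376, nat_lit 14295246966, nat_lit 28038218256, nat_lit 36343861776,
  nat_lit 8865215811, nat_lit 18071226216, nat_lit 14294325096, nat_lit 28040245506, nat_lit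
  22599968616, nat_lit 36342939906, nat_lit 18069198471, nat_lit 31815118881, nat_lit 14295246471,
  nat_lit 28038217761, nat_lit 36343861281, nat_lit 8865215316, nat_lit 18070120566, nat_lit
  31813091856, nat_lit 28039139856, nat_lit 560493891, nat_lit 8866137411, nat_lit 18069198696,
  nat_lit 31815119106, nat_lit 14295246696, nat_lit 28038217986, nat_lit 36343861506, nat_lit
  8865215541, nat_lit 18070120071, nat_lit 31813091361, nat_lit 28039139361, nat_lit 560493396,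
  nat_lit 8866136916, nat_lit 31814013456, nat_lit 4335367491, nat_lit 561415491, nat_lit
  18070120296, nat_lit 31813091586, nat_lit 28039139586, nat_lit 560493621, nat_lit 8866137141,
  nat_lit 31814012961, nat_lit 4335366996, nat_lit 561414996, nat_lit 4336289091, nat_lit
  31814013186, nat_lit 4335367221, nat_lit 561415221, nat_lit 4336288596, nat_lit 4336288821]
def wW9 : List (List ℕ) :=
  [[], [0], [1], [0, 0], [1, 0], [0, 1], [1, 1], [1, 0, 0], [0, 1, 0], [1, 1, 0], [0, 0, 1], [1, 0,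
  1], [0, 1, 1], [0, 1, 0, 0], [1, 1, 0, 0], [0, 0, 1, 0], [1, 0, 1, 0], [0, 1, 1, 0], [1, 0, 0,
  1], [0, 1, 0, 1], [1, 1, 0, 1], [0, 0, 1, 1], [1, 0, 1, 1], [0, 0, 1, 0, 0], [1, 0, 1, 0, 0], [0,
  1, 1, 0, 0], [1, 0, 0, 1, 0], [0, 1, 0, 1, 0], [1, 1, 0, 1, 0], [0, 0, 1, 1, 0], [1, 0, 1, 1, 0],
  [0, 1, 0, 0, 1], [1, 1, 0, 0, 1], [0, 0, 1, 0, 1], [1, 0, 1, 0, 1], [1, 0, 0, 1, 1], [1, 1, 0, 1,
  1], [1, 0, 0, 1, 0, 0], [0, 1, 0, 1, 0, 0], [1, 1, 0, 1, 0, 0], [0, 0, 1, 1, 0, 0], [1, 0, 1, 1,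
  0, 0], [0, 1, 0, 0, 1, 0], [1, 1, 0, 0, 1, 0], [0, 0, 1, 0, 1, 0], [1, 0, 1, 0, 1, 0], [1, 0, 0,
  1, 1, 0], [1, 1, 0, 1, 1, 0], [0, 0, 1, 0, 0, 1], [1, 0, 1, 0, 0, 1], [1, 0, 0, 1, 0, 1], [1, 1,
  0, 1, 0, 1], [1, 1, 0, 0, 1, 1], [0, 1, 0, 0, 1, 0, 0], [1, 1, 0, 0, 1, 0, 0], [0, 0, 1, 0, 1, 0,
  0], [1, 0, 1, 0, 1, 0, 0], [1, 0, 0, 1, 1, 0, 0], [1, 1, 0, 1, 1, 0, 0], [0, 0, 1, 0, 0, 1, 0],
  [1, 0, 1, 0, 0, 1, 0], [1, 0, 0, 1, 0, 1, 0], [1, 1, 0, 1, 0, 1, 0], [1, 1, 0, 0, 1, 1, 0], [1,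
  0, 0, 1, 0, 0, 1], [1, 1, 0, 1, 0, 0, 1], [1, 1, 0, 0, 1, 0, 1], [0, 0, 1, 0, 0, 1, 0, 0], [1, 0,
  1, 0, 0, 1, 0, 0], [1, 0, 0, 1, 0, 1, 0, 0], [1, 1, 0, 1, 0, 1, 0, 0], [1, 1, 0, 0, 1, 1, 0, 0],
  [1, 0, 0, 1, 0, 0, 1, 0], [1, 1, 0, 1, 0, 0, 1, 0], [1, 1, 0, 0, 1, 0, 1, 0], [1, 1, 0, 0, 1, 0,
  0, 1], [1, 0, 0, 1, 0, 0, 1, 0, 0], [1, 1, 0, 1, 0, 0, 1, 0, 0], [1, 1, 0, 0, 1, 0, 1, 0, 0], [1,
  1, 0, 0, 1, 0, 0, 1, 0], [1, 1, 0, 0, 1, 0, 0, 1, 0, 0]]
def reps9 : List ℕ :=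
  [nat_lit 8867243331, nat_lit 8867242836, nat_lit 8867243061, nat_lit 36344967201, nat_lit
  28040245281, nat_lit 28038217986]
def cent9 : List ℤ := [9, 9, 9, 27, 27, 27]
def P9 : List (List ℤ) := [[0, 27, 27, 9, 9, 9], [-27, 0, 0, 9, 9, 9], [-27, 0, 27, 0, 0, 0], [-27, 27, 0, 0, 0, 0]]
def T9 : List (ℕ × ℕ × ℕ) :=
  [(nat_lit 36344967696, 0, nat_lit 36344967696), (nat_lit 36344967201, 3, nat_lit 36344967696),
  (nat_lit 8867243331, 0, nat_lit 36344967696), (nat_lit 36344967426, 3, nat_lit 18580267296),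
  (nat_lit 8867242836, 1, nat_lit 36344967696), (nat_lit 562521411, 1, nat_lit 8867243331),
  (nat_lit 22601074806, 0, nat_lit 32314098771), (nat_lit 8867243061, 2, nat_lit 36344967696),
  (nat_lit 562520916, 2, nat_lit 36344967426), (nat_lit 22601074311, 2, nat_lit 32314098501),
  (nat_lit 4337395011, 2, nat_lit 36344967201), (nat_lit 14296352886, 2, nat_lit 32315020371),
  (nat_lit 22599047286, 2, nat_lit 32314098771), (nat_lit 562521141, 0, nat_lit 36344967426),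
  (nat_lit 22601074536, 1, nat_lit 18580267296), (nat_lit 4337394516, 0, nat_lit 36344967201),
  (nat_lit 14296352391, 1, nat_lit 32315020101), (nat_lit 22599046791, 1, nat_lit 32314098501),
  (nat_lit 18071226486, 1, nat_lit 4836374406), (nat_lit 14294325366, 1, nat_lit 32315020371),
  (nat_lit 28040245776, 3, nat_lit 8867243331), (nat_lit 22599968886, 1, nat_lit 32314098771),
  (nat_lit 36342940176, 3, nat_lit 22601074806), (nat_lit 4337394741, 1, nat_lit 36344967201),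
  (nat_lit 14296352616, 0, nat_lit 14050418976), (nat_lit 22599047016, 0, nat_lit 32314098996),
  (nat_lit 18071225991, 0, nat_lit 8611248006), (nat_lit 14294324871, 0, nat_lit 32315020101),
  (nat_lit 28040245281, 4, nat_lit 36344967696), (nat_lit 22599968391, 0, nat_lit 32314098501),
  (nat_lit 36342939681, 4, nat_lit 22601074806), (nat_lit 18069198966, 0, nat_lit 32312992851),
  (nat_lit 31815119376, 3, nat_lit 4836374406), (nat_lit 14295246966, 0, nat_lit 32315020371),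
  (nat_lit 28038218256, 4, nat_lit 8867243331), (nat_lit 36343861776, 3, nat_lit 32314098771),
  (nat_lit 8865215811, 1, nat_lit 22601074806), (nat_lit 18071226216, 2, nat_lit 22355140896),
  (nat_lit 14294325096, 2, nat_lit 32315020596), (nat_lit 28040245506, 0, nat_lit 36344967696),
  (nat_lit 22599968616, 2, nat_lit 32314098996), (nat_lit 36342939906, 0, nat_lit 36344967696),
  (nat_lit 18069198471, 2, nat_lit 32312992581), (nat_lit 31815118881, 0, nat_lit 36344967696),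
  (nat_lit 14295246471, 2, nat_lit 32315020101), (nat_lit 28038217761, 0, nat_lit 36344967696),
  (nat_lit 36343861281, 0, nat_lit 36344967696), (nat_lit 8865215316, 2, nat_lit 4337394516),
  (nat_lit 18070120566, 2, nat_lit 32312992851), (nat_lit 31813091856, 0, nat_lit 36344967696),
  (nat_lit 28039139856, 0, nat_lit 36344967696), (nat_lit 560493891, 2, nat_lit 4337395011),
  (nat_lit 8866137411, 2, nat_lit 562521411), (nat_lit 18069198696, 1, nat_lit 4836374631),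
  (nat_lit 31815119106, 4, nat_lit 4836374406), (nat_lit 14295246696, 1, nat_lit 32315020596),
  (nat_lit 28038217986, 5, nat_lit 36344967696), (nat_lit 36343861506, 4, nat_lit 18580267296),
  (nat_lit 8865215541, 0, nat_lit 22599047286), (nat_lit 18070120071, 1, nat_lit 4836374136),
  (nat_lit 31813091361, 5, nat_lit 8867243331), (nat_lit 28039139361, 5, nat_lit 22601074806),
  (nat_lit 560493396, 0, nat_lit 4337394516), (nat_lit 8866136916, 0, nat_lit 562520916), (nat_lit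
  31814013456, 4, nat_lit 32314098771), (nat_lit 4335367491, 0, nat_lit 4337395011), (nat_lit
  561415491, 0, nat_lit 562521411), (nat_lit 18070120296, 0, nat_lit 8611247736), (nat_lit
  31813091586, 5, nat_lit 32314098771), (nat_lit 28039139586, 5, nat_lit 4836374406), (nat_lit
  560493621, 1, nat_lit 22601074536), (nat_lit 8866137141, 1, nat_lit 22599047286), (nat_lit
  31814012961, 5, nat_lit 18580267296), (nat_lit 4335366996, 1, nat_lit 22601074311), (nat_lit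
  561414996, 1, nat_lit 562520916), (nat_lit 4336289091, 1, nat_lit 562521411), (nat_lit
  31814013186, 0, nat_lit 36344967696), (nat_lit 4335367221, 2, nat_lit 4337394741), (nat_lit
  561415221, 2, nat_lit 562521141), (nat_lit 4336288596, 2, nat_lit 562520916), (nat_lit
  4336288821, 0, nat_lit 562521141)]
def U9 : List ℕ :=
  [nat_lit 8867243331, nat_lit 4335367491, nat_lit 561415491, nat_lit 4337394516, nat_lit
  560493396, nat_lit 8866136916, nat_lit 562521141, nat_lit 8865215541, nat_lit 4336288821, nat_lit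
  22601074806, nat_lit 18069198966, nat_lit 14295246966, nat_lit 18071225991, nat_lit 14294324871,
  nat_lit 22599968391, nat_lit 14296352616, nat_lit 22599047016, nat_lit 18070120296]
def Q9 : List (List ℤ) := [[0, 0, 0, 0, 0, 0], [0, 0, 0, 0, 0, 0], [0, 0, 0, 0, 0, 0], [0, 0, 0, 0, 0, 0]]
def gR : List (List ℤ) := [[2, 1, 1, 1], [1, 2, 1, 1], [1, 1, 2, 1], [1, 1, 1, 2]]
def gA1 : List (List ℤ) := [[4, -1, -1, -1], [-1, 4, -1, -1], [-1, -1, 4, -1], [-1, -1, -1, 4]]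
def gY : List (List ℤ) := [[1], [-1, 2], [-1, -1, 3], [-1, -1, -1, 4]]
def gV : List (List ℤ) := [[1, 1, 1, 1], [1, 0, 0, 0], [0, 1, 0, 0], [0, 0, 1, 0], [0, 0, 0, 1]]

/-- `(0 1 2)` -/
abbrev pj : Perm (Fin 9) := Equiv.swap (0 : Fin 9) 1 * Equiv.swap 1 2
/-- `(0 3 6)(1 4 7)(2 5 8)` -/
abbrev ps : Perm (Fin 9) := Equiv.swap (0 : Fin 9) 3 * Equiv.swap 3 6 *
  (Equiv.swap (1 : Fin 9) 4 * Equiv.swap 4 7) * (Equiv.swap (2 : Fin 9) 5 * Equiv.swap 5 8)
/-- `(0 3)(1 5)(2 4)(7 8)` -/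
abbrev pt : Perm (Fin 9) := Equiv.swap (0 : Fin 9) 3 * Equiv.swap 1 5 * Equiv.swap 2 4 *
  Equiv.swap 7 8

abbrev SK : Set (Perm (Fin 9)) := {pj, ps, pt}
abbrev SW : Set (Perm (Fin 9)) := {pj, ps}
abbrev K : Subgroup (Perm (Fin 9)) := Subgroup.closure SK
abbrev W : Subgroup (Perm (Fin 9)) := Subgroup.closure SW

theorem enc_one : enc (1 : Perm (Fin 9)) = one9 := by decide +kernel

theorem hSK : ∀ g ∈ SK, enc g ∈ gs9 := by
  simp only [SK, Set.mem_insert_iff, Set.mem_singleton_iff, forall_eq_or_imp, forall_eq]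
  decide +kernel

theorem hSW : ∀ g ∈ SW, enc g ∈ gW9 := by
  simp only [SW, Set.mem_insert_iff, Set.mem_singleton_iff, forall_eq_or_imp, forall_eq]
  decide +kernel

theorem hK : Lists K L9 :=
  lists_of_words (by norm_num) SK one9 gs9 L9 ws9 enc_one hSK (by
    simp only [SK, Set.mem_insert_iff, Set.mem_singleton_iff, exists_eq_or_imp, exists_eq_left]
    decide +kernel) (by decide +kernel) (by decide +kernel) (by decide +kernel) (by decide +kernel)

theorem hW : Lists W LW9 :=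
  lists_of_words (by norm_num) SW one9 gW9 LW9 wW9 enc_one hSW (by
    simp only [SW, Set.mem_insert_iff, Set.mem_singleton_iff, exists_eq_or_imp, exists_eq_left]
    decide +kernel) (by decide +kernel) (by decide +kernel) (by decide +kernel) (by decide +kernel)

theorem hWK : W ≤ K := Subgroup.closure_mono (by
  intro x hx
  simp only [SW, SK, Set.mem_insert_iff, Set.mem_singleton_iff] at hx ⊢
  tauto)

/-- Exponent function of a linear character of `W`. -/
def ex (a b : ℕ) (m : ℕ) : ℕ := 4 * (a * (appR m 0 + appR m 3 + appR m 6) + b * (appR m 0 / 3)) % 12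

/-- The cube of a code. -/
noncomputable def cube (c : ℕ) : ℕ := mulc 9 c (mulc 9 c c)

theorem enc_cube (k : K) : enc ((k ^ 3 : K) : Perm (Fin 9)) = cube (enc (k : Perm (Fin 9))) := by
  rw [cube, ← hK.enc_mul', ← hK.enc_mul']
  simp [pow_succ, mul_assoc]

theorem cube_iff (k : K) : k ^ 3 = 1 ↔ cube (enc (k : Perm (Fin 9))) = one9 := by
  rw [hK.eq_iff, enc_cube, ← enc_one]
  rfl

theorem nine_iff (k : K) : k ^ 9 = 1 ↔ cube (cube (enc (k : Perm (Fin 9)))) = one9 := by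
  rw [show k ^ 9 = (k ^ 3) ^ 3 from pow_mul k 3 3, cube_iff, enc_cube]

theorem mem_W_iff (k : K) : (k : Perm (Fin 9)) ∈ W ↔ k ^ 9 = 1 := by
  have h1 := hK.forall_of_all (fun c => memb c LW9 == Nat.beq (cube (cube c)) one9)
    (by decide +kernel) k
  rw [hW.mem_iff, nine_iff, ← memb_iff, ← Nat.beq_eq, beq_iff_eq.mp h1]

/-- Generators as elements of `K`. -/
def kj : K := ⟨pj, Subgroup.subset_closure (by simp)⟩
/-- Generators as elements of `K`. -/
def ks : K := ⟨ps, Subgroup.subset_closure (by simp)⟩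
/-- Generators as elements of `K`. -/
def kt : K := ⟨pt, Subgroup.subset_closure (by simp)⟩

theorem exists_lin {G : Type*} [Group G] [Finite G] (ι : K →* G) (hι : Function.Injective ι)
    (hTI : ∀ k : K, k ≠ 1 → k ^ 9 = 1 → ∀ g : G, g * ι k * g⁻¹ ∈ ι.range → g ∈ ι.range) :
    ∃ l : G →* ℂ, (∃ g, l g ≠ 1) ∧ l (ι ks) = 1 := by
  classical
  have := Fintype.ofFinite G
  have := Fintype.ofFinite W
  obtain ⟨r, hr⟩ := exists_reps hK reps9 6 (by decide +kernel)
  have hr9 : ∀ s < 6, r s ^ 9 = 1 := by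
    intro s hs
    rw [nine_iff, hr s hs, ← Nat.beq_eq]
    exact (allLt_iff (fun s => Nat.beq (cube (cube (reps9.getD s 0))) one9) 6).mp
      (by decide +kernel) s hs
  have hr1 : ∀ s < 6, r s ≠ 1 := by
    intro s hs h
    have h1 := hr s hs
    rw [h, OneMemClass.coe_one, enc_one] at h1
    have := (allLt_iff (fun s => !Nat.beq one9 (reps9.getD s 0)) 6).mp (by decide +kernel) s hs
    simp [h1] at this
  have hT : ∀ s < 6, ∀ g : G, g * ι (r s) * g⁻¹ ∈ ι.range → g ∈ ι.range :=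
    fun s hs => hTI _ (hr1 s hs) (hr9 s hs)
  have hx := orth_of_table hK ι hι reps9 6 r hr hT cent9 (by decide +kernel)
  have lam : ∀ a < 2, ∀ b < 3, ∃ l : W →* ℂ, ∀ k, l k = z12 ^ ex a b (enc (k : Perm (Fin 9))) := by
    intro a ha b hb
    refine exists_hom_of_exp (by norm_num) SW gW9 LW9 hSW hW.mem _ 12 z12 z12_pow_twelve ?_ ?_
    · rw [enc_one]; interval_cases a <;> interval_cases b <;> decide +kernel
    · interval_cases a <;> interval_cases b <;> decide +kernel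
  obtain ⟨l0, hl0⟩ := lam 1 (by norm_num) 0 (by norm_num)
  have hint : ∀ (a b i : ℕ), a < 2 → b < 3 →
      allB (fun t : ℕ × ℕ × ℕ => Nat.beq (ex a b t.1 % 12) (ex 1 0 t.1 % 12) ||
      (Nat.blt t.2.1 6 && memb t.2.2 L9 &&
        Nat.beq (mulc 9 t.2.2 t.1) (mulc 9 (reps9.getD t.2.1 0) t.2.2))) T9 = true →
      allLt (fun s => allLt (fun d => 1 * sumB (fun t : ℕ × ℕ × ℕ =>
      Bool.rec 0 (ent2 zt (ex a b t.1 % 12) d - ent2 zt (ex 1 0 t.1 % 12) d)
        (Nat.beq t.2.1 s)) T9 == (if d = 0 then ent (P9.getD i []) s else 0) +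
          ent (Q9.getD i []) s * ent [-1, 0, 1, 0] d) 4) 6 = true →
      ∀ χ, IsIrrCharacter G χ → ∃ c : ℤ,
      ∑ s ∈ Finset.range 6, ((ent2 P9 i s : ℂ) + ent2 Q9 i s * om) * χ (ι (r s)) = (81 : ℤ) * c := by
    intro a b i ha hb h2 h3 χ hχ
    obtain ⟨l, hl⟩ := lam a ha b hb
    obtain ⟨z, hz⟩ := exists_int_of_homs (ι.comp (Subgroup.inclusion hWK)) l l0
      (irr_isCharacter hχ)
    have := lin_comb hK ι reps9 6 r hr hW hWK T9 (by decide +kernel) (ex a b) (ex 1 0) h2 om _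
      om_eq _ _ 1 h3 (char_isClassFunction (irr_isCharacter hχ))
    refine ⟨z, ?_⟩
    simp only [hl, hl0, MonoidHom.comp_apply] at hz
    rw [hz, hW.card_eq, show LW9.length = 81 from by decide +kernel] at this
    simp only [ent2]
    rw [← this]
    simp
  obtain ⟨w, hw, s, hs, hΦ, -⟩ := classify_tables 4 6 (fun s => ι (r s))
    (fun s hs h => hr1 s hs (hι (by rw [h, map_one]))) cent9 hx om (-1) (-1) (-1) (-1) 81
    (by norm_num) om_mul_self conj_om P9 Q9 gR [1, 0, 0, 0] (by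
      intro χ hχ a ha
      interval_cases a
      · exact hint 0 0 0 (by norm_num) (by norm_num) (by decide +kernel) (by decide +kernel) χ hχ
      · exact hint 0 1 1 (by norm_num) (by norm_num) (by decide +kernel) (by decide +kernel) χ hχ
      · exact hint 1 1 2 (by norm_num) (by norm_num) (by decide +kernel) (by decide +kernel) χ hχ
      · exact hint 1 2 3 (by norm_num) (by norm_num) (by decide +kernel) (by decide +kernel) χ hχ)
    (by decide +kernel) (by decide +kernel) gA1 gY [30, 10, 5, 3] 60 gV [gV] 12 (by decide +kernel)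
    (by decide +kernel) (by decide +kernel)
  set cf := cfT 6 81 P9 Q9 om (fun s => ι (r s)) with hcf
  have hL := sum_val_eq 4 6 81 (by norm_num) P9 Q9 om (fun s => ι (r s)) [3, 6, -3, -3]
    [0, 0, 0, 1, 1, 1] (by decide +kernel)
  have hq := sum_val_eq 4 6 81 (by norm_num) P9 Q9 om (fun s => ι (r s)) [1, -1, -1, -1]
    [1, 0, 0, 0, 0, 0] (by decide +kernel)
  simp only [List.mem_singleton] at hw
  subst hw
  simp only [gV, List.forall₂_cons_right_iff, List.forall₂_nil_right_iff] at hs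
  obtain ⟨f0, _, ⟨i0, -, -, c0⟩, ⟨f1, _, ⟨i1, n1, -, c1⟩, ⟨f2, _, ⟨i2, -, -, c2⟩,
    ⟨f3, _, ⟨i3, -, -, c3⟩, ⟨f4, _, ⟨i4, -, -, c4⟩, rfl, rfl⟩, rfl⟩, rfl⟩, rfl⟩, rfl⟩ := hs
  have hone : ∀ a < 4, cf a 1 = ent [1, 0, 0, 0] a := by
    intro a ha
    interval_cases a <;> simp [hcf, cfT, Finset.sum_range_succ, ent2, ent, P9, Q9] <;> ring
  have hdeg : ∀ a < 4, 0 = cf a 1 + (cf a f0 * f0 1 + (cf a f1 * f1 1 + (cf a f2 * f2 1
        + (cf a f3 * f3 1 + cf a f4 * f4 1)))) := by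
    intro a ha
    have := hΦ (fun f => cf a f * f 1) (fun f => by simp [hcf, cfT_neg])
      (fun χ _ _ h => by simp [h a ha])
    rw [sum_cfT_mul 6 81 P9 Q9 om _ a 1 (fun s hs h => hr1 s hs (hι (by simpa [eq_comm] using h)))]
      at this
    simpa using this
  have hr3 : ∀ s, cube (reps9.getD s 0) = one9 → s < 6 → r s ^ 3 = 1 := fun s h hs => by
    rw [cube_iff, hr s hs, h]
  have htr : ∀ j : ℕ, j < 6 → cube (reps9.getD j 0) = one9 →
      ¬ (anyB (fun x => Nat.beq (mulc 9 x (reps9.getD 0 0)) (mulc 9 (reps9.getD j 0) x)) L9 = true) →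
      (U9.map (fun x => cntB (fun y => Nat.beq (mulc 9 (mulc 9 x y) (reps9.getD j 0)) one9) U9)).sum
        = 0 → (Nat.card G : ℂ) * ∑ χ : IrrCharacter G, (χ : G → ℂ) (ι (r 0)) *
        (χ : G → ℂ) (ι (r 0)) * (χ : G → ℂ) (ι (r j)) / (χ : G → ℂ) 1 =
        ((9 * (9 * 0) : ℕ) : ℂ) := by
    intro j hj h3 hnc hm
    have h0 := hr3 0 (by decide +kernel) (by norm_num)
    refine triple_of_table hK ι hι (r 0) (r 0) (r j) _ _ _ one9 (hr 0 (by norm_num))
      (hr 0 (by norm_num)) (hr j hj) enc_one U9 U9 9 9 0 (by decide +kernel) (by decide +kernel)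
      hm (control333 ι hι h0 h0 (hr3 j h3 hj) (hT 0 (by norm_num)) (hT 0 (by norm_num)) (hT j hj)
        (fun t h1 h2 _ => hTI t h1 (by rw [show t ^ 9 = (t ^ 3) ^ 3 from pow_mul t 3 3, h2, one_pow])) ?_)
    rintro ⟨-, x, hx⟩
    rw [hK.conj_iff, hr 0 (by norm_num), hr j hj] at hx
    exact hnc ((anyB_iff _ _).mpr ⟨_, hK.mem _ x.2, hx⟩)
  have t3 := htr 3 (by norm_num) (by decide +kernel) (by decide +kernel) (by decide +kernel)
  have t4 := htr 4 (by norm_num) (by decide +kernel) (by decide +kernel) (by decide +kernel)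
  have t5 := htr 5 (by norm_num) (by decide +kernel) (by decide +kernel) (by decide +kernel)
  have hG : (Nat.card G : ℂ) ≠ 0 := by exact_mod_cast Nat.card_pos.ne'
  simp only [mul_zero, Nat.cast_zero, mul_eq_zero, hG, false_or] at t3 t4 t5
  simp only [Finset.sum_range_succ, Finset.sum_range_zero, ent, List.getD_cons_succ,
    List.getD_cons_zero, Int.cast_zero, Int.cast_one, zero_mul, one_mul, zero_add, add_zero] at hL hq
  have hmain := hΦ (fun f => f (ι (r 0)) * f (ι (r 0)) *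
      (f (ι (r 3)) + f (ι (r 4)) + f (ι (r 5))) / f 1)
    (fun f => by simp only [Pi.neg_apply, ← neg_add, mul_neg, neg_mul, neg_neg, neg_div_neg_eq])
    (fun χ _ _ h => by
      rw [hL χ [0, 0, 0, 0] (fun a ha => by rw [← hcf, h a ha]; interval_cases a <;> simp)]
      simp [dot, sumLt, ent])
  simp only [mul_add, add_div, Finset.sum_add_distrib, t3, t4, t5] at hmain
  simp only [← add_div, ← mul_add, List.map_cons, List.map_nil, List.sum_cons, List.sum_nil,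
    hL f0 _ c0, hL f1 _ c1, hL f2 _ c2, hL f3 _ c3, hL f4 _ c4, hq f0 _ c0, hq f1 _ c1,
    hq f2 _ c2, hq f3 _ c3, hq f4 _ c4] at hmain
  have d0 := hdeg 0 (by norm_num)
  have d1 := hdeg 1 (by norm_num)
  have d2 := hdeg 2 (by norm_num)
  have d3 := hdeg 3 (by norm_num)
  simp [c0, c1, c2, c3, c4, hone, ent] at d0 d1 d2 d3
  obtain ⟨d, hd, hd'⟩ := i0.one_int
  obtain ⟨e, he, he'⟩ := i1.one_int
  have hdc : f0 1 ≠ 0 := by rw [hd']; exact_mod_cast hd
  have hec : f1 1 ≠ 0 := by rw [he']; exact_mod_cast he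
  rw [show f2 1 = -f0 1 by linear_combination -d1, show f3 1 = -f0 1 by linear_combination -d2,
    show f4 1 = -f0 1 by linear_combination -d3] at hmain
  simp [dot, sumLt, ent] at hmain
  field_simp at hmain
  have h1 : f1 1 = 1 := by
    have : (f1 1 - 1) ^ 2 = 0 := by
      rw [show f0 1 = -1 - f1 1 by linear_combination -d0] at hmain
      linear_combination (1 / 3 : ℂ) * hmain
    linear_combination pow_eq_zero_iff two_ne_zero |>.mp this
  obtain ⟨l, hl⟩ := SIrr.exists_hom i1 h1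
  refine ⟨l, ?_, ?_⟩
  · by_contra h
    push Not at h
    exact n1 (funext fun g => by rw [← hl, h]; rfl)
  · rw [show ks = r 0 from (hK.eq_iff _ _).mpr (by rw [hr 0 (by norm_num)]; decide +kernel), hl,
      hq f1 _ c1]
    simp [dot, sumLt, ent]

/-- The subgroup of order `162` cannot be strongly `3`-embedded. -/
theorem ti9 {G : Type*} [Group G] [Finite G] (ι : K →* G) (hι : Function.Injective ι)
    (hTI : ∀ k : K, k ≠ 1 → k ^ 9 = 1 → ∀ g : G, g * ι k * g⁻¹ ∈ ι.range → g ∈ ι.range) :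
    ι.range = ⊤ := by
  obtain ⟨l, ⟨g0, hg0⟩, hs⟩ := exists_lin ι hι hTI
  let l' := l.toHomUnits
  have hl : ∀ g, g ∈ l'.ker ↔ l g = 1 := fun g => by
    rw [MonoidHom.mem_ker, ← Units.val_eq_one]; rfl
  have hj : ι kj ∈ l'.ker := by
    have h1 : kt * kj * kt⁻¹ * (ks * kj * ks⁻¹) = 1 := Subtype.ext (by decide +kernel)
    have h2 : kj ^ 3 = 1 := Subtype.ext (by decide +kernel)
    have h3 := congrArg (l'.comp ι) h1
    have h4 := congrArg (l'.comp ι) h2
    simp only [map_mul, map_inv, map_one, mul_inv_cancel_comm, map_pow] at h3 h4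
    rwa [pow_succ, sq, h3, one_mul] at h4
  have hW' : ∀ k : K, k ^ 9 = 1 → ι k ∈ l'.ker := fun k hk => by
    have h1 : W ≤ (l'.ker.comap ι).map K.subtype := (Subgroup.closure_le _).mpr (by
      rintro _ (rfl | rfl)
      exacts [⟨kj, hj, rfl⟩, ⟨ks, (hl _).mpr hs, rfl⟩])
    obtain ⟨k', h2, h3⟩ := h1 ((mem_W_iff k).mpr hk)
    exact Subtype.ext h3 ▸ h2
  obtain ⟨x, hxe⟩ := hK.exists_elt (c := 0x687354021) (by decide +kernel)
  obtain ⟨y, hye⟩ := hK.exists_elt (c := 0x876435021) (by decide +kernel)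
  have hyi : y⁻¹ = y * y := inv_eq_of_mul_eq_one_right (by
    rw [hK.eq_iff, hK.enc_mul', hK.enc_mul', hye]; decide +kernel)
  have hxi : x⁻¹ = x * x := inv_eq_of_mul_eq_one_right (by
    rw [hK.eq_iff, hK.enc_mul', hK.enc_mul', hxe]; decide +kernel)
  have ct : ∀ k : K, k ≠ 1 → k ^ 3 = 1 → Ctl ι.range (ι k) := fun k h1 h3 =>
    ⟨⟨k, rfl⟩, by rw [← map_pow, h3, map_one],
      hTI k h1 (by rw [show k ^ 9 = (k ^ 3) ^ 3 from pow_mul k 3 3, h3, one_pow])⟩
  have cx := ct x (by rw [Ne, hK.eq_iff, hxe]; decide +kernel) (by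
    rw [cube_iff, hxe]; decide +kernel)
  have hx : ι x ∈ l'.ker := hW' x (by rw [nine_iff, hxe]; decide +kernel)
  have ht : ι kt ∉ l'.ker := fun ht => by
    obtain ⟨n, hn, k, hk⟩ := cx.fr (g := g0) hx ((MonoidHom.normal_ker l').conj_mem _ hx g0)
    have h1 : K ≤ (l'.ker.comap ι).map K.subtype := (Subgroup.closure_le _).mpr (by
      rintro _ (rfl | rfl | rfl)
      exacts [⟨kj, hj, rfl⟩, ⟨ks, (hl _).mpr hs, rfl⟩, ⟨kt, ht, rfl⟩])
    obtain ⟨k', h2, h3⟩ := h1 k.2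
    have h4 : ι k ∈ l'.ker := Subtype.ext h3 ▸ h2
    exact hg0 ((hl _).mp ((l'.ker.mul_mem_cancel_left hn).mp (hk ▸ h4)))
  have hN : l'.ker ≤ ι.range := cx.cent3 hx (by
    rintro _ hk ⟨k, rfl⟩
    have h1 := hK.forall_of_all (fun c => (Nat.beq (cube (cube c)) one9 &&
      Nat.beq (mulc 9 c 0x687354021) (mulc 9 0x687354021 c)) ||
      Nat.beq (cube (cube (mulc 9 c (enc (kt : Perm (Fin 9)))))) one9) (by decide +kernel) k
    rw [← hxe, Bool.or_eq_true, Bool.and_eq_true, ← hK.conj_iff, ← hK.enc_mul', Nat.beq_eq, Nat.beq_eq,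
      ← nine_iff, ← nine_iff] at h1
    rcases h1 with h1 | h1
    · exact ⟨⟨2, by rw [← map_pow, show 3 ^ 2 = 9 from rfl, h1.1, map_one]⟩, by
        rw [← map_mul, h1.2, map_mul]⟩
    · exact absurd ((l'.ker.mul_mem_cancel_left hk).mp (by simpa using hW' _ h1)) ht)
    fun O _ hO hc => by
      have hn : ∀ g, g ∈ Subgroup.normalizer (O : Set G) := fun g =>
        hO (by rw [Subgroup.normalizer_eq_top]; trivial)
      have ne : ∀ {a b : K}, enc (a : Perm (Fin 9)) ≠ enc (b : Perm (Fin 9)) → ι a ≠ ι b :=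
        fun h e => h (by rw [hι e])
      have cy := ct y (by rw [Ne, hK.eq_iff, hye]; decide +kernel) (by
        rw [cube_iff, hye]; decide +kernel)
      have c3 := ct (x * y) (by rw [Ne, hK.eq_iff, hK.enc_mul', hxe, hye]; decide +kernel) (by
        rw [cube_iff, hK.enc_mul', hxe, hye]; decide +kernel)
      have c4 := ct (x * y⁻¹) (by
        rw [hyi, Ne, hK.eq_iff, hK.enc_mul', hK.enc_mul', hxe, hye]; decide +kernel) (by
        rw [hyi, cube_iff, hK.enc_mul', hK.enc_mul', hxe, hye]; decide +kernel)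
      rw [map_mul] at c3
      rw [map_mul, map_inv] at c4
      refine le_of_two cx.z3 cy.z3 ?_ ?_ ?_ (ne (by rw [hxe, hye]; decide +kernel)) ?_
        (hn _) (hn _) hc cx.cent cy.cent c3.cent c4.cent
      · rw [← map_mul, ← map_mul, (hK.conj_iff x y y).mpr (by rw [hxe, hye]; decide +kernel)]
      · rw [← map_one ι]; exact ne (by rw [hxe]; decide +kernel)
      · rw [← map_one ι]; exact ne (by rw [hye]; decide +kernel)
      · rw [← map_inv, hxi]; exact ne (by rw [hK.enc_mul', hxe, hye]; decide +kernel)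
  exact top_le_iff.mp fun g _ => cx.ctl g (hN ((MonoidHom.normal_ker l').conj_mem _ hx g))

end Cfsg.Agent.L0.L43.N9
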