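import Cfsg.Agent.L0.L43Cen
import Cfsg.Agent.L0.L43Ti

/-!
# The parabolic case
-/

set_option autoImplicit false
set_option maxRecDepth 100000
set_option linter.unusedSectionVars false
set_option maxHeartbeats 2000000

namespace Cfsg.Agent.L0.L43

open Cfsg.Agent.H4 Subgroup Cfsg.Agent.H9 Cfsg.Agent.H1.T3
open scoped Pointwise

def tbBT : Trie :=
  (.node (.node (.node (.node (.node (.node (.node (.leaf 0) (.node (.leaf (nat_lit
  93536104789177788063110044229928121304444781461505)) (.leaf (nat_lit
  93536104789180446519101614061526354965992845608961)))) (.node (.node (.leaf (nat_lit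
  93536104789180446519101613910558201466736695314433)) (.leaf (nat_lit
  46768052394594211592575269246351069922309357703169))) (.node (.leaf 0) (.node (.leaf (nat_lit
  46768052394588894680592129280627999790419532578817)) (.leaf (nat_lit
  93536104789183104975093183893419736532703078518785)))))) (.node (.node (.node (.leaf (nat_lit
  93536104789180446519101613910410627514155604641793)) (.leaf (nat_lit
  93536104789177788063110043927622879424492641189889))) (.node (.node (.leaf (nat_lit
  93536104789183104975093183591114494652750946635777)) (.leaf (nat_lit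
  93536104789177788063110044229854334328167123124225))) (.leaf (nat_lit
  46768052394588894680592129280701786766705780850689)))) (.node (.leaf (nat_lit
  46768052394594211592575269095382916423087567147009)) (.node (.leaf (nat_lit
  46768052394591553136583699112447594380826345736193)) (.leaf (nat_lit
  93536104789183104975093183893345949556399646183425)))))) (.node (.node (.leaf (nat_lit
  46768052394591553136583699414679049284483643607041)) (.node (.leaf (nat_lit
  46768052394591553136583699112521381357129778071553)) (.node (.leaf (nat_lit
  46768052394588894680592129582933241670371668656129)) (.leaf (nat_lit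
  46768052394594211592575269246351069922326537572353))))) (.node (.node (.node (.leaf (nat_lit
  46768052394588894680592129280701786766722960719873)) (.leaf (nat_lit
  46768052394588894680592129431817514218543021817857))) (.leaf 0)) (.node (.node (.node (.leaf 0)
  (.node (.leaf (nat_lit 46768052394594211592575269095235342470497894928385)) (.leaf (nat_lit
  46768052394591553136583699112447594380834935670785)))) (.leaf (nat_lit
  46768052394591553136583699112447594380843525605377))) (.leaf 0))))) (.node (.node (.node (.leaf
  0) (.node (.node (.leaf (nat_lit 46768052394594211592575269095235342470489304993793)) (.node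
  (.leaf (nat_lit 93536104789183104975093183742230222104562417799169)) (.leaf (nat_lit
  93536104789180446519101613759442474014916634216449)))) (.node (.node (.leaf 0) (.node (.leaf
  (nat_lit 46768052394591553136583699414679049284492233541633)) (.leaf (nat_lit
  46768052394588894680592129280627999790419540967425)))) (.leaf (nat_lit
  46768052394594211592575268944119615018652072415233))))) (.node (.node (.node (.leaf (nat_lit
  46768052394588894680592129431817514218543026012161)) (.leaf (nat_lit
  93536104789180446519101613759294900062335543543809))) (.node (.node (.node (.leaf (nat_lit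
  46768052394591553136583699414752836260778473424897)) (.leaf (nat_lit
  46768052394588894680592129280701786766705789239297))) (.leaf 0)) (.leaf 0))) (.node (.leaf
  (nat_lit 46768052394591553136583699263563321832672168249345)) (.node (.leaf 0) (.node (.leaf
  (nat_lit 46768052394594211592575268944119615018669252284417)) (.leaf (nat_lit
  46768052394591553136583699414679049284500823476225))))))) (.node (.node (.node (.node (.node
  (.leaf 0) (.node (.leaf (nat_lit 93536104789183104975093183893345949556408236118017)) (.leaf
  (nat_lit 93536104789177788063110044078738606876321292222465)))) (.leaf (nat_lit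
  93536104789177788063110044078738606876329882157057))) (.leaf 0)) (.leaf 0)) (.node (.node (.leaf
  0) (.node (.leaf (nat_lit 93536104789177788063110043927622879424501231124481)) (.leaf (nat_lit
  93536104789180446519101613759442474014925224151041)))) (.leaf 0))))) (.node (.node (.node (.node
  (.node (.leaf (nat_lit 93536104789180446519101614061673928918573923698689)) (.leaf (nat_lit
  46768052394591553136583699112521381357138368006145))) (.node (.node (.leaf (nat_lit
  46768052394588894680592129431891301194846449958913)) (.leaf (nat_lit
  46768052394594211592575269246424856898604195909633))) (.node (.leaf (nat_lit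
  46768052394591553136583699414605262308197386946561)) (.leaf (nat_lit
  93536104789177788063110043927696666400796069330945))))) (.node (.node (.node (.leaf (nat_lit
  93536104789180446519101614061600141942270499751937)) (.leaf (nat_lit
  46768052394594211592575269246498643874916222373889))) (.node (.node (.leaf (nat_lit
  93536104789183104975093183742156435128284755267585)) (.leaf (nat_lit
  93536104789180446519101613759368687038613210269697))) (.node (.node (.leaf (nat_lit
  46768052394588894680592129583007028646657912733697)) (.leaf (nat_lit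
  93536104789177788063110043927549092448214982852609))) (.leaf 0)))) (.node (.leaf 0) (.node (.leaf
  (nat_lit 46768052394591553136583699263637108808958420715521)) (.leaf (nat_lit
  46768052394594211592575269095309129446775553265665)))))) (.node (.node (.leaf 0) (.node (.node
  (.leaf (nat_lit 46768052394594211592575269095382916423078977212417)) (.leaf (nat_lit
  46768052394591553136583699414605262308188797011969))) (.leaf 0))) (.leaf (nat_lit
  46768052394591553136583699263489534856368744302593)))) (.node (.node (.node (.node (.leaf 0)
  (.node (.node (.leaf 0) (.node (.leaf (nat_lit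
  46768052394588894680592129280627999790428122513409)) (.leaf (nat_lit
  46768052394594211592575269246424856898621375778817)))) (.leaf (nat_lit
  46768052394591553136583699414752836260795653294081)))) (.node (.node (.leaf (nat_lit
  46768052394588894680592129280775573743000627445761)) (.node (.node (.leaf (nat_lit
  46768052394591553136583699112373807404531511724033)) (.leaf (nat_lit
  46768052394588894680592129583007028646675096797185))) (.leaf 0))) (.node (.leaf 0) (.node (.node
  (.leaf (nat_lit 46768052394594211592575268944267188971250334568449)) (.leaf (nat_lit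
  46768052394591553136583699263489534856360154368001))) (.leaf 0))))) (.node (.node (.leaf (nat_lit
  46768052394588894680592129280627999790428130902017)) (.leaf (nat_lit
  46768052394588894680592129280775573743000619057153))) (.node (.leaf (nat_lit
  46768052394591553136583699112373807404548691593217)) (.node (.leaf (nat_lit
  46768052394594211592575268944193401994955500556289)) (.node (.leaf 0) (.node (.leaf (nat_lit
  46768052394594211592575268944193401994964090490881)) (.leaf (nat_lit
  46768052394591553136583699112521381357121188136961)))))))) (.node (.node (.node (.leaf 0) (.node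
  (.node (.node (.leaf (nat_lit 93536104789183104975093183893272162580104816365569)) (.leaf
  (nat_lit 93536104789177788063110044078664819900043633885185))) (.leaf (nat_lit
  93536104789180446519101613910484414490441848719361))) (.leaf (nat_lit
  93536104789180446519101613910484414490459028588545)))) (.node (.leaf (nat_lit
  46768052394594211592575268944193401994946910621697)) (.leaf (nat_lit
  93536104789183104975093183742156435128267575398401)))) (.node (.node (.node (.leaf (nat_lit
  93536104789180446519101613759368687038621800204289)) (.leaf (nat_lit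
  93536104789183104975093183893272162580096226430977))) (.node (.node (.leaf 0) (.node (.leaf
  (nat_lit 93536104789183104975093183893419736532685898649601)) (.leaf (nat_lit
  93536104789177788063110044078812393852624720363521)))) (.leaf 0))) (.leaf (nat_lit
  93536104789177788063110044229780547351863694983169))))))) (.node (.node (.node (.node (.node
  (.node (.node (.node (.leaf 0) (.node (.leaf (nat_lit
  93536104789183104975093183742304009080874427486209)) (.leaf (nat_lit
  93536104789177788063110044078738606876338472091649)))) (.leaf 0)) (.node (.leaf (nat_lit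
  93536104789183104975093183893419736532694488584193)) (.node (.leaf (nat_lit
  46768052394594211592575269095235342470480715059201)) (.leaf (nat_lit
  46768052394588894680592129582933241670380258590721))))) (.node (.leaf (nat_lit
  93536104789177788063110044229928121304461961330689)) (.leaf (nat_lit
  93536104789180446519101613910410627514164194576385)))) (.node (.leaf (nat_lit
  93536104789183104975093183742304009080865837551617)) (.node (.node (.leaf (nat_lit
  93536104789180446519101613759294900062318363674625)) (.leaf (nat_lit
  46768052394588894680592129583007028646666506862593))) (.node (.leaf (nat_lit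
  93536104789180446519101613910410627514147014707201)) (.leaf (nat_lit
  93536104789177788063110044078812393852616130428929)))))) (.node (.node (.node (.leaf 0) (.node
  (.node (.node (.leaf (nat_lit 46768052394591553136583699414752836260787063359489)) (.leaf
  (nat_lit 46768052394588894680592129431891301194846454153217))) (.leaf 0)) (.leaf 0))) (.node
  (.leaf 0) (.node (.leaf (nat_lit 93536104789177788063110044229854334328149943255041)) (.leaf
  (nat_lit 46768052394591553136583699263637108808949830780929))))) (.leaf 0))) (.node (.node (.node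
  (.node (.node (.node (.leaf (nat_lit 46768052394591553136583699263637108808967010650113)) (.leaf
  (nat_lit 46768052394588894680592129280775573743009208991745))) (.leaf (nat_lit
  93536104789183104975093183591188281629037199101953))) (.leaf (nat_lit
  46768052394594211592575268944119615018660662349825))) (.node (.leaf (nat_lit
  93536104789180446519101614061600141942287679621121)) (.leaf (nat_lit
  46768052394588894680592129431891301194837864218625)))) (.node (.node (.node (.leaf (nat_lit
  46768052394591553136583699263563321832654988380161)) (.leaf (nat_lit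
  46768052394594211592575269246351069922317947637761))) (.leaf (nat_lit
  46768052394594211592575269095309129446792733134849))) (.node (.node (.leaf (nat_lit
  46768052394594211592575269246424856898612785844225)) (.leaf (nat_lit
  93536104789180446519101614061526354965984255674369))) (.node (.node (.leaf (nat_lit
  93536104789183104975093183591040707676456104235009)) (.leaf (nat_lit
  46768052394588894680592129431817514218551615946753))) (.leaf 0))))) (.node (.node (.leaf (nat_lit
  93536104789177788063110044078812393852633310298113)) (.node (.leaf (nat_lit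
  93536104789177788063110043927622879424509821059073)) (.node (.leaf (nat_lit
  93536104789180446519101614061526354965975665739777)) (.leaf (nat_lit
  93536104789183104975093183742304009080857247617025))))) (.node (.node (.node (.node (.node (.leaf
  (nat_lit 93536104789177788063110043927696666400804659265537)) (.leaf (nat_lit
  93536104789180446519101613759294900062326953609217))) (.leaf 0)) (.leaf (nat_lit
  93536104789177788063110043927696666400787479396353))) (.leaf 0)) (.node (.node (.leaf (nat_lit
  93536104789183104975093183591188281629028609167361)) (.leaf (nat_lit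
  93536104789183104975093183591188281629045789036545))) (.leaf (nat_lit
  93536104789180446519101614061673928918582513633281))))))) (.node (.node (.node (.node (.node
  (.node (.node (.leaf (nat_lit 46768052394594211592575268944267188971258924503041)) (.leaf
  (nat_lit 46768052394588894680592129280627999790410951032833))) (.node (.node (.leaf (nat_lit
  46768052394591553136583699263489534856377334237185)) (.leaf (nat_lit
  93536104789183104975093183893345949556391056248833))) (.leaf 0))) (.node (.leaf (nat_lit
  46768052394594211592575269095382916423070387277825)) (.leaf (nat_lit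
  93536104789180446519101613910484414490450438653953)))) (.node (.leaf 0) (.node (.leaf (nat_lit
  93536104789180446519101614061673928918565333764097)) (.leaf (nat_lit
  93536104789177788063110044229854334328158533189633))))) (.node (.node (.leaf (nat_lit
  93536104789183104975093183893272162580113406300161)) (.leaf (nat_lit
  46768052394594211592575269095309129446784143200257))) (.node (.node (.leaf (nat_lit
  93536104789183104975093183591114494652733766766593)) (.leaf (nat_lit
  93536104789180446519101613910558201466753875183617))) (.leaf (nat_lit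
  93536104789177788063110044229780547351855105048577))))) (.node (.node (.leaf 0) (.node (.node
  (.leaf (nat_lit 93536104789180446519101614061600141942279089686529)) (.leaf (nat_lit
  93536104789177788063110044229780547351872284917761))) (.leaf 0))) (.node (.leaf (nat_lit
  93536104789177788063110043927549092448206392918017)) (.node (.leaf (nat_lit
  93536104789177788063110044229928121304453371396097)) (.leaf (nat_lit
  93536104789183104975093183591040707676447514300417)))))) (.node (.node (.node (.node (.node
  (.node (.leaf (nat_lit 46768052394594211592575269246498643874907632439297)) (.node (.leaf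
  (nat_lit 46768052394591553136583699112373807404540101658625)) (.leaf (nat_lit
  46768052394588894680592129582859454694076826255361)))) (.leaf (nat_lit
  46768052394594211592575269246498643874899042504705))) (.leaf 0)) (.leaf 0)) (.node (.node (.leaf
  (nat_lit 46768052394591553136583699263563321832663578314753)) (.node (.node (.leaf (nat_lit
  46768052394591553136583699414605262308205976881153)) (.leaf (nat_lit
  46768052394588894680592129280627999790410942644225))) (.leaf 0))) (.node (.node (.leaf (nat_lit
  46768052394594211592575268944267188971241744633857)) (.leaf (nat_lit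
  46768052394588894680592129582859454694068236320769))) (.leaf (nat_lit
  46768052394588894680592129582933241670363074527233))))) (.node (.node (.node (.node (.node (.node
  (.leaf (nat_lit 93536104789180446519101613910558201466745285249025)) (.leaf (nat_lit
  93536104789183104975093183591040707676438924365825))) (.leaf 0)) (.leaf 0)) (.leaf 0)) (.node
  (.node (.leaf (nat_lit 93536104789183104975093183742230222104579597668353)) (.node (.node (.leaf
  (nat_lit 93536104789183104975093183742230222104571007733761)) (.leaf (nat_lit
  93536104789177788063110044078664819900035043950593))) (.leaf 0))) (.node (.node (.node (.leaf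
  (nat_lit 93536104789177788063110043927549092448197802983425)) (.leaf (nat_lit
  93536104789180446519101613759368687038630390138881))) (.leaf 0)) (.leaf 0)))) (.node (.node
  (.leaf (nat_lit 93536104789177788063110044078664819900026454016001)) (.leaf (nat_lit
  93536104789180446519101613759442474014908044281857))) (.node (.node (.leaf (nat_lit
  93536104789183104975093183742156435128276165332993)) (.leaf (nat_lit
  46768052394588894680592129582859454694085416189953))) (.leaf (nat_lit
  93536104789183104975093183591114494652742356701185)))))))))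
/-- Table look-up. -/
noncomputable def tbB (c : ℕ) : ℕ := tbBT.get (Nat.mod c 1021)

def ibBT : Trie :=
  (.node (.node (.node (.node (.node (.node (.node (.leaf (nat_lit 22354034706)) (.leaf (nat_lit
  4836374631))) (.node (.node (.leaf (nat_lit 27783144261)) (.leaf (nat_lit 8611248006))) (.leaf
  (nat_lit 306525816)))) (.node (.node (.leaf (nat_lit 4335367491)) (.leaf (nat_lit 14295246696)))
  (.node (.node (.leaf (nat_lit 18070120071)) (.leaf (nat_lit 560493396))) (.leaf 0)))) (.node
  (.node (.node (.leaf (nat_lit 22599047286)) (.leaf (nat_lit 32312992851))) (.node (.leaf (nat_lit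
  4837295736)) (.leaf (nat_lit 27783144756)))) (.node (.node (.node (.node (.leaf (nat_lit
  14050419201)) (.leaf (nat_lit 36344967426))) (.leaf 0)) (.node (.leaf (nat_lit 18580267296))
  (.leaf (nat_lit 8865215811)))) (.node (.node (.node (.leaf (nat_lit 22355140626)) (.leaf (nat_lit
  31815119376))) (.leaf 0)) (.node (.leaf (nat_lit 4835268486)) (.leaf (nat_lit 4335366996)))))))
  (.node (.node (.node (.node (.leaf (nat_lit 8610141816)) (.leaf (nat_lit 32312992581))) (.node
  (.leaf (nat_lit 36087866676)) (.leaf (nat_lit 305420391)))) (.node (.node (.node (.node (.leaf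
  (nat_lit 14049313281)) (.leaf (nat_lit 31814013186))) (.leaf (nat_lit 8865215316))) (.leaf
  (nat_lit 560493891))) (.node (.leaf (nat_lit 4335367221)) (.leaf (nat_lit 18069198471))))) (.node
  (.node (.node (.leaf (nat_lit 18071225991)) (.leaf (nat_lit 22601074806))) (.node (.leaf (nat_lit
  14296352616)) (.leaf (nat_lit 560493621)))) (.node (.node (.node (.leaf (nat_lit 8865215541))
  (.leaf (nat_lit 307447686))) (.node (.node (.leaf (nat_lit 14051340801)) (.leaf (nat_lit
  36342940176))) (.leaf 0))) (.node (.node (.node (.leaf (nat_lit 18581188896)) (.leaf (nat_lit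
  28038217986))) (.leaf (nat_lit 8612169831))) (.leaf 0)))))) (.node (.node (.node (.node (.node
  (.leaf (nat_lit 305420166)) (.node (.leaf (nat_lit 27785172051)) (.leaf (nat_lit 36342939906))))
  (.leaf (nat_lit 36089894196))) (.node (.node (.leaf (nat_lit 28040245776)) (.node (.leaf (nat_lit
  18070120566)) (.leaf (nat_lit 18580267026)))) (.node (.leaf (nat_lit 22599968616)) (.leaf
  (nat_lit 8866137411))))) (.node (.node (.node (.node (.leaf (nat_lit 14294324871)) (.leaf
  (nat_lit 27785171781))) (.leaf 0)) (.node (.leaf (nat_lit 36089893971)) (.leaf (nat_lit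
  18069198966)))) (.node (.node (.node (.node (.leaf (nat_lit 4337394741)) (.leaf (nat_lit
  18579161106))) (.leaf 0)) (.leaf (nat_lit 31814012961))) (.node (.node (.node (.leaf (nat_lit
  36343861776)) (.leaf (nat_lit 14049313056))) (.leaf 0)) (.node (.leaf (nat_lit 28039139586))
  (.leaf (nat_lit 22354035201))))))) (.node (.node (.node (.node (.leaf (nat_lit 27785172276))
  (.node (.leaf (nat_lit 36089893701)) (.leaf (nat_lit 14295246471)))) (.node (.leaf (nat_lit
  8612169606)) (.leaf (nat_lit 32315020371)))) (.node (.node (.leaf (nat_lit 22356062721)) (.leaf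
  (nat_lit 28038217761))) (.node (.leaf (nat_lit 31813091856)) (.leaf (nat_lit 14051340576)))))
  (.node (.node (.node (.leaf (nat_lit 18071226486)) (.leaf (nat_lit 32315020101))) (.node (.leaf
  (nat_lit 14296352391)) (.node (.leaf (nat_lit 4336288821)) (.leaf (nat_lit 22601074536)))))
  (.node (.node (.node (.leaf (nat_lit 32315020596)) (.leaf (nat_lit 31815119106))) (.leaf (nat_lit
  22355141121))) (.node (.leaf (nat_lit 14050418976)) (.leaf (nat_lit 36344967201)))))))) (.node
  (.node (.node (.node (.node (.node (.leaf (nat_lit 562521411)) (.leaf (nat_lit 14295246966)))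
  (.node (.leaf (nat_lit 8867242836)) (.node (.leaf (nat_lit 14049312786)) (.leaf (nat_lit
  22599968391))))) (.node (.leaf (nat_lit 8611247736)) (.node (.node (.node (.leaf (nat_lit
  28040245281)) (.leaf (nat_lit 306526311))) (.leaf 0)) (.node (.leaf (nat_lit 4836374406)) (.leaf
  (nat_lit 14050418706)))))) (.node (.node (.node (.node (.leaf (nat_lit 31813091361)) (.leaf
  (nat_lit 18581189121))) (.node (.leaf (nat_lit 4337395011)) (.leaf (nat_lit 22356062496))))
  (.node (.leaf (nat_lit 14051340306)) (.node (.leaf (nat_lit 562520916)) (.leaf (nat_lit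
  8610142311))))) (.node (.node (.leaf (nat_lit 36087866451)) (.leaf (nat_lit 22599046791))) (.node
  (.leaf (nat_lit 32312993076)) (.leaf (nat_lit 18069198696)))))) (.node (.node (.node (.node
  (.leaf (nat_lit 18580267521)) (.leaf (nat_lit 562521141))) (.node (.leaf (nat_lit 4337394516))
  (.node (.node (.leaf (nat_lit 22355140896)) (.leaf (nat_lit 8867243331))) (.leaf (nat_lit
  14294325366))))) (.node (.node (.leaf (nat_lit 36087866181)) (.node (.node (.leaf (nat_lit
  18070120296)) (.leaf (nat_lit 4835268216))) (.leaf 0))) (.leaf 0))) (.node (.node (.node (.node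
  (.node (.leaf (nat_lit 28039139856)) (.leaf (nat_lit 4837296231))) (.leaf 0)) (.leaf (nat_lit
  22354034976))) (.node (.node (.node (.leaf (nat_lit 36343861281)) (.leaf (nat_lit 307447416)))
  (.leaf 0)) (.leaf (nat_lit 18579161601)))) (.node (.node (.leaf (nat_lit 22601074311)) (.leaf
  (nat_lit 8867243061))) (.node (.node (.leaf (nat_lit 27783144531)) (.leaf (nat_lit 18071226216)))
  (.leaf (nat_lit 14296352886))))))) (.node (.node (.node (.node (.node (.node (.leaf (nat_lit
  22599047016)) (.leaf (nat_lit 36342939681))) (.node (.node (.leaf (nat_lit 8866137141)) (.leaf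
  (nat_lit 22356062226))) (.leaf 0))) (.node (.leaf (nat_lit 561414996)) (.leaf (nat_lit
  4336289091)))) (.node (.node (.leaf (nat_lit 4835268711)) (.leaf (nat_lit 27784250451))) (.node
  (.node (.leaf (nat_lit 31814013456)) (.leaf (nat_lit 32314098501))) (.leaf (nat_lit
  8610142086))))) (.node (.node (.node (.node (.node (.leaf (nat_lit 8612169336)) (.leaf (nat_lit
  36344967696))) (.leaf (nat_lit 561415221))) (.leaf (nat_lit 31815118881))) (.node (.leaf (nat_lit
  4837296006)) (.leaf (nat_lit 28040245506)))) (.node (.node (.leaf (nat_lit 27784250181)) (.leaf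
  (nat_lit 14294325096))) (.leaf (nat_lit 32314098996))))) (.node (.node (.node (.node (.node
  (.leaf (nat_lit 305419896)) (.leaf (nat_lit 8866136916))) (.leaf (nat_lit 36343861506))) (.node
  (.leaf (nat_lit 28039139361)) (.node (.node (.leaf (nat_lit 561415491)) (.leaf (nat_lit
  18579161376))) (.leaf 0)))) (.node (.node (.node (.leaf (nat_lit 32314098771)) (.leaf (nat_lit
  307447911))) (.leaf (nat_lit 27784250676))) (.node (.leaf (nat_lit 22599968886)) (.leaf (nat_lit
  36088972101))))) (.node (.node (.node (.node (.node (.leaf (nat_lit 18581188626)) (.leaf (nat_lit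
  28038218256))) (.leaf (nat_lit 36088972371))) (.leaf (nat_lit 306526086))) (.node (.leaf (nat_lit
  4836374136)) (.node (.leaf (nat_lit 8611248231)) (.leaf (nat_lit 31813091586))))) (.node (.leaf
  (nat_lit 4336288596)) (.leaf (nat_lit 36088972596))))))))
/-- Table look-up. -/
noncomputable def ibB (c : ℕ) : ℕ := ibBT.get (Nat.mod c 371)

def irrB : List ℕ :=
  [nat_lit 46768052394588894680592129280701786766722960719873, nat_lit
  46768052394588894680592129280775573743009208991745, nat_lit
  46768052394588894680592129431817514218543026012161, nat_lit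
  46768052394588894680592129431891301194846454153217, nat_lit
  46768052394588894680592129582933241670371668656129, nat_lit
  46768052394588894680592129583007028646675096797185]

def ccBB : List (ℕ × ℕ) :=
  [(nat_lit 1, 0), (nat_lit 4194304, 2), (nat_lit 8589934592, 3), (nat_lit 73786976294838206464,
  6), (nat_lit 151115727451828646838272, 7), (nat_lit 1298074214633706907132624082305024, 10),
  (nat_lit 2658455991569831745807614120560689152, 11), (nat_lit
  46768052394588893382517914646921092657786860339200, 15)]
theorem ccBC : certChk [(nat_lit 46768052394588894680592129431743727242239589482497, nat_lit 46768052394588894680592129431743727242239589482497)] [4, 8, 12] ccBB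
    [(0, [nat_lit 0]), (0, [nat_lit 5444517870735015415413993718908291383296]), (0, [nat_lit 0]),
    (0, [nat_lit 0]), (1, [nat_lit 0]), (0, [nat_lit
    11150372599265311570767859136324180752990208]), (0, [nat_lit 0]), (0, [nat_lit 0]), (4,
    [nat_lit 0]), (0, [nat_lit 22835963083295358096932575511191922182123945984]), (0, [nat_lit 0]),
    (0, [nat_lit 0]), (16, [nat_lit 0]), (0, [nat_lit 72057594037927936]), (0, [nat_lit
    1267650600228229401496703205376]), (0, [nat_lit 0])] = true := by decide +kernel

def ffBB : List (ℕ × ℕ) :=
  [(nat_lit 4194304, 2), (nat_lit 8589934592, 3), (nat_lit 73786976294838206464, 6), (nat_lit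
  151115727451828646838272, 7), (nat_lit 1298074214633706907132624082305025, 10), (nat_lit
  2658455991569831745807614120560691200, 11), (nat_lit
  46768052394588893382517914646921092657786860339200, 15)]
theorem ffBC : certChk [(nat_lit 46768052394588894680592129431743727242239593676801, nat_lit 46768052394588894680592129431743727242239593676801)] [4, 8, 12] ffBB
    [(0, [nat_lit 309485009821345068724781056]), (0, [nat_lit
    5444517870735015415413993718908291383296]), (0, [nat_lit 0]), (0, [nat_lit 0]), (1, [nat_lit
    0]), (0, [nat_lit 11150372599265311570767859136324180752990208]), (0, [nat_lit 0]), (0,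
    [nat_lit 0]), (4, [nat_lit 0]), (0, [nat_lit 35184372088832]), (0, [nat_lit 0]), (0, [nat_lit
    0]), (16, [nat_lit 0]), (0, [nat_lit 72057594037927936]), (1, [nat_lit
    1267650600228229401496703205376]), (0, [nat_lit 0])] = true := by decide +kernel

def ttBB : List (ℕ × ℕ) :=
  [(nat_lit 1, 0), (nat_lit 8589934592, 3), (nat_lit 36028797018963968, 5), (nat_lit
  73786976294838206464, 6), (nat_lit 633825300114114700748351602688, 9), (nat_lit
  1298074214633706907132624082305024, 10), (nat_lit
  46768052394588893382517914646921056628989841375232, 15)]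
theorem ttBC : certChk [(nat_lit 46768052394588895978666343914334942951832043913217, nat_lit 46768052394588895978666343914334942951832043913217)] [4, 8, 12] ttBB
    [(0, [nat_lit 0]), (0, [nat_lit 17592186044416]), (0, [nat_lit 309485009821345068724781056]),
    (0, [nat_lit 0]), (1, [nat_lit 0]), (0, [nat_lit 0]), (0, [nat_lit 0]), (0, [nat_lit
    22300745198530623141535718272648361505980416]), (4, [nat_lit 0]), (0, [nat_lit 0]), (0,
    [nat_lit 0]), (0, [nat_lit 45671926166590716193865151022383844364247891968]), (16, [nat_lit
    0]), (0, [nat_lit 151115727451828646838272]), (0, [nat_lit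
    2658455991569831745807614120560689152]), (0, [nat_lit 0])] = true := by decide +kernel

def tmBB : List (ℕ × ℕ) :=
  [(nat_lit 2048, 1), (nat_lit 4194304, 2), (nat_lit 151115727451828646838272, 7), (nat_lit
  2658455991569831745807614120560689152, 11), (nat_lit
  11150372599265311570767859136324180752990208, 13), (nat_lit
  22835963083295358096932575511191922182123945984, 14)]
theorem tmBC : certChk [(nat_lit 46768052394588895978666343914334942951832043913217, nat_lit 93536104789177788063110043927549056419400784019458)] [4, 8, 12] tmBB
    [(0, [nat_lit 2]), (0, [nat_lit 0]), (0, [nat_lit 0]), (0, [nat_lit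
    10889035741470030830827987437816582766592]), (1, [nat_lit 0]), (0, [nat_lit
    36028797018963968]), (0, [nat_lit 633825300114114700748351602688]), (0, [nat_lit 0]), (4,
    [nat_lit 0]), (0, [nat_lit 73786976294838206464]), (0, [nat_lit
    1298074214633706907132624082305024]), (0, [nat_lit 0]), (16, [nat_lit 0]), (0, [nat_lit 0]),
    (0, [nat_lit 0]), (0, [nat_lit 93536104789177786765035829293842113257979682750464])] = true := by decide +kernel

def gU : List ℕ :=
  [nat_lit 46768052394588894680592129280627999790410942644225, nat_lit
  93536104789177786765669654594030014935022872559617, nat_lit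
  46768052394588895979300169214522808600078214758401, nat_lit
  93536104789177789361184258561255999580821885288450]
def LU : List ℕ :=
  [nat_lit 46768052394588894680592129280627999790410942644225, nat_lit
  93536104789177786765669654594030014935022872559617, nat_lit
  46768052394588895979300169214522808600078214758401, nat_lit
  93536104789177789361184258561255999580821885288450, nat_lit
  93536104789177788064377694527851072797192325431297, nat_lit
  46768052394588893383785565247296859983076220993538, nat_lit
  93536104789177788063743869227810745072738812035073, nat_lit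
  46768052394588895978666343914334942951832043913217, nat_lit
  93536104789177788064377694527924895802284182601730, nat_lit
  46768052394588894681225954580815937496251151417345, nat_lit
  93536104789177786766303479894217916612066062368769, nat_lit
  46768052394588895979300169214596631605170071928834, nat_lit
  93536104789177788063110043927549092448197802983425, nat_lit
  46768052394588895979933994514636959329623585325058, nat_lit
  46768052394588894681859779881003839173294341226497, nat_lit
  93536104789177788063110043927549056419400784019458, nat_lit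
  46768052394588893383151739947182745282327869390849, nat_lit
  93536104789177789362451909161631766906111245942786, nat_lit
  93536104789177789361818083861517688234159913304065, nat_lit
  46768052394588893383151739947108958306033031184386, nat_lit
  46768052394588893383785565247223073006781382787073, nat_lit
  93536104789177789362451909161558015958613426700289, nat_lit
  46768052394588895978666343914334906923035024949250, nat_lit
  93536104789177789361818083861443865229068056133634, nat_lit
  93536104789177789361184258561255963552024866324481, nat_lit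
  46768052394588895979933994514710710277121404567553, nat_lit
  93536104789177786766303479894144129635771224162306, nat_lit
  46768052394588894681859779880930016168202484056066, nat_lit
  93536104789177786765669654594103801911317710766082, nat_lit
  46768052394588894681225954580889688443748970659842, nat_lit
  46768052394588894680592129280628035819207961608194, nat_lit
  93536104789177788063743869227736994125240992792578]
def WU : List ℕ :=
  [nat_lit 0, nat_lit 1, nat_lit 2, nat_lit 3, nat_lit 18, nat_lit 19, nat_lit 33, nat_lit 34,
  nat_lit 35, nat_lit 289, nat_lit 290, nat_lit 291, nat_lit 530, nat_lit 531, nat_lit 546, nat_lit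
  547, nat_lit 4626, nat_lit 4627, nat_lit 4642, nat_lit 4643, nat_lit 8481, nat_lit 8482, nat_lit
  8483, nat_lit 8739, nat_lit 74017, nat_lit 74018, nat_lit 74019, nat_lit 74275, nat_lit 135699,
  nat_lit 135715, nat_lit 1184275, nat_lit 1184291]

def cjU : List (ℕ × ℕ) :=
  [(nat_lit 93536104789177786765669654594030014935022872559617, nat_lit
  22847113455895922750368728421192232312309284865), (nat_lit
  46768052394588893383785565247296859983076220993538, nat_lit
  22847113455895922750368728421192232312309284865), (nat_lit
  46768052394588895978666343914334942951832043913217, nat_lit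
  93536104789177786765669654594030014935022872559617), (nat_lit
  93536104789177786766303479894217916612066062368769, nat_lit
  45683076539191280213476003818269453746081628161), (nat_lit
  93536104789177788063110043927549092448197802983425, nat_lit
  22835963083295358730758026741034074759122386945), (nat_lit
  93536104789177788063110043927549056419400784019458, nat_lit
  93536104789177786765669654594030014935022872559617), (nat_lit
  46768052394588893383151739947108958306033031184386, nat_lit
  45683076539191280213476003818269453746081628161), (nat_lit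
  46768052394588895978666343914334906923035024949250, nat_lit
  22835963083295358730758026741034074759122386945), (nat_lit
  93536104789177789361184258561255963552024866324481, nat_lit
  22300745199828697356320540907232814235123713), (nat_lit
  46768052394588894680592129280628035819207961608194, nat_lit
  22300745199828697356320540907232814235123713)]


attribute [local irreducible] cls inPat mul pw ng pmPat can tbB ibB

variable {G : Type*} [Group G] [Finite G]

theorem tau_sq {b : Bool} : (tau : M b) * tau = 1 := by
  simp only [← cd_eq, cd_mul, cds2, cd_one]; decide +kernel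

theorem tau_inv {b : Bool} : (tau : M b)⁻¹ = tau := inv_eq_of_mul_eq_one_right tau_sq

theorem mem3 {b : Bool} {A x : M b} {c : ℕ} (hx : cd x = c) (h3 : Nat.beq (pw c 3) one = true) :
    memL [one, c, mul c c] (cd A) = true ↔ A = 1 ∨ A = x ∨ A = x⁻¹ := by
  rw [← hx, ← cd_pow, ← cd_one (b := b), beq_cd, pow_succ', sq] at h3
  simp only [memL_iff, List.mem_cons, List.not_mem_nil, or_false, inv_eq_of_mul_eq_one_right h3,
    ← cd_eq, cd_mul, cd_one, hx]

namespace Emb

theorem mem3' {b : Bool} {φ : M b →* G} (e : Emb φ) {A x : M b} {c : ℕ} (hx : cd x = c)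
    (h3 : Nat.beq (pw c 3) one = true) (hA : A ^ 9 = 1) :
    φ A ∈ zpowers (φ x) ↔ memL [one, c, mul c c] (cd A) = true := by
  have h4 : x ^ 3 = 1 := by
    rw [← hx, ← cd_pow, ← cd_one (b := b), beq_cd] at h3; exact h3
  have h9 : x ^ 9 = 1 := by rw [show 9 = 3 * 3 from rfl, pow_mul, h4, one_pow]
  rw [mem3 hx h3, mem_zpowers_three (by rw [← map_pow, h4, map_one]), ← map_inv, ← map_one φ]
  exact or_congr ⟨e.inj9 hA (one_pow _), congrArg φ⟩ (or_congr ⟨e.inj9 hA h9, congrArg φ⟩
    ⟨e.inj9 hA (by rw [inv_pow, h9, inv_one]), congrArg φ⟩)

theorem pel {b : Bool} {φ : M b →* G} {A : M b} (hA : A ∈ Pat b mkS) : ∃ k, φ A ^ 3 ^ k = 1 :=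
  ⟨2, by rw [← map_pow, show 3 ^ 2 = 9 from rfl, S_pow hA, map_one]⟩

theorem zS {b : Bool} {φ : M b →* G} {A : M b} (hA : A ∈ Pat b mkS) : φ A * φ z0 = φ z0 * φ A := by
  rw [← map_mul, S_z hA, map_mul]

variable {φ : M false →* G} (e : Emb φ) (c : Ctl φ.range (φ z0))
include e c

theorem cent_c : centralizer {φ c0} ≤ φ.range := by
  have hTS : Pat false mkT ≤ Pat false mkS := pat_le (by decide +kernel)
  have hT0 : Pat false mkT0 ≤ Pat false mkT := pat_le (by decide +kernel)
  have hc : (c0 : M false) ∈ Pat false mkT0 := mem_Pat.mpr (by simp only [cds]; decide +kernel)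
  have hz : (z0 : M false) ∈ Pat false mkT0 := mem_Pat.mpr (by simp only [cds]; decide +kernel)
  have hy : (y0 : M false) ∈ Pat false mkT0 := mem_Pat.mpr (by simp only [cds]; decide +kernel)
  have cc' := (cds (b := false)).2.2.2.1
  have tc' := (cds2 (b := false)).2.2.2.2
  have mZ : ∀ {A : M false}, A ∈ Pat false mkT0 →
      (φ A ∈ zpowers (φ c0) ↔ memL [one, cc, mul cc cc] (cd A) = true) :=
    fun h => e.mem3' cc' (by decide +kernel) (S_pow (hTS (hT0 h)))
  set L := centralizer {φ c0} with hL
  have hC : ∀ g ∈ L, g ∈ φ.range → ∃ X ∈ Pat false mkT, g = φ X ∨ g = φ X * φ tau := by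
    rintro _ hg ⟨A, rfl⟩
    have := int1 ccBC (P := fun c => bor (pmPat mkT c) (pmPat mkT (mul c tauc)))
      (by decide +kernel) cc' cc' (e.comm_lift (S_pow (hTS (hT0 hc))) (mem_cent.mp hg)) (zs_false A)
    rw [bor_eq_true, ← tc', ← cd_mul] at this
    rcases this with h | h
    · obtain ⟨X, hX, h⟩ := e.pm h
      exact ⟨X, hX, Or.inl h.symm⟩
    · obtain ⟨X, hX, h⟩ := e.pm h
      exact ⟨X, hX, Or.inr (by rw [h, ← map_mul, mul_assoc, tau_sq, mul_one])⟩
  have hTL : (Pat false mkT).map φ ≤ L := by
    rintro _ ⟨A, hA, rfl⟩
    have := allT (P := fun c => Nat.beq (mul c cc) (mul cc c)) (by decide +kernel) hA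
    rw [← cc', ← cd_mul, ← cd_mul, beq_cd] at this
    exact mem_cent.mpr (by rw [← map_mul, this, map_mul])
  have k3 : ∀ g ∈ L, g ∈ φ.range → (∃ k, g ^ 3 ^ k = 1) → g ∈ (Pat false mkT).map φ :=
    fun g hg hH h3 => by
      obtain ⟨X, hX, rfl | rfl⟩ := hC g hg hH
      · exact ⟨X, hX, rfl⟩
      obtain ⟨A, hA, h9⟩ := e.lift9 hH h3
      refine absurd ?_ (e.ne_one (A := (X * tau) ^ 9) ?_)
      · rw [map_pow, map_mul, ← hA, ← map_pow, h9, map_one]
      · rw [cd_pow, cd_mul, tc']
        exact allT (P := fun c => (!Nat.beq (pw (mul c tauc) 9) one &&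
          !Nat.beq (pw (mul c tauc) 9) m1c)) (by decide +kernel) hX
  have pT : IsPGroup 3 ((Pat false mkT).map φ) := pS.to_le (map_mono hTS)
  have hT : IsSylowIn 3 ((Pat false mkT).map φ) L := syl_of_self hTL pT fun g hg h3 hn =>
    k3 g hg (c.norm (map_le_range φ _) ⟨_, hT0 hz, rfl⟩ hn) h3
  have cmT : ∀ X ∈ Pat false mkT, ∀ Y ∈ Pat false mkT, X * Y * X⁻¹ * Y⁻¹ ∈ Pat false mkT0 :=
    fun X hX Y hY => by
      obtain ⟨l0, l1, -, -, l4, -⟩ := S_comm (hTS hX) (hTS hY)
      have a : mt X 0 1 = 0 := hX 0 1 (by decide +kernel)
      have b : mt Y 0 1 = 0 := hY 0 1 (by decide +kernel)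
      exact mem_of_S l0 (.inr l1) (.inr (by rw [l4, a, b]; ring)) (.inl (by decide +kernel))
        (.inl (by decide +kernel)) (.inl (by decide +kernel)) (.inl (by decide +kernel))
  have tT : ∀ Y ∈ Pat false mkT, tau * Y * tau⁻¹ * Y⁻¹ ∈ Pat false mkT0 := fun Y hY => by
    rw [tau_inv, inv_eq_of_mul_eq_one_right (a := Y) (b := Y ^ 8) (by
      rw [← pow_succ', S_pow (hTS hY)]), mem_Pat, cd_mul, cd_mul, cd_mul, cd_pow, tc']
    exact allT (P := fun c => inPat mkT0 (mul (mul (mul tauc c) tauc) (pw c 8)))
      (by decide +kernel) hY
  have tL : φ tau ∈ L := mem_cent.mpr (by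
    rw [← map_mul, ← map_mul]; congr 1; simp only [← cd_eq, cd_mul, cds, cds2]; decide +kernel)
  obtain ⟨N, hNL, hLN, h1, h2, h3, h4⟩ := transfer3 (T0 := (Pat false mkT0).map φ) hT (by
    rintro _ ⟨Y, hY, rfl⟩ g hg ⟨Y', hY', e1⟩
    obtain ⟨h, hL', hH, e2, -⟩ := c.fuse (hTL ⟨_, hT0 hz, rfl⟩) hg (zS (hTS hY))
      (e1 ▸ zS (hTS hY'))
    rw [← e2]
    obtain ⟨X, hX, rfl | rfl⟩ := hC h hL' hH
    · exact ⟨_, cmT X hX Y hY, by simp⟩
    · have h5 : tau * Y * tau⁻¹ ∈ Pat false mkT := by
        simpa using mul_mem (hT0 (tT Y hY)) hY
      exact ⟨_, mul_mem (cmT X hX _ h5) (tT Y hY), by simp [mul_assoc]⟩)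
  have tN : φ tau ∈ N := h4 _ tL (by rw [← map_mul, tau_sq, map_one])
  have hZN : zpowers (φ c0) ≤ N := zpowers_le_of_mem (by
    have := h3 (φ y0) (hTL ⟨_, hT0 hy, rfl⟩) (φ d0) (hTL ⟨d0, mem_Pat.mpr (by
      simp only [cds]; decide +kernel), rfl⟩)
    rwa [← map_inv, ← map_inv, ← map_mul, ← map_mul, ← map_mul,
      show (y0 : M false) * d0 * y0⁻¹ * d0⁻¹ = c0 by
        simp only [invs, ← cd_eq, cd_mul, cds]; decide +kernel] at this)
  have t0' : ∀ Y ∈ Pat false mkT0, tau * Y * tau⁻¹ ∈ Pat false mkT0 := fun Y hY => by
    simpa using mul_mem (tT Y (hT0 hY)) hY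
  have iT : ∀ Y ∈ Pat false mkT0, φ tau * φ Y * (φ tau)⁻¹ * φ Y ∈ zpowers (φ c0) := fun Y hY => by
    rw [← map_inv, ← map_mul, ← map_mul, ← map_mul, mZ (mul_mem (t0' Y hY) hY), tau_inv, cd_mul,
      cd_mul, cd_mul, tc']
    exact allT0 (P := fun c => memL [one, cc, mul cc cc] (mul (mul (mul tauc c) tauc) c))
      (by decide +kernel) hY
  have hT0N : (Pat false mkT0).map φ ≤ N := by
    rintro _ ⟨Y, hY, rfl⟩
    have h5 := mul_mem (inv_mem (h3 _ tL _ (hTL ⟨Y, hT0 hY, rfl⟩))) (hZN (iT Y hY))
    have h6 : φ Y = ((φ tau * φ Y * (φ tau)⁻¹ * (φ Y)⁻¹)⁻¹ * (φ tau * φ Y * (φ tau)⁻¹ * φ Y)) ^ 5 := by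
      rw [show ∀ a b : G, (a * b * a⁻¹ * b⁻¹)⁻¹ * (a * b * a⁻¹ * b) = b ^ 2 from fun a b => by
        simp [sq, mul_assoc], ← pow_mul, ← map_pow, pow_succ, S_pow (hTS (hT0 hY)), one_mul]
    rw [h6]
    exact pow_mem h5 5
  have ab : ∀ a ∈ (Pat false mkT0).map φ, ∀ b ∈ (Pat false mkT0).map φ,
      a * b * (b * a)⁻¹ ∈ zpowers (φ c0) := by
    rintro _ ⟨A, hA, rfl⟩ _ ⟨B, hB, rfl⟩
    have h5 := allT0 (allT0 (P := fun a => spanAll (fun b => force (mul b a) fun d =>
      memL [d, mul cc d, mul cc (mul cc d)] (mul a b)) bsT0 one) (by decide +kernel) hA) hB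
    simp only [force_eq, memL_iff, List.mem_cons, List.not_mem_nil, or_false, ← cc', ← cd_mul,
      cd_eq] at h5
    rw [← map_mul, ← map_mul]
    rcases h5 with h | h | h <;> rw [h] <;> simp [mul_mem, ← mul_assoc]
  have hN : N ≤ φ.range := by
    refine c.st (P := (Pat false mkT0).map φ) (Z := zpowers (φ c0)) ⟨_, hz, rfl⟩
      (syl_of_self hT0N (pT.to_le (map_mono hT0)) fun g hg h5 hn => h1 g (k3 g (hNL hg)
        (c.norm (map_le_range φ _) ⟨_, hz, rfl⟩ hn) h5) hg) (zpowers_le_of_mem ⟨_, hc, rfl⟩)
      (fun g hg _ ⟨k, hk⟩ => hk ▸ (Commute.zpow_right (mem_cent.mp (hNL hg)) k).eq) ab ?_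
      (q := φ y0) ⟨_, hy, rfl⟩ ?_ ?_ ?_ ?_ ?_ ⟨_, tN, by rintro _ ⟨Y, hY, rfl⟩; exact iT Y hY⟩
      fun O hO hn hc => ?_
    · rintro _ ⟨A, hA, rfl⟩
      rw [← map_pow, mZ (pow_mem hA 3), cd_pow]
      exact allT0 (P := fun c => memL [one, cc, mul cc cc] (pw c 3)) (by decide +kernel) hA
    · rw [mZ hz]; simp only [cds]; decide +kernel
    · rw [mZ hy]; simp only [cds]; decide +kernel
    · rw [← map_inv, ← map_mul, mZ (mul_mem hy (inv_mem hz))]
      simp only [invs, cd_mul, cds]; decide +kernel
    · rw [← map_mul, mZ (mul_mem hy hz)]; simp only [cd_mul, cds]; decide +kernel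
    · rintro _ ⟨Y, hY, rfl⟩ g hg ⟨Y', hY', e1⟩
      obtain ⟨h, hL', hH, e2, -⟩ := c.fuse (hT0N ⟨_, hz, rfl⟩) hg (zS (hTS (hT0 hY)))
        (e1 ▸ zS (hTS (hT0 hY')))
      rw [← e2]
      obtain ⟨X, hX, rfl | rfl⟩ := hC h (hNL hL') hH
      · exact Or.inl (by simpa [mul_assoc] using ab _ (h1 _ ⟨X, hX, rfl⟩ hL') _ ⟨Y, hY, rfl⟩)
      · have h5 := ab _ (h1 _ ⟨X, hX, rfl⟩ ((N.mul_mem_cancel_right tN).mp hL')) _ ⟨_, t0' Y hY, rfl⟩
        exact Or.inr (by simpa [mul_assoc] using mul_mem h5 (iT Y hY))
    · obtain ⟨O', -, h5, h6, h7⟩ := exists_core 3 N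
      exact (h7 O hO hn hc).trans (e.two_za c (h5 (hLN (hTL ⟨_, hT0 hz, rfl⟩)))
        (h5 (hLN (hTL ⟨a0, mem_Pat.mpr (by simp only [cds]; decide +kernel), rfl⟩))) h6)
  intro g hg
  obtain ⟨x, hx, h5⟩ := h2 g hg
  simpa using mul_mem (map_le_range φ _ hx) (hN h5)

theorem cent_v : centralizer {φ v0} ≤ φ.range := by
  have hv : (v0 : M false) ∈ Pat false mkS := memS (by simp only [cds2]; decide +kernel)
  have k : ∀ A : M false, (inPat mkS (cd A) && Nat.beq (cls (cd A)) 1) = true →
      centralizer {φ A} ≤ φ.range := fun A h => by
    rw [Bool.and_eq_true, Nat.beq_eq] at h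
    exact e.cent_cls (memS h.1) h.2 (by norm_num) (e.cent_c c)
  have m : ∀ A : M false, A * v0 = v0 * A → φ A ∈ centralizer {φ v0} := fun A h =>
    mem_cent.mpr (by rw [← map_mul, h, map_mul])
  have hz := m z0 (S_z hv).symm
  refine c.cent3 hz ?_ fun O _ hN hO => ?_
  · rintro _ hg ⟨A, rfl⟩
    obtain ⟨B, hB, h⟩ := e.pm (mk := mkS) (int1 vvC (by decide +kernel) cds2.2.2.2.1 cds2.2.2.2.1
      (e.comm_lift (S_pow hv) (mem_cent.mp hg)) (zs_false A))
    exact h ▸ ⟨pel hB, zS hB⟩
  · refine e.two (q := c0) (memS ?_) (memS ?_) ?_ (hN (le_normalizer hz))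
      (hN (le_normalizer (m c0 (cd_eq.mp ?_)))) hO c.cent (k _ ?_) (k _ ?_) (k _ ?_) <;>
      simp only [cd_mul, cds, cds2] <;> decide +kernel

theorem cent_irr {X : M false} (hX : cd X ∈ irrB) :
    centralizer {φ f0} ⊓ centralizer {φ X} ≤ φ.range := by
  have hE : Pat false mkE ≤ Pat false mkS := pat_le (by decide +kernel)
  have h1 := allL_iff.mp (show allL (fun c => inPat mkS c && Nat.beq (mul ac c) (mul c ac)) irrB =
    true by decide +kernel) _ hX
  rw [Bool.and_eq_true, ← (cds (b := false)).2.1, ← cd_mul, ← cd_mul, beq_cd, ← mem_Pat] at h1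
  have hf : (f0 : M false) ∈ Pat false mkS := memS (by simp only [cds2]; decide +kernel)
  have hz : φ z0 ∈ centralizer {φ f0} ⊓ centralizer {φ X} :=
    ⟨mem_cent.mpr (zS hf).symm, mem_cent.mpr (zS h1.1).symm⟩
  refine c.cent3 hz ?_ fun O _ hN hO => e.two_za c (hN (le_normalizer hz)) (hN (le_normalizer
    ⟨mem_cent.mpr ?_, mem_cent.mpr (by rw [← map_mul, h1.2, map_mul])⟩)) hO
  · rintro _ hg ⟨A, rfl⟩
    have h2 := allL_iff.mp (int1 ffBC (P := fun a => allL (fun x => bor
      (!Nat.beq (mul a x) (mul x a)) (pmPat mkE a)) irrB) (by decide +kernel) cds2.1 cds2.1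
      (e.comm_lift (S_pow hf) (mem_cent.mp hg.1)) (zs_false A)) _ hX
    rw [bor_eq_true, ← cd_mul, ← cd_mul, e.comm_lift (S_pow h1.1) (mem_cent.mp hg.2),
      Nat.beq_refl] at h2
    obtain ⟨B, hB, h⟩ := e.pm (h2.resolve_left (by simp))
    exact h ▸ ⟨pel (hE hB), zS (hE hB)⟩
  · rw [← map_mul, ← map_mul]; congr 1; simp only [← cd_eq, cd_mul, cds, cds2]; decide +kernel

theorem cent_f : centralizer {φ f0} ≤ φ.range := by
  have hZc : ∀ g ∈ centralizer {φ f0}, ∀ ζ ∈ zpowers (φ f0), g * ζ = ζ * g :=
    fun g hg _ ⟨k, hk⟩ => hk ▸ (Commute.zpow_right (mem_cent.mp hg) k).eq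
  have := normal_subgroupOf (le_normalizer_of_cent hZc)
  let π := QuotientGroup.mk' ((zpowers (φ f0)).subgroupOf (centralizer {φ f0}))
  have hk : ∀ g, π g = 1 ↔ (g : G) ∈ zpowers (φ f0) := fun g => QuotientGroup.eq_one_iff g
  obtain ⟨ι, hι, hr, ht⟩ := e.exists_iota π hk N9.hSK N9.hK tbB ibB N9.enc_one
    (by decide +kernel) (by decide +kernel) (by decide +kernel) fun A h =>
      int1 ffBC (P := fun a => force (can a) (fun d => force (ibB d) fun c =>
        band (memL N9.L9 c) (Nat.beq d (can (tbB c))))) (by decide +kernel) cds2.1 cds2.1 h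
        (zs_false A)
  have hf : (f0 : M false) ∈ Pat false mkS := memS (by simp only [cds2]; decide +kernel)
  have hz : φ z0 ∈ centralizer {φ f0} := mem_cent.mpr (zS hf).symm
  have key : ∀ k : N9.K, k ≠ 1 → k ^ 9 = 1 → ∀ g : centralizer {φ f0}, π g = ι k →
      (g : G) * φ z0 = φ z0 * g ∧ centralizer {φ f0} ⊓ centralizer {(g : G)} ≤ φ.range := by
    intro k h1 h9 g hg
    obtain ⟨A, hA, hAf, hAk⟩ := ht k
    have h2 := N9.hK.forall_of_all (fun c => bor (!Nat.beq (N9.cube (N9.cube c)) N9.one9)
      (bor (Nat.beq c N9.one9) (force (tbB c) fun d => band (inPat mkS d)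
        (bor (memL [0, 1, 4, 5] (cls d)) (bor (memL [zc, mul zc zc] (pw d 3)) (memL irrB d))))))
      (by decide +kernel) k
    simp only [force_eq, bor_eq_true, band_eq_true, Bool.not_eq_true', ← Bool.not_eq_true,
      Nat.beq_eq, memL_iff, ← hA] at h2
    obtain ⟨h3, h4⟩ := (h2.resolve_left (not_not.mpr ((N9.nine_iff k).mp h9))).resolve_left
      fun h => h1 ((N9.hK.eq_iff _ _).mpr (h.trans N9.enc_one.symm))
    replace h3 := memS h3
    have hAc : φ A ∈ centralizer {φ f0} := mem_cent.mpr (by rw [← map_mul, hAf, map_mul])
    rw [hAk hAc, eq_img π hk] at hg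
    have h5 : ∀ x ∈ centralizer {φ f0}, x * g = g * x ↔ x * φ A = φ A * x := fun x hx => by
      have h6 := hZc x hx _ hg
      constructor <;> intro h
      · calc _ = (x * ((g : G) * (φ A)⁻¹)⁻¹) * g := by group
          _ = _ := by rw [hZc x hx _ (inv_mem hg), mul_assoc, h]; group
      · calc _ = x * ((g : G) * (φ A)⁻¹) * φ A := by group
          _ = _ := by rw [h6, mul_assoc, h]; group
    refine ⟨((h5 _ hz).mpr (zS h3).symm).symm, fun x hx => ?_⟩
    have h7 := (h5 x hx.1).mp (mem_cent.mp hx.2)
    simp only [List.mem_cons, List.not_mem_nil, or_false] at h4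
    rcases h4 with (h | h | h | h) | h | h
    · exact e.cent_cls h3 h (by norm_num) c.cent (mem_cent.mpr h7)
    · exact e.cent_cls h3 h (by norm_num) (e.cent_c c) (mem_cent.mpr h7)
    · exact e.cent_cls h3 h (by norm_num) (e.cent_e c) (mem_cent.mpr h7)
    · exact e.cent_cls h3 h (by norm_num) (e.cent_v c) (mem_cent.mpr h7)
    · have h8 : Commute x (φ (A ^ 3)) := by rw [map_pow]; exact Commute.pow_right h7 3
      rw [← (cds (b := false)).1, ← cd_pow, ← cd_mul, cd_eq, cd_eq, ← invs.1] at h
      refine c.cent (mem_cent.mpr ?_)
      rcases h with h | h <;> rw [h] at h8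
      · exact h8
      · simpa using h8.inv_right.eq
    · exact e.cent_irr c h ⟨hx.1, mem_cent.mpr h7⟩
  have h := N9.ti9 ι hι fun k h1 h9 x ⟨k', hk'⟩ => by
    obtain ⟨g, rfl⟩ := QuotientGroup.mk'_surjective _ x
    obtain ⟨a, ha⟩ := QuotientGroup.mk'_surjective _ (ι k)
    have h2 := key k' (fun h => h1 (hι (by simpa [h] using hk'.symm))) (hι (by
      rw [map_pow, hk', conj_pow, ← map_pow, h9]; simp)) (g * a * g⁻¹) (by
        rw [map_mul, map_mul, map_inv, hk', ha])
    obtain ⟨h, -, hH, -, l, h3, h4, rfl⟩ := c.fuse hz g.2 (key k h1 h9 a ha).1 h2.1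
    exact (hr g).mpr ((φ.range.mul_mem_cancel_left (h2.2 ⟨h4, mem_cent.mpr h3⟩)).mp hH)
  exact fun g hg => (hr ⟨g, hg⟩).mp (h ▸ mem_top _)

end Emb

end Cfsg.Agent.L0.L43
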