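import Cfsg.Agent.L0.L43B

/-!
# The parabolic case: the end
-/

set_option autoImplicit false
set_option maxRecDepth 100000
set_option linter.unusedSectionVars false
set_option maxHeartbeats 2000000

namespace Cfsg.Agent.L0.L43

open Cfsg.Agent.H4 Subgroup Cfsg.Agent.H9 Cfsg.Agent.H1.T3
open scoped Pointwise

attribute [local irreducible] cls inPat mul pw ng pmPat

variable {G : Type*} [Group G] [Finite G]

theorem Ctl.inv {H : Subgroup G} {z : G} (c : Ctl H z) : Ctl H z⁻¹ :=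
  ⟨inv_mem c.mem, by rw [inv_pow, c.z3, inv_one], fun g hg => c.ctl g (by
    simpa [mul_assoc] using inv_mem hg)⟩

namespace Emb

theorem twist_ctl {b : Bool} {φ : M b →* G} (c : Ctl φ.range (φ z0)) :
    Ctl (φ.comp del).range ((φ.comp del) z0) := by
  rw [range_twist, MonoidHom.comp_apply, dels.1, map_inv]; exact c.inv

/-- Strong `3`-embedding. -/
theorem strong {b : Bool} {φ : M b →* G} (e : Emb φ) (c : Ctl φ.range (φ z0))
    (h : ∀ k < 6, centralizer {φ (rep k)} ≤ φ.range) {x : G} (hx : x ∈ φ.range) (h1 : x ≠ 1)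
    (h3 : x ^ 3 = 1) : Ctl φ.range x := by
  refine ⟨hx, h3, fun g hg => ?_⟩
  obtain ⟨B, A, hA, e1⟩ := e.to_S hx (k := 1) h3
  obtain ⟨B', A', hA', e2⟩ := e.to_S hg (k := 1) (by rw [conj_pow, pow_one, h3]; group)
  have e3 : φ B' * g * (φ B)⁻¹ * φ A * (φ B' * g * (φ B)⁻¹)⁻¹ = φ A' := by rw [← e1, ← e2]; group
  obtain ⟨l, -, hH, e4, -⟩ := c.fuse (L := ⊤) (mem_top _) (mem_top _) (zS hA) (e3 ▸ zS hA')
  have h4 : centralizer {φ A} ≤ φ.range := by
    obtain ⟨k, ⟨-, rfl | h5⟩ | ⟨h5, C, h6⟩⟩ := cls_spec' hA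
    · exact absurd (by simpa using e1) h1
    · exact absurd (e.cube_lift hA (by rw [← e1, conj_pow, h3]; group)) h5
    · exact cent_conj (h := φ C) ⟨C, rfl⟩ (by simpa [← h6] using h k h5)
  have h5 := h4 (show l⁻¹ * (φ B' * g * (φ B)⁻¹) ∈ _ from mem_cent.mpr (conj_eq_iff.mp (by
    calc _ = l⁻¹ * (φ B' * g * (φ B)⁻¹ * φ A * (φ B' * g * (φ B)⁻¹)⁻¹) * l := by group
      _ = _ := by rw [← e4]; group)))
  have h6 := mul_mem (mul_mem (inv_mem (show φ B' ∈ φ.range from ⟨_, rfl⟩)) (mul_mem hH h5))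
    (show φ B ∈ φ.range from ⟨_, rfl⟩)
  simpa [mul_assoc] using h6

variable {φ : M false →* G} (e : Emb φ) (c : Ctl φ.range (φ z0))
include e c

theorem cent_rep (k : ℕ) (h : k < 6) : centralizer {φ (rep k)} ≤ φ.range := by
  interval_cases k
  · exact c.cent
  · exact e.cent_c c
  · exact e.cent_f c
  · have := e.twist.cent_f (twist_ctl c)
    rwa [range_twist, MonoidHom.comp_apply, dels.2.2.2] at this
  · exact e.cent_e c
  · exact e.cent_v c

omit c in
theorem comm_t {A : M false} (h : φ A * φ t0 = φ t0 * φ A) : A * t0 = t0 * A := by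
  rw [← map_mul, ← map_mul, e.eq_iff, ← mul_assoc] at h
  refine h.resolve_right fun h => ?_
  exact absurd (int1 tmBC (P := fun _ => false) (by decide +kernel) cds.2.2.2.2.2.2.2.1
    (by simp only [cd_mul, cds]; decide +kernel) h (zs_false A)) (by simp)

theorem cent_t : IsSylowIn 3 ((Pat false mkD).map φ) (centralizer {φ t0}) ∧
    centralizer {φ t0} ≤ φ.range := by
  have hDS : Pat false mkD ≤ Pat false mkS := pat_le (by decide +kernel)
  have hz : (z0 : M false) ∈ Pat false mkD := mem_Pat.mpr (by simp only [cds]; decide +kernel)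
  have hy : (y0 : M false) ∈ Pat false mkD := mem_Pat.mpr (by simp only [cds]; decide +kernel)
  have tc' := (cds (b := false)).2.2.2.2.2.2.2.1
  have hDL : (Pat false mkD).map φ ≤ centralizer {φ t0} := by
    rintro _ ⟨A, hA, rfl⟩
    have := allD (P := fun c => Nat.beq (mul c tc) (mul tc c)) (by decide +kernel) hA
    rw [← tc', ← cd_mul, ← cd_mul, beq_cd] at this
    exact mem_cent.mpr (by rw [← map_mul, this, map_mul])
  have fu : ∀ {A X Y : M false}, φ A * φ t0 = φ t0 * φ A → X ∈ Pat false mkD → Y ∈ Pat false mkD →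
      φ A * φ X * (φ A)⁻¹ = φ Y →
      (Y = X ∨ Y * X = 1) ∧ (X = y0 → A ^ 9 = 1 → A ∈ Pat false mkD) := fun {A X Y} h hX hY h1 => by
    have h2 := allD (allD (int1 ttBC (P := fun a => spanAll (fun x => force (mul a x) fun d =>
      spanAll (fun y => bor (!Nat.beq d (mul y a)) (band (bor (Nat.beq y x) (Nat.beq (mul y x) one))
        (bor (!Nat.beq x yc) (bor (!Nat.beq (pw a 9) one) (inPat mkD a))))) bsD one) bsD one)
      (by decide +kernel) tc' tc' (e.comm_t h) (zs_false A)) hX |> fun h => by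
        simpa only [force_eq] using h) hY
    simp only [bor_eq_true, band_eq_true, Bool.not_eq_true', ← Bool.not_eq_true, Nat.beq_eq,
      ← cd_mul, ← cd_pow, ← cd_one (b := false), ← (cds (b := false)).2.2.2.2.2.1, cd_eq,
      ← mem_Pat] at h2
    have h3 := h2.resolve_left (not_not.mpr (e.conj_lift (S_pow (hDS hX)) (S_pow (hDS hY)) h1))
    exact ⟨h3.1, fun h4 h5 => (h3.2.resolve_left (not_not.mpr h4)).resolve_left (not_not.mpr h5)⟩
  have hD : IsSylowIn 3 ((Pat false mkD).map φ) (centralizer {φ t0}) :=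
    syl_of_self hDL (pS.to_le (map_mono hDS)) fun g hg h3 hn => by
      obtain ⟨A, rfl, h9⟩ := e.lift9 (c.norm (map_le_range φ _) ⟨_, hz, rfl⟩ hn) h3
      obtain ⟨Y, hY, h⟩ := hn _ ⟨_, hy, rfl⟩
      exact ⟨A, (fu (mem_cent.mp hg) hy hY h.symm).2 rfl h9, rfl⟩
  have k : ∀ (A : M false) (k : ℕ), k < 6 → (inPat mkS (cd A) && Nat.beq (cls (cd A)) k) = true →
      centralizer {φ A} ≤ φ.range := fun A k hk h => by
    rw [Bool.and_eq_true, Nat.beq_eq] at h
    exact e.cent_cls (memS h.1) h.2 hk (e.cent_rep c k hk)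
  refine ⟨hD, c.st (Z := ⊥) (mem_map_of_mem φ hz) hD bot_le (by simp) ?_ ?_ (q := φ y0) ⟨_, hy, rfl⟩ e.z1
    (e.ne_one ?_) ?_ ?_ ?_ ⟨φ s0, mem_cent.mpr (by rw [← map_mul, relP.st, map_mul]), ?_⟩
    fun O _ hn hc => ?_⟩
  · rintro _ ⟨A, hA, rfl⟩ _ ⟨B, hB, rfl⟩
    have h5 := allD (allD (P := fun a => spanAll (fun b => Nat.beq (mul a b) (mul b a)) bsD one)
      (by decide +kernel) hA) hB
    rw [← cd_mul, ← cd_mul, beq_cd] at h5
    rw [← map_mul, h5, map_mul, mul_inv_cancel]; exact one_mem _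
  · rintro _ ⟨A, hA, rfl⟩
    have h5 := allD (P := fun a => Nat.beq (pw a 3) one) (by decide +kernel) hA
    rw [← cd_pow, ← cd_one (b := false), beq_cd] at h5
    rw [← map_pow, h5, map_one]; exact one_mem _
  · simp only [cds]; decide +kernel
  · rw [← map_inv, ← map_mul]; exact e.ne_one (by simp only [invs, cd_mul, cds]; decide +kernel)
  · rw [← map_mul]; exact e.ne_one (by simp only [cd_mul, cds]; decide +kernel)
  · rintro _ ⟨X, hX, rfl⟩ g hg ⟨Y, hY, e1⟩
    obtain ⟨_, hL, ⟨A, rfl⟩, e2, -⟩ := c.fuse (hDL ⟨_, hz, rfl⟩) hg (zS (hDS hX)) (e1 ▸ zS (hDS hY))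
    rw [← e1, ← map_inv, ← map_mul, ← map_mul]
    refine (fu (mem_cent.mp hL) hX hY (e2.trans e1.symm)).1.imp (fun h => ?_) fun h => ?_ <;>
      simp [h]
  · rintro _ ⟨A, hA, rfl⟩
    have h5 := allD (P := fun a => Nat.beq (mul (mul (mul sc a) sc) a) one) (by decide +kernel) hA
    rw [← (cds (b := false)).2.2.2.2.2.2.2.2.1, ← cd_mul, ← cd_mul, ← cd_mul,
      ← cd_one (b := false), beq_cd] at h5
    rw [← map_inv, invs.2.2.2.2.2.2.2.2.1, ← map_mul, ← map_mul, ← map_mul, h5, map_one]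
    exact one_mem _
  · refine e.two (hDS hz) (hDS hy) ?_ (hn (hDL ⟨_, hz, rfl⟩)) (hn (hDL ⟨_, hy, rfl⟩)) hc c.cent
      (k _ 1 (by norm_num) ?_) (k _ 3 (by norm_num) ?_) (k _ 2 (by norm_num) ?_) <;>
      simp only [cd_mul, cds] <;> decide +kernel

/-- **The parabolic case.** -/
theorem endB : φ.range = ⊤ := by
  obtain ⟨hD, hC⟩ := e.cent_t c
  have hU : Lst (Gen false gU) LU := lst_of_chk (W := WU) (by decide +kernel)
  have hc : Nat.card (Gen false gU) = 2 ^ 5 := hU.card.trans (by decide +kernel)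
  have hS : IsSylowIn 2 (Gen false gU) ⊤ := ⟨le_top, IsPGroup.of_card hc, by
    have := (Gen false gU).card_mul_index
    rw [hc, card_false] at this
    rw [relIndex_top_right]; omega⟩
  have tc' := (cds (b := false)).2.2.2.2.2.2.2.1
  refine eq_top_of_strong (t := φ t0) ⟨e.ne_one (by simp only [cds]; decide +kernel), by
    rw [← map_mul, relP.t2, map_one]⟩ ⟨_, rfl⟩ hC ?_ Nat.prime_three ?_ fun k hk ho =>
      (e.strong c (e.cent_rep c) hk (fun h => by simp [h] at ho) (ho ▸ pow_orderOf_eq_one k)).ctl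
  · rintro _ ⟨A, rfl⟩ ⟨h1, h2⟩
    have h3 : A * A = 1 ∨ A * A = m0 := (e.ker _).mp (by rwa [map_mul])
    obtain ⟨B, -, hB⟩ := conj_into hS (mem_top A) (k := 2) (by
      rw [show A ^ 2 ^ 2 = A * A * (A * A) by simp [pow_succ, mul_assoc]]
      rcases h3 with h | h <;> rw [h] <;> simp [m0_sq])
    have h4 := hU.all (P := fun a => bor (!memL [one, m1c] (mul a a)) (bor (memL [one, m1c] a)
      (force (lkp cjU a) fun g => band (ok false g)
        (memL [mul tc g, ng (mul tc g)] (mul g a))))) (by decide +kernel) hB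
    simp only [force_eq, bor_eq_true, band_eq_true, Bool.not_eq_true', ← Bool.not_eq_true,
      memL_iff, List.mem_cons, List.not_mem_nil, or_false] at h4
    have h5 : ∀ X : M false, cd X = one ∨ cd X = m1c ↔ φ X = 1 := fun X => by
      rw [e.ker, ← cd_eq, ← cd_eq, cd_one, cds.2.2.2.2.2.2.2.2.2.2.1]
    rw [← cd_mul, h5, h5] at h4
    obtain ⟨h6, h7⟩ := (h4.resolve_left (not_not.mpr (by
      simp only [map_mul, map_inv]
      calc _ = φ B * (φ A * φ A) * (φ B)⁻¹ := by group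
        _ = 1 := by rw [h2]; group))).resolve_left (by simpa using h1)
    rw [← cd_el h6, ← tc', ← cd_mul, ← cd_mul, ← cd_ng, cd_eq, cd_eq, ← e.eq_iff] at h7
    refine ⟨φ (el false (lkp cjU (cd (B * A * B⁻¹))) * B)⁻¹, ⟨_, rfl⟩, ?_⟩
    simp only [map_mul, map_inv] at h7 ⊢
    rw [← conj_eq_iff.mpr h7]; group
  · by_contra h
    have h1 : IsSylowIn 3 ((Pat false mkD).map φ) φ.range := ⟨map_le_range φ _, hD.isPGroup, by
      rw [← relIndex_mul_relIndex _ _ _ hD.le hC]
      exact fun h' => (Nat.prime_three.dvd_mul.mp h').elim hD.not_dvd h⟩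
    have hDS : Pat false mkD ≤ Pat false mkS := pat_le (by decide +kernel)
    have hb : (b0 : M false) ∈ Pat false mkS := memS (by simp only [cds]; decide +kernel)
    obtain ⟨A, hA, h2⟩ : φ b0 ∈ (Pat false mkD).map φ :=
      h1.eq_of_le pS (map_le_range φ _) (map_mono hDS) ▸ ⟨_, hb, rfl⟩
    rw [e.inj9 (S_pow (hDS hA)) (S_pow hb) h2, SetLike.mem_coe, mem_Pat] at hA
    revert hA
    simp only [cds]; decide +kernel

end Emb

end Cfsg.Agent.L0.L43
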