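import Cfsg.Agent.L0.L43Emb
import Cfsg.Agent.L0.HomCode

/-!
# Control of the central element, and the centralizer of an element of type `(2,2)`
-/

set_option autoImplicit false
set_option maxRecDepth 100000

namespace Cfsg.Agent.L0.L43

open Cfsg.Agent.H4 Subgroup Cfsg.Agent.H9 Cfsg.Agent.H1.T3
open scoped Pointwise

variable {b : Bool} {G : Type*} [Group G]

theorem cent_conj {H : Subgroup G} {h x : G} (hh : h ∈ H)
    (c : centralizer {h * x * h⁻¹} ≤ H) : centralizer {x} ≤ H := fun g hg => by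
  have := c (show h * g * h⁻¹ ∈ _ from mem_cent.mpr (by
    calc _ = h * (g * x) * h⁻¹ := by group
      _ = _ := by rw [mem_cent.mp hg]; group))
  simpa [mul_assoc] using H.mul_mem (H.mul_mem (H.inv_mem hh) this) hh

attribute [local irreducible] cls inPat mul pw ng pmPat

theorem cls_conj {A : M b} (hA : A ∈ Pat b mkS) {k : ℕ} (hk : cls (cd A) = k) (h : k < 6) :
    ∃ g : M b, g * A * g⁻¹ = rep k :=
  hk ▸ ((cls_spec hA).resolve_left fun h' => by omega).2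

theorem cls_spec' {A : M b} (hA : A ∈ Pat b mkS) : ∃ k,
    (k = 7 ∧ (A = 1 ∨ A ^ 3 ≠ 1)) ∨ (k < 6 ∧ ∃ g : M b, g * A * g⁻¹ = rep k) := ⟨_, cls_spec hA⟩

theorem memS {A : M b} (h : inPat mkS (cd A) = true) : A ∈ Pat b mkS := mem_Pat.mpr h

theorem k1_spec : el true k1c * c0 * (el true k1c)⁻¹ = z0 := by
  rw [conj_eq_iff, ← cd_eq, cd_mul, cd_mul, cd_el (by decide +kernel)]
  simp only [cds]; decide +kernel

theorem k2_spec : el true k2c * v0 * (el true k2c)⁻¹ = e0 := by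
  rw [conj_eq_iff, ← cd_eq, cd_mul, cd_mul, cd_el (by decide +kernel)]
  simp only [cds2]; decide +kernel

/-- The smaller of two numbers. -/
noncomputable def mn (a c : ℕ) : ℕ := Bool.rec c a (Nat.ble a c)

/-- A canonical representative modulo `±⟨f⟩`. -/
noncomputable def can (c : ℕ) : ℕ := force c fun c => force (mul c fc) fun c1 =>
  force (mul c1 fc) fun c2 => mn (mn (mn c c1) (mn c2 (ng c))) (mn (ng c1) (ng c2))

theorem mn_ind {P : ℕ → Prop} {a c : ℕ} (h1 : P a) (h2 : P c) : P (mn a c) := by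
  unfold mn; cases Nat.ble a c <;> assumption

namespace Emb

variable {φ : M b →* G} (e : Emb φ)
include e

theorem can_spec (A : M b) : ∃ B, cd B = can (cd A) ∧ (φ A)⁻¹ * φ B ∈ zpowers (φ f0) := by
  have h1 : ∀ {c}, (∃ B, cd B = c ∧ (φ A)⁻¹ * φ B ∈ zpowers (φ f0)) →
      ∃ B, cd B = mul c fc ∧ (φ A)⁻¹ * φ B ∈ zpowers (φ f0) := fun ⟨B, h, h'⟩ =>
    ⟨B * f0, by rw [cd_mul, h, cds2.1], by
      rw [map_mul, ← mul_assoc]; exact mul_mem h' (mem_zpowers _)⟩
  have h2 : ∀ {c}, (∃ B, cd B = c ∧ (φ A)⁻¹ * φ B ∈ zpowers (φ f0)) →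
      ∃ B, cd B = ng c ∧ (φ A)⁻¹ * φ B ∈ zpowers (φ f0) := fun ⟨B, h, h'⟩ =>
    ⟨m0 * B, by rw [cd_ng, h], by rwa [e.mm]⟩
  have h0 : ∃ B, cd B = cd A ∧ (φ A)⁻¹ * φ B ∈ zpowers (φ f0) := ⟨A, rfl, by simp⟩
  simp only [can, force_eq]
  let P := fun c => ∃ B, cd B = c ∧ (φ A)⁻¹ * φ B ∈ zpowers (φ f0)
  exact mn_ind (P := P) (mn_ind (P := P) (mn_ind (P := P) h0 (h1 h0))
    (mn_ind (P := P) (h1 (h1 h0)) (h2 h0))) (mn_ind (P := P) (h2 (h1 h0)) (h2 (h1 (h1 h0))))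

theorem can_eq {A B : M b} (h : can (cd A) = can (cd B)) : (φ A)⁻¹ * φ B ∈ zpowers (φ f0) := by
  obtain ⟨C, h1, h2⟩ := e.can_spec A
  obtain ⟨D, h3, h4⟩ := e.can_spec B
  rw [← cd_eq.mp (h1.trans (h.trans h3.symm))] at h4
  simpa [mul_assoc] using mul_mem h2 (inv_mem h4)

attribute [local irreducible] can in
open Code Equiv in
/-- The centralizer of `f` modulo `f`, identified with a permutation group by tables. -/
theorem exists_iota {X : Type*} [Group X] (π : centralizer {φ f0} →* X)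
    (hk : ∀ g, π g = 1 ↔ (g : G) ∈ zpowers (φ f0)) {SK : Set (Perm (Fin 9))} {gs L : List ℕ}
    (hS : ∀ g ∈ SK, Code.enc g ∈ gs) (hK : Lists (closure SK) L) (tb ib : ℕ → ℕ) {o : ℕ}
    (ho : Code.enc (1 : Perm (Fin 9)) = o) (h0 : tb o = one)
    (h1 : allL (fun c => force (tb c) fun d => band (ok b d) (band (Nat.beq (mul d fc) (mul fc d))
      (bor (Nat.beq c o) (!memL [one, fc, mul fc fc, m1c, ng fc, ng (mul fc fc)] d)))) L = true)
    (h2 : allL (fun g => allL (fun c =>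
      Nat.beq (can (tb (mulc 9 g c))) (can (mul (tb g) (tb c)))) L) gs = true)
    (h4 : ∀ A : M b, A * f0 = f0 * A → force (can (cd A)) (fun d => force (ib d) fun c =>
      band (memL L c) (Nat.beq d (can (tb c)))) = true) :
    ∃ ι : closure SK →* X, Function.Injective ι ∧ (∀ g, π g ∈ ι.range ↔ (g : G) ∈ φ.range) ∧
      ∀ k : closure SK, ∃ A : M b, cd A = tb (Code.enc (k : Perm (Fin 9))) ∧ A * f0 = f0 * A ∧
        ∀ h, ι k = π ⟨φ A, h⟩ := by
  classical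
  have hf9 : (f0 : M b) ^ 9 = 1 := S_pow (memS (by simp only [cds2]; decide +kernel))
  have hc : ∀ A : M b, A * f0 = f0 * A → φ A ∈ centralizer {φ f0} := fun A h =>
    mem_cent.mpr (by rw [← map_mul, h, map_mul])
  have k1 : ∀ c ∈ L, cd (el b (tb c)) = tb c ∧ el b (tb c) * f0 = f0 * el b (tb c) ∧
      (c = o ∨ tb c ∉ [one, fc, mul fc fc, m1c, ng fc, ng (mul fc fc)]) := fun c h => by
    have := allL_iff.mp h1 c h
    simp only [force_eq, band_eq_true, bor_eq_true, Nat.beq_eq, Bool.not_eq_true',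
      ← Bool.not_eq_true, memL_iff] at this
    exact ⟨cd_el this.1, cd_eq.mp (by rw [cd_mul, cd_mul, cd_el this.1, cds2.1, this.2.1]),
      this.2.2⟩
  let F : ℕ → X := fun c => if h : φ (el b (tb c)) ∈ centralizer {φ f0} then π ⟨_, h⟩ else 1
  have hF : ∀ c (h : c ∈ L), F c = π ⟨φ (el b (tb c)), hc _ (k1 c h).2.1⟩ := fun c h =>
    dif_pos (hc _ (k1 c h).2.1)
  have eq : ∀ x y : centralizer {φ f0}, (x : G)⁻¹ * y ∈ zpowers (φ f0) → π x = π y := fun x y h => by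
    rw [← inv_mul_eq_one, ← map_inv, ← map_mul, hk]; exact h
  obtain ⟨ι, hι⟩ := exists_hom_of_fun (by norm_num) SK L hK.mem F (by
    rw [hF _ (hK.mem _ (one_mem _)), hk]
    show φ _ ∈ _
    rw [cd_eq.mp ((k1 _ (hK.mem _ (one_mem _))).1.trans (by rw [ho, h0, cd_one])), map_one]
    exact one_mem _) fun g hg c h => by
      obtain ⟨p, hp, rfl⟩ := hK.cd c h
      have hg' := hK.mem _ (subset_closure hg)
      have hm := hK.mem _ (mul_mem (subset_closure hg) hp)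
      rw [Code.enc_mul (by norm_num)] at hm
      rw [hF _ hm, hF _ hg', hF _ h, ← map_mul]
      refine eq _ _ ?_
      show (φ _)⁻¹ * (φ _ * φ _) ∈ _
      rw [← map_mul]
      refine e.can_eq ?_
      rw [cd_mul, (k1 _ hm).1, (k1 _ hg').1, (k1 _ h).1]
      exact Nat.eq_of_beq_eq_true (allL_iff.mp (allL_iff.mp h2 _ (hS g hg)) _ h)
  have hι' : ∀ k : closure SK, ι k = π ⟨φ (el b (tb (Code.enc (k : Perm (Fin 9))))),
      hc _ (k1 _ (hK.mem _ k.2)).2.1⟩ := fun k => (hι k).trans (hF _ (hK.mem _ k.2))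
  have hz : zpowers (φ f0) ≤ φ.range := zpowers_le_of_mem ⟨_, rfl⟩
  refine ⟨ι, (injective_iff_map_eq_one ι).mpr fun k h => ?_, fun g => ⟨fun ⟨k, h⟩ => ?_, ?_⟩,
    fun k => ⟨_, (k1 _ (hK.mem _ k.2)).1, (k1 _ (hK.mem _ k.2)).2.1, fun _ => hι' k⟩⟩
  · obtain ⟨h5, -, h6⟩ := k1 _ (hK.mem _ k.2)
    refine (hK.eq_iff _ _).mpr ((h6.resolve_right fun h7 => h7 ?_).trans ho.symm)
    have f3 : (f0 : M b) * (f0 * f0) = 1 := by
      simp only [← cd_eq, cd_mul, cds2, cd_one]; decide +kernel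
    rw [hι', hk, mem_zpowers_three (by rw [← map_pow, pow_succ', sq, f3, map_one]), ← map_inv,
      inv_eq_of_mul_eq_one_right f3, ← map_one φ] at h
    simp only [e.eq_iff, ← cd_eq, cd_ng] at h
    simp only [cd_mul, cds2, cd_one, h5] at h
    rw [show ng one = m1c by decide +kernel] at h
    rcases h with (h | h) | (h | h) | h | h <;> simp only [h, List.mem_cons, true_or, or_true]
  · rw [hι', ← inv_mul_eq_one, ← map_inv, ← map_mul, hk] at h
    exact (φ.range.mul_mem_cancel_left (inv_mem ⟨_, rfl⟩)).mp (hz h)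
  · rintro ⟨A, hA⟩
    have h5 := h4 A (e.comm_lift hf9 (hA ▸ mem_cent.mp g.2))
    simp only [force_eq, band_eq_true, Nat.beq_eq, memL_iff] at h5
    obtain ⟨p, hp, h6⟩ := hK.cd _ h5.1
    refine ⟨⟨p, hp⟩, (hι' _).trans (eq _ _ ?_).symm⟩
    rw [← hA]
    exact e.can_eq (by rw [(k1 _ (hK.mem _ hp)).1, h6]; exact h5.2)

theorem conj_cls {A : M b} (hA : A ∈ Pat b mkS) {k : ℕ} (hk : cls (cd A) = k) (h : k < 6) :
    ∃ g : M b, φ g * φ A * (φ g)⁻¹ = φ (rep k) :=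
  let ⟨g, hg⟩ := cls_conj hA hk h
  ⟨g, by rw [← hg]; simp⟩

theorem cent_cls {A : M b} (hA : A ∈ Pat b mkS) {k : ℕ} (hk : cls (cd A) = k) (h : k < 6)
    (c : centralizer {φ (rep k)} ≤ φ.range) : centralizer {φ A} ≤ φ.range :=
  let ⟨g, hg⟩ := e.conj_cls hA hk h
  cent_conj ⟨g, rfl⟩ (hg ▸ c)

theorem cube_lift {A : M b} (hA : A ∈ Pat b mkS) (h : φ A ^ 3 = 1) : A ^ 3 = 1 :=
  e.inj9 (by rw [← pow_mul, mul_comm, pow_mul, S_pow hA, one_pow]) (one_pow _) (by simpa using h)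

variable [Finite G]

omit e in
theorem nv {φ : M false →* G} (e : Emb φ) (nc : ∀ g, g * φ z0 * g⁻¹ ≠ φ c0) (g : G) :
    g * φ z0 * g⁻¹ ≠ φ v0 := by
  intro hg
  have hY : Pat false mkY2 ≤ Pat false mkS := pat_le (by decide +kernel)
  have k1 : ∀ B ∈ Pat false mkS, cls (cd B) = 1 → ¬ IsConj (φ z0) (φ B) := fun B hB h h' => by
    obtain ⟨a, ha⟩ := e.conj_cls hB h (by norm_num)
    obtain ⟨x, hx⟩ := isConj_iff.mp (h'.trans (isConj_iff.mpr ⟨_, ha⟩))
    exact nc x hx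
  refine e.notConj (w := a0) (memS (by simp only [cds]; decide +kernel))
    (memS (by simp only [cds2]; decide +kernel))
    (by simp only [Ne, ← cd_eq, cd_mul, cds, cds2]; decide +kernel)
    (fun A _ h2 => int1 vvC (by decide +kernel) cds2.2.2.2.1 cds2.2.2.2.1 h2 (zs_false A))
    (fun n _ h => ?_) hg
  have k2 : ∀ A ∈ Pat false mkS, A * v0 = v0 * A → cls (cd A) = 1 →
      ∃ B ∈ Pat false mkY2, n * φ A * n⁻¹ = φ B := fun A hA h1 h2 => by
    obtain ⟨B, hB, h3, h4⟩ := h A hA h1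
    have h5 := allS (P := fun c => bor (!Nat.beq (mul c vc) (mul vc c)) (bor (inPat mkY2 c)
      (Nat.beq (cls c) 5))) (by decide +kernel) hB
    simp only [bor_eq_true, Bool.not_eq_true', ← Bool.not_eq_true, Nat.beq_eq] at h5
    replace h5 := h5.resolve_left (not_not.mpr (by
      rw [← (cds2 (b := false)).2.2.2.1, ← cd_mul, ← cd_mul, h3]))
    refine ⟨B, mem_Pat.mpr (h5.resolve_right fun h6 => k1 A hA h2 ?_), h4⟩
    obtain ⟨a, ha⟩ := e.conj_cls hB h6 (by norm_num)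
    exact ((isConj_iff.mpr ⟨g, hg⟩).trans (isConj_iff.mpr ⟨_, ha⟩).symm).trans
      (isConj_iff.mpr ⟨n, h4⟩).symm
  obtain ⟨B, hB, e1⟩ := k2 c0 (memS (by simp only [cds]; decide +kernel))
    (by simp only [← cd_eq, cd_mul, cds, cds2]; decide +kernel) (by simp only [cds]; decide +kernel)
  obtain ⟨C, hC, e2⟩ := k2 (c0 * z0) (memS (by simp only [cd_mul, cds]; decide +kernel))
    (by simp only [← cd_eq, cd_mul, cds, cds2]; decide +kernel)
    (by simp only [cd_mul, cds]; decide +kernel)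
  have e3 : n * φ z0 * n⁻¹ = φ (B⁻¹ * C) := by
    rw [map_mul, map_inv, ← e1, ← e2, map_mul]; group
  have h7 := allY2 (P := fun c => bor (inPat mkZ c) (Nat.beq (cls c) 1)) (by decide +kernel)
    (mul_mem (inv_mem hB) hC)
  rw [bor_eq_true, Nat.beq_eq] at h7
  rw [e3]
  exact memZ (mem_Pat.mpr (h7.resolve_right fun h8 =>
    k1 _ (hY (mul_mem (inv_mem hB) hC)) h8 (isConj_iff.mpr ⟨n, e3⟩)))

theorem ctl (nc : b = false → ∀ g, g * φ z0 * g⁻¹ ≠ φ c0) : Ctl φ.range (φ z0) := by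
  refine ⟨⟨_, rfl⟩, z3, fun g hg => ?_⟩
  have h3 : (g * φ z0 * g⁻¹) ^ 3 = 1 := by rw [conj_pow, z3]; group
  obtain ⟨B, A, hA, h⟩ := e.to_S hg (k := 1) h3
  have key : ∀ C, φ C * g * φ z0 * (φ C * g)⁻¹ = φ z0 → g ∈ φ.range := fun C h =>
    (φ.range.mul_mem_cancel_left ⟨C, rfl⟩).mp (e.cz (mem_cent.mpr (conj_eq_iff.mp h)))
  obtain ⟨k, ⟨-, rfl | h1⟩ | ⟨h1, C, h2⟩⟩ := cls_spec' hA
  · exact absurd (by simpa using h) e.z1
  · exact absurd (e.cube_lift hA (by rw [← h, conj_pow, h3]; group)) h1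
  have h4 : ∀ D, φ (D * C * B) * g * φ z0 * (φ (D * C * B) * g)⁻¹ = φ (D * rep k * D⁻¹) :=
    fun D => by simp only [← h2, map_mul, map_inv, ← h]; group
  have h5 := h4 1
  rw [one_mul (rep _), inv_one, mul_one] at h5
  interval_cases k
  · exact key _ h5
  · cases b
    · exact absurd h5 (nc rfl _)
    · exact key _ ((h4 _).trans (congrArg φ k1_spec))
  · exact absurd h5 (e.nf _)
  · exact absurd h5 (e.ng' _)
  · exact absurd h5 (e.ne' _)
  · cases b
    · exact absurd h5 (nv e (nc rfl) _)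
    · exact absurd ((h4 _).trans (congrArg φ k2_spec)) (e.ne' _)

variable (c : Ctl φ.range (φ z0))
include c

omit [Finite G] in
theorem ctl0 {A : M b} (hA : A ∈ Pat b mkS) (hk : cls (cd A) = 0) : Ctl φ.range (φ A) := by
  obtain ⟨g, hg⟩ := e.conj_cls hA hk (by norm_num)
  have := c.conj (h := (φ g)⁻¹) (inv_mem ⟨g, rfl⟩)
  rwa [show φ z0 = φ (rep 0) from rfl, ← hg, show ∀ x y : G, x⁻¹ * (x * y * x⁻¹) * x⁻¹⁻¹ = y from
    fun x y => by group] at this

omit c in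
/-- Generation by centralizers, with the hypotheses checked on codes. -/
theorem two {O H : Subgroup G} {p q : M b} (hp : p ∈ Pat b mkS) (hq : q ∈ Pat b mkS)
    (h : (Nat.beq (pw (cd p) 3) one && Nat.beq (pw (cd q) 3) one &&
      Nat.beq (mul (cd p) (cd q)) (mul (cd q) (cd p)) && !Nat.beq (cd p) one &&
      !Nat.beq (cd q) one && !Nat.beq (cd q) (cd p) && !Nat.beq (mul (cd q) (cd p)) one) = true)
    (np : φ p ∈ normalizer (O : Set G)) (nq : φ q ∈ normalizer (O : Set G))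
    (hO : (Nat.card O).Coprime 3) (c1 : centralizer {φ p} ≤ H) (c2 : centralizer {φ q} ≤ H)
    (c3 : centralizer {φ (p * q)} ≤ H) (c4 : centralizer {φ (p * (q * q))} ≤ H) : O ≤ H := by
  simp only [Bool.and_eq_true, Bool.not_eq_true', ← Bool.not_eq_true, Nat.beq_eq, ← cd_pow,
    ← cd_mul, ← cd_one (b := b), cd_eq] at h
  obtain ⟨⟨⟨⟨⟨⟨h1, h2⟩, h3⟩, h4⟩, h5⟩, h6⟩, h7⟩ := h
  have i1 : ∀ {A B : M b}, A ∈ Pat b mkS → B ∈ Pat b mkS → A ≠ B → φ A ≠ φ B :=
    fun hA hB h h' => h (e.inj9 (S_pow hA) (S_pow hB) h')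
  refine le_of_two (by rw [← map_pow, h1, map_one]) (by rw [← map_pow, h2, map_one])
    (by rw [← map_mul, h3, map_mul]) (by simpa using i1 hp (one_mem _) h4)
    (by simpa using i1 hq (one_mem _) h5) (i1 hq hp h6)
    (by simpa using i1 hq (inv_mem hp) fun h => h7 (by rw [h, inv_mul_cancel])) np nq hO c1 c2
    (by rwa [← map_mul]) (by
      rwa [← map_inv, ← map_mul, inv_eq_of_mul_eq_one_right (a := q) (b := q * q) (by
        rw [← h2, pow_succ', sq])])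

theorem two_za {O : Subgroup G} (np : φ z0 ∈ normalizer (O : Set G))
    (nq : φ a0 ∈ normalizer (O : Set G)) (hO : (Nat.card O).Coprime 3) : O ≤ φ.range := by
  have k : ∀ A : M b, (inPat mkS (cd A) && Nat.beq (cls (cd A)) 0) = true →
      centralizer {φ A} ≤ φ.range := fun A h => by
    rw [Bool.and_eq_true, Nat.beq_eq] at h
    exact (e.ctl0 c (memS h.1) h.2).cent
  refine e.two (memS ?_) (memS ?_) ?_ np nq hO c.cent (k _ ?_) (k _ ?_) (k _ ?_) <;>
    simp only [cd_mul, cds] <;> decide +kernel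

theorem cent_e : centralizer {φ e0} ≤ φ.range := by
  have hQ : Pat b mkQ ≤ Pat b mkS := pat_le (by decide +kernel)
  have he : (e0 : M b) ∈ Pat b mkS := memS (by simp only [cds2]; decide +kernel)
  have k : ∀ A : M b, (inPat mkS (cd A) && Nat.beq (cls (cd A)) 0) = true →
      centralizer {φ A} ≤ φ.range := fun A h => by
    rw [Bool.and_eq_true, Nat.beq_eq] at h
    exact (e.ctl0 c (memS h.1) h.2).cent
  have m : ∀ A : M b, A * e0 = e0 * A → φ A ∈ centralizer {φ e0} := fun A h =>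
    mem_cent.mpr (by rw [← map_mul, h, map_mul])
  have hz := m z0 (S_z he).symm
  refine c.cent3 hz ?_ fun O _ hN hO => ?_
  · rintro _ hg ⟨A, rfl⟩
    obtain ⟨B, hB, h⟩ := e.pm (e.cent_e0 (e.comm_lift (S_pow he) (mem_cent.mp hg)))
    rw [← h, ← map_mul, ← map_mul, S_z (hQ hB)]
    exact ⟨⟨2, by rw [← map_pow, show 3 ^ 2 = 9 from rfl, S_pow (hQ hB), map_one]⟩, rfl⟩
  · refine e.two (q := b0) (memS ?_) (memS ?_) ?_ (hN (le_normalizer hz))
      (hN (le_normalizer (m b0 (cd_eq.mp ?_)))) hO c.cent (k _ ?_) (k _ ?_) (k _ ?_) <;>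
      simp only [cd_mul, cds, cds2] <;> decide +kernel

end Emb

end Cfsg.Agent.L0.L43
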