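import Cfsg.Agent.L0.McLData
import Cfsg.Agent.L0.Leech
import Cfsg.Agent.L0.Cover

/-!
# Kernel computations for the McLaughlin group on 275 points
-/

set_option autoImplicit false

namespace Cfsg.Agent.L0.McL

open Cfsg.Agent.H4 Cfsg.Agent.H4.Golay Cfsg.Agent.L0.Leech Cfsg.Agent.L0.Cover Equiv

/-- The stabilizer chain. -/
noncomputable abbrev mC : List Level := [mL0, mL1, mL2, mL3, mL4]

theorem row0a : allR (rowChk 12 4095 275 mL0 [mL1, mL2, mL3, mL4]) 0 70 = true := by
  decide +kernel

theorem row0b : allR (rowChk 12 4095 275 mL0 [mL1, mL2, mL3, mL4]) (0 + 70) 70 = true := by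
  decide +kernel

theorem row0c : allR (rowChk 12 4095 275 mL0 [mL1, mL2, mL3, mL4]) (0 + (70 + 70)) 70 = true := by
  decide +kernel

theorem row0d :
    allR (rowChk 12 4095 275 mL0 [mL1, mL2, mL3, mL4]) (0 + (70 + 70 + 70)) 65 = true := by
  decide +kernel

theorem row1 : allB (rowChk 12 4095 275 mL1 [mL2, mL3, mL4]) mL1.m = true := by decide +kernel

theorem ss2 : ssChk 12 4095 275 [mL2, mL3, mL4] = true := by decide +kernel

theorem ssM : SSOK 12 4095 275 mC :=
  ⟨by decide +kernel, allB_of_allR (allR_append (allR_append (allR_append row0a row0b) row0c) row0d),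
    by decide +kernel, row1, SSOK_of_ssChk ss2⟩

theorem validM : ∀ c ∈ gensOf mC, InG 12 4095 (⊤ : Subgroup (Perm (Fin 275))) c := by
  intro c hc
  rcases List.mem_cons.mp hc with rfl | hc
  · exact permChk_sound (d := chI) (by norm_num) (by decide +kernel)
  · rw [List.mem_singleton.mp hc]
    exact permChk_sound (d := cYI) (by norm_num) (by decide +kernel)

theorem ref1 : force (colF 24 16777216 16777213 275 adj 1 [114]) (cellN 24 16777216 275 31) ≤ 162 := by
  decide +kernel

theorem ref2 :
    force (colF 24 16777216 16777213 275 adj 1 [31, 114]) (cellN 24 16777216 275 205) ≤ 105 := by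
  decide +kernel

theorem ref3 :
    force (colF 24 16777216 16777213 275 adj 1 [205, 31, 114]) (cellN 24 16777216 275 25) ≤ 24 := by
  decide +kernel

theorem ref4 : force (colF 24 16777216 16777213 275 adj 3 [25, 205, 31, 114])
    (cellN 24 16777216 275 117) ≤ 16 := by
  decide +kernel

theorem ref5 : force (colF 24 16777216 16777213 275 adj 4 [117, 25, 205, 31, 114])
    (discr 24 16777216 275) = true := by
  decide +kernel

theorem refOK : RefOK 24 16777216 16777213 275 adj 4
    [(114, 0, 275), (31, 1, 162), (205, 1, 105), (25, 1, 24), (117, 3, 16)] [] :=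
  ⟨by norm_num, by decide +kernel, by norm_num, ref1, by norm_num, ref2, by norm_num, ref3,
    by norm_num, ref4, ref5⟩

/-- The code `c` preserves the graph. -/
noncomputable def gChk (c : ℕ) : Bool :=
  allB (fun i => force (adj.get i) fun a =>
    force (adj.get (Nat.div (app 4095 c (Nat.mul 12 i)) 12)) fun a' =>
      allB (fun j => Nat.beq (Nat.land (Nat.shiftRight a' (Nat.div (app 4095 c (Nat.mul 12 j)) 12)) 1)
        (Nat.land (Nat.shiftRight a j) 1)) 275) 275

theorem gChk_h : gChk ch = true := by decide +kernel

theorem gChk_Y : gChk cY = true := by decide +kernel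

theorem gChk_σ : gChk cσ = true := by decide +kernel

theorem aut_h : autChk Nh Hh = true := by decide +kernel

theorem aut_y : autChk Ny Hy = true := by decide +kernel

theorem PT_spec : allB (fun k => Nat.beq (PT.get k)
    (packN 24 (fun j => dg (XC.get j) k) 275)) 24 = true := by decide +kernel

/-- The products of `u` with all the vectors of the table. -/
noncomputable def rowR (u : ℕ → ℕ) : ℕ := sumN (fun k => Nat.mul (u k) (PT.get k)) 24

theorem dots : force (rowR fun _ => 1) (fun R1 => allB (fun i => force (XC.get i) fun c =>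
    force (rowR (dg c)) fun R => force (adj.get i) fun a => force (col 24 16777216 R1 i) fun s =>
      allB (fun j => force (Nat.add (col 24 16777216 R j) 98304) fun x =>
        force (Nat.mul 64 (Nat.add s (col 24 16777216 R1 j))) fun y =>
          band (Nat.beq (Bool.rec 0 1 (Nat.beq x (Nat.add y 8))) (Nat.land (Nat.shiftRight a j) 1))
            (Nat.beq (Bool.rec 0 1 (Nat.beq x (Nat.add y 32))) (Bool.rec 0 1 (Nat.beq i j)))) 275)
      275) = true := by decide +kernel

theorem XC_spec : allB (fun i => force (XC.get i) fun c =>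
    band (inL (dg c) (dg c 24) (Nat.shiftRight c 200))
      (band (Nat.beq (Nat.add (sumN (dg c) 24) (Nat.mul 4 (dg c 23))) 1816)
        (Nat.beq (Nat.add (dg c 23) (dg c 0)) 132))) 275 = true := by decide +kernel

/-- Digits of the candidate attached to an octad. -/
noncomputable def cand (m k : ℕ) : ℕ :=
  Bool.rec (Nat.add 64 (Nat.mul 2 (Nat.mod (Nat.shiftRight m k) 2)))
    (Nat.sub (Nat.add 65 (Bool.rec 0 4 (Nat.beq k 23))) (Nat.mul 2 (Nat.mod (Nat.shiftRight m k) 2)))
    (Nat.beq (Nat.mod m 2) 0)

/-- Weights of code words, and octads through the extra point. -/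
noncomputable def octChk (m : ℕ) : Bool :=
  force (pc m) fun p => bor (Nat.beq p 0) (band (Nat.ble 8 p) (bor (Nat.ble 9 p)
    (bor (Nat.beq (Nat.mod (Nat.shiftRight m 23) 2) 0)
      (force (packN 8 (cand m) 24) fun c => Bool.rec true false (allB (fun i =>
        Bool.rec true false (Nat.beq c (Nat.mod (XC.get i) (Nat.pow 2 192)))) 275)))))

theorem oct_chk : allSpan octChk rows 0 = true := by decide +kernel

end Cfsg.Agent.L0.McL
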