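import Cfsg.Agent.L0.McLChk

/-!
# The McLaughlin group of the Prelude as a permutation group on 275 points
-/

set_option autoImplicit false

namespace Cfsg.Agent.L0.McL

open Cfsg.Spor Cfsg.Agent.H4 Cfsg.Agent.H4.Golay Cfsg.Agent.L0.Leech Cfsg.Agent.L0.Cover Equiv Finset

/-- The model. -/
noncomputable def MM : Subgroup (Perm (Fin 275)) := Grp 12 4095 275 (gensOf mC)

theorem card_MM : Nat.card MM = 898128000 :=
  (ssM.card (by norm_num) validM).trans (by decide +kernel)

theorem dg_lt (c k : ℕ) : dg c k < 256 := Nat.mod_lt _ (by norm_num)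

theorem XC_mem (i : Fin 275) : vf (dg (XC.get i)) ∈ leechLattice := by
  have := allB_iff.mp XC_spec i i.2
  rw [force_eq, band_eq_true] at this
  exact inL_sound this.1

/-- The 275 vectors. -/
noncomputable def XV (i : Fin 275) : leechLattice := ⟨_, XC_mem i⟩

theorem col_rowR {u : ℕ → ℕ} (hu : ∀ k, u k < 256) {j : ℕ} (hj : j < 275) :
    col 24 16777216 (rowR u) j = dotN u (dg (XC.get j)) := by
  have h := allB_iff.mp PT_spec
  simp only [Nat.beq_eq] at h
  have h1 : rowR u = pk 24 275 fun j => dotN u (dg (XC.get j)) := by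
    simp only [rowR, dotN, sumN_eq]
    rw [← pk_sum]
    refine sum_congr rfl fun k hk => ?_
    rw [h k (mem_range.mp hk), packN, sumN_eq, pk]
    show u k * _ = _
    rw [mul_sum]
    refine sum_congr rfl fun i _ => ?_
    show u k * (_ <<< (24 * i)) = u k * _ * _
    rw [Nat.shiftLeft_eq, mul_assoc]
  rw [h1]
  refine pk_shift_mod (f := 24) (fun i _ => ?_) hj
  rw [dotN, sumN_eq]
  calc _ ≤ ∑ _k ∈ range 24, 256 * 256 :=
        sum_le_sum fun k _ => Nat.mul_le_mul (hu k).le (dg_lt _ k).le
    _ < _ := by norm_num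

theorem rec_beq (a b : ℕ) : (Bool.rec 0 1 (Nat.beq a b) : ℕ) = if a = b then 1 else 0 := by
  split_ifs with h
  · rw [h, Nat.beq_refl]
  · rw [Bool.eq_false_iff.mpr fun e => h (Nat.beq_eq.mp e)]

theorem bit_eq (a u : ℕ) : Nat.land (Nat.shiftRight a u) 1 = if a.testBit u then 1 else 0 := by
  show a >>> u &&& 1 = _
  rw [Nat.and_one_is_mod, Nat.shiftRight_eq_div_pow, ← Nat.toNat_testBit]
  cases a.testBit u <;> rfl

theorem dot_XV (i j : Fin 275) :
    (dotInt (XV i : GolayPt → ℤ) (XV j) = 8 ↔ (adj.get i).testBit j) ∧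
      (dotInt (XV i : GolayPt → ℤ) (XV j) = 32 ↔ i = j) := by
  have h := dots
  simp only [force_eq, allB_iff, band_eq_true, Nat.beq_eq, rec_beq, bit_eq] at h
  have h := h i i.2 j j.2
  have h1 : ∀ j : Fin 275, col 24 16777216 (rowR fun _ => 1) j = sumN (dg (XC.get j)) 24 := fun j => by
    rw [col_rowR (fun _ => by norm_num) j.2, dotN, sumN_eq, sumN_eq]
    exact sum_congr rfl fun k _ => one_mul _
  rw [h1, h1, col_rowR (dg_lt _) j.2] at h
  rw [show dotInt (XV i : GolayPt → ℤ) (XV j) = _ from dot_vf _ _, Fin.ext_iff]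
  simp only [Nat.add_eq, Nat.mul_eq] at h
  obtain ⟨h2, h3⟩ := h
  constructor
  · split_ifs at h2 with a b b
    · exact ⟨fun _ => b, fun _ => by omega⟩
    · exact ⟨fun _ => by omega, fun e => absurd e b⟩
  · split_ifs at h3 with a b b
    · exact ⟨fun _ => b, fun _ => by omega⟩
    · exact ⟨fun _ => by omega, fun e => absurd e b⟩

theorem XV_inj : Function.Injective XV := fun i j h =>
  (dot_XV i j).2.mp (by rw [← h]; exact (dot_XV i i).2.mpr rfl)

theorem dot_vecV (x : GolayPt → ℤ) : dotInt x vecV = -(∑ q, x q + 4 * x none) := by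
  have : ∀ q, x q * vecV q = -(x q + if q = none then 4 * x q else 0) := fun q => by
    rw [vecV]; split_ifs <;> ring
  simp only [dotInt, this, sum_neg_distrib, sum_add_distrib, sum_ite_eq', mem_univ, if_true]

theorem dot_vPair (x : GolayPt → ℤ) (p : GolayPt) : dotInt x (vPair p) = 4 * (x p + x none) := by
  simp only [dotInt, vPair, mul_add, sum_add_distrib, mul_ite, mul_zero, sum_ite_eq', mem_univ,
    if_true]
  ring

theorem vecU_eq : vecU = vPair (some 0) := by decide +kernel

theorem XV_dot (i : Fin 275) : dotInt (XV i : GolayPt → ℤ) vecV = -24 ∧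
    dotInt (XV i : GolayPt → ℤ) vecU = 16 := by
  have := allB_iff.mp XC_spec i i.2
  simp only [force_eq, band_eq_true, Nat.beq_eq, Nat.add_eq, Nat.mul_eq] at this
  obtain ⟨-, h1, h2⟩ := this
  rw [vecU_eq, dot_vecV, dot_vPair, show ∑ q, (XV i : GolayPt → ℤ) q = _ from sum_vf _]
  change -(_ + 4 * ((dg (XC.get i) 23 : ℤ) - 64)) = _ ∧
    4 * (((dg (XC.get i) 0 : ℤ) - 64) + ((dg (XC.get i) 23 : ℤ) - 64)) = _
  omega

theorem XV_pair : ∀ q : GolayPt, q ≠ none → q ≠ some 0 → ∃ i : Fin 275, i.val + 1 = ix q ∧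
    vf (dg (XC.get i)) = vPair q := by
  decide +kernel

theorem dg_mod (c : ℕ) {k : ℕ} (hk : k < 24) :
    col 8 (2 ^ 8) (Nat.mod c (Nat.pow 2 192)) k = dg c k := by
  show (c % 2 ^ 192) >>> (8 * k) % 2 ^ 8 = c >>> (8 * k) % 2 ^ 8
  apply Nat.eq_of_testBit_eq
  intro l
  rw [Nat.testBit_mod_two_pow, Nat.testBit_mod_two_pow, Nat.testBit_shiftRight,
    Nat.testBit_shiftRight, Nat.testBit_mod_two_pow]
  by_cases hl : l < 8
  · rw [decide_eq_true (show 8 * k + l < 192 by omega), Bool.true_and]
  · rw [decide_eq_false hl, Bool.false_and, Bool.false_and]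

theorem sum_const24 (a : ℤ) : ∑ _q : GolayPt, a = 24 * a := by
  rw [sum_ix fun _ => a, sum_const, card_range]; rfl

theorem oct_spec {c : GolayPt → ZMod 2} (hc : c ∈ golayCode) : ∃ m, word m = c ∧
    (pc m = 0 ∨ 8 ≤ pc m ∧ (pc m = 8 → c none ≠ 0 → ∃ i, (XV i : GolayPt → ℤ) = vf (cand m))) := by
  rw [code_eq] at hc
  obtain ⟨m, hm, h⟩ := allSpan_sound oct_chk hc
  rw [word_zero, zero_add] at hm
  refine ⟨m, hm, ?_⟩
  simp only [octChk, force_eq, bor_eq_true, band_eq_true, Nat.beq_eq, Nat.ble_eq] at h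
  refine h.imp id fun h => ⟨h.1, fun h1 h2 => ?_⟩
  have h3 : ¬ Nat.mod (Nat.shiftRight m 23) 2 = 0 := fun e => h2 (by
    rw [← hm, ← ZMod.val_eq_zero, word_val]; exact e)
  have h4 := (h.2.resolve_left (by omega)).resolve_left h3
  by_contra hn
  rw [allB_iff.mpr fun i hi => ?_] at h4
  · exact absurd h4 (by simp)
  · suffices Nat.beq (packN 8 (cand m) 24) (Nat.mod (XC.get i) (Nat.pow 2 192)) = false by
      rw [this]
    refine Bool.eq_false_iff.mpr fun e => hn ⟨⟨i, hi⟩, funext fun q => ?_⟩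
    have h5 : ∀ k < 24, cand m k < 256 := fun k _ => by
      have : Nat.mod (Nat.shiftRight m k) 2 < 2 := Nat.mod_lt _ two_pos
      unfold cand
      cases Nat.beq (Nat.mod m 2) 0 <;> cases Nat.beq k 23 <;>
        simp only [Nat.add_eq, Nat.mul_eq, Nat.sub_eq] <;> omega
    have h6 := col_packN (w := 8) rfl h5 (ix_lt q)
    rw [Nat.beq_eq.mp e] at h6
    show ((dg (XC.get i) (ix q) : ℕ) : ℤ) - 64 = ((cand m (ix q) : ℕ) : ℤ) - 64
    rw [← h6, dg_mod _ (ix_lt q)]

theorem sum_word (m : ℕ) : ∑ q, ((word m q).val : ℤ) = pc m := by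
  simp only [word_val]
  rw [sum_ix (fun k => ((m >>> k % 2 : ℕ) : ℤ)), pc, sumN_eq, Nat.cast_sum]
  rfl

theorem eq_zero_of_sum {f : GolayPt → ℤ} (h : ∀ q, 0 ≤ f q) (hs : ∑ q, f q ≤ 0) (q : GolayPt) :
    f q = 0 :=
  (sum_eq_zero_iff_of_nonneg fun q _ => h q).mp
    (le_antisymm hs (sum_nonneg fun q _ => h q)) q (mem_univ q)

theorem classify {x : GolayPt → ℤ} (hx : x ∈ leechLattice) (h1 : sqNorm x = 32)
    (h2 : dotInt x vecV = -24) (h3 : dotInt x vecU = 16) : ∃ i, (XV i : GolayPt → ℤ) = x := by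
  rw [dot_vecV] at h2
  rw [vecU_eq, dot_vPair] at h3
  rw [leech_eq] at hx
  obtain ⟨r, c, hc, h4⟩ : ∃ r : ℤ, ∃ c ∈ golayCode, (r = 0 ∨ r = 1) ∧
      ∀ i, ∃ k, x i = r + 2 * ((c i).val : ℤ) + 4 * k := by
    obtain ⟨m, c, hc, h4, -⟩ := hx
    have h5 : ∀ a : ZMod 2, ((a + 1).val : ℤ) = 1 - a.val := by decide
    by_cases h : m % 4 < 2
    · exact ⟨m % 4, c, hc, by omega, fun i =>
        ⟨(x i - (m % 4 + 2 * ((c i).val : ℤ))) / 4, by have := h4 i; omega⟩⟩
    · refine ⟨m % 4 - 2, c + 1, golayCode.add_mem hc one_mem_code, by omega, fun i => ?_⟩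
      rw [Pi.add_apply, Pi.one_apply, h5]
      exact ⟨(x i - (m % 4 - 2 + 2 * (1 - ((c i).val : ℤ)))) / 4, by have := h4 i; omega⟩
  obtain ⟨m, rfl, h5⟩ := oct_spec hc
  have hv : ∀ q, ((word m q).val : ℤ) = 0 ∨ ((word m q).val : ℤ) = 1 := fun q =>
    (val_cases _).imp And.right And.right
  have hs := sum_word m
  have hne : ((word m none).val : ℤ) = 1 → word m none ≠ 0 := fun h e => by
    rw [e] at h; exact absurd h (by decide)
  have hcand : ∀ q, vf (cand m) q = if ((word m (some 0)).val : ℤ) = 0 then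
      (1 + if q = none then 4 else 0) - 2 * ((word m q).val : ℤ) else 2 * ((word m q).val : ℤ) := by
    intro q
    have a1 : m >>> ix q % 2 < 2 := Nat.mod_lt _ two_pos
    have a2 : ∀ q, (Bool.rec 0 4 (Nat.beq (ix q) 23) : ℕ) = if q = none then 4 else 0 := by
      decide
    rw [word_val, word_val, vf, cand, a2, show m >>> ix (some 0) = m from rfl]
    by_cases h : m % 2 = 0
    · rw [show Nat.beq (Nat.mod m 2) 0 = true from Nat.beq_eq.mpr h, h]
      change (((65 + if q = none then 4 else 0) - 2 * (m >>> ix q % 2) : ℕ) : ℤ) - 64 = _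
      generalize m >>> ix q % 2 = z at a1
      split_ifs <;> omega
    · rw [show Nat.beq (Nat.mod m 2) 0 = false from Bool.eq_false_iff.mpr fun e =>
        h (Nat.beq_eq.mp e), if_neg (Int.natCast_ne_zero.mpr h)]
      change ((64 + 2 * (m >>> ix q % 2) : ℕ) : ℤ) - 64 = _
      generalize m >>> ix q % 2 = z at a1
      omega
  rw [sqNorm] at h1
  obtain ⟨rfl | rfl, h4⟩ := h4
  · rcases h5 with h5 | ⟨h5, h6⟩
    · have h7 : ∀ q, ((word m q).val : ℤ) = 0 :=
        eq_zero_of_sum (fun q => Int.natCast_nonneg _) (by rw [hs, h5]; rfl)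
      have h8 : ∀ q, 0 ≤ x q ^ 2 - 4 * x q := fun q => by
        obtain ⟨k, hk⟩ := h4 q
        rw [hk, h7]
        nlinarith [sq_nonneg (2 * k - 1), Int.one_le_abs (show 2 * k - 1 ≠ 0 by omega),
          sq_abs (2 * k - 1)]
      have h9 : x none ≤ 4 := by
        have := single_le_sum (f := fun i => x i ^ 2) (fun i _ => sq_nonneg _) (mem_univ none)
        obtain ⟨k, hk⟩ := h4 none
        rw [h7] at hk
        by_contra hh
        have : 8 ≤ x none := by omega
        nlinarith
      have h10 : ∑ q, (x q ^ 2 - 4 * x q) = 16 * x none - 64 := by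
        rw [sum_sub_distrib, ← mul_sum, h1]; linarith
      have h11 := eq_zero_of_sum h8 (by rw [h10]; omega)
      have h12 : x none = 4 := by
        have := sum_nonneg fun q (_ : q ∈ univ) => h8 q
        omega
      have h13 : ∀ q, x q = 0 ∨ x q = 4 := fun q => by
        have : x q * (x q - 4) = 0 := by linarith [h11 q]
        rcases mul_eq_zero.mp this with h | h <;> omega
      have h14 : ∑ q, (x q - if q = none then 4 else 0) = 4 := by
        rw [sum_sub_distrib, sum_ite_eq', if_pos (mem_univ _)]; omega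
      obtain ⟨p, -, hp⟩ := exists_ne_zero_of_sum_ne_zero (h14.trans_ne (by norm_num))
      have hp1 : p ≠ none := by rintro rfl; simp [h12] at hp
      have hp2 : x p = 4 := by simpa [hp1, or_iff_right] using (h13 p).resolve_left (by simpa [hp1] using hp)
      obtain ⟨i, -, hi⟩ := XV_pair p hp1 (by rintro rfl; omega)
      refine ⟨i, hi.trans (funext fun q => (sub_eq_zero.mp (eq_zero_of_sum
        (f := fun q => x q - vPair p q) (fun q => ?_) ?_ q)).symm)⟩
      · rw [vPair]
        rcases h13 q with h | h <;> split_ifs with a b b <;> simp_all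
      · simp only [vPair, sum_sub_distrib, sum_add_distrib, sum_ite_eq', mem_univ, if_true]
        omega
    · have h7 : ∀ q, 0 ≤ x q ^ 2 - 4 * ((word m q).val : ℤ) := fun q => by
        obtain ⟨k, hk⟩ := h4 q
        rcases hv q with h | h <;> rw [hk, h]
        · nlinarith [sq_nonneg k]
        · nlinarith [Int.one_le_abs (show 2 * k + 1 ≠ 0 by omega), sq_abs (2 * k + 1)]
      have h8 : ∑ q, (x q ^ 2 - 4 * ((word m q).val : ℤ)) = 32 - 4 * (pc m : ℤ) := by
        rw [sum_sub_distrib, ← mul_sum, h1, hs]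
      have h9 := eq_zero_of_sum h7 (by rw [h8]; omega)
      have h10 : pc m = 8 := by
        have := sum_nonneg fun q (_ : q ∈ univ) => h7 q
        omega
      have h11 : ∀ q, 0 ≤ 2 * ((word m q).val : ℤ) - x q := fun q => by
        have := h9 q
        rcases hv q with h | h <;> rw [h] at this ⊢ <;> nlinarith
      have h12 := eq_zero_of_sum h11 (by
        rw [sum_sub_distrib, ← mul_sum, hs]
        have := h11 none
        have := hv none
        omega)
      have h13 := h12 none
      have h14 := h12 (some 0)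
      have h15 := hv none
      have h16 := hv (some 0)
      obtain ⟨i, hi⟩ := h6 h10 (hne (by omega))
      refine ⟨i, hi.trans (funext fun q => ?_)⟩
      rw [hcand, if_neg (by omega)]
      linarith [h12 q]
  · have h7 : ∀ q, 0 ≤ x q ^ 2 - 1 := fun q => by
      obtain ⟨k, hk⟩ := h4 q
      nlinarith [Int.one_le_abs (show x q ≠ 0 by omega), sq_abs (x q)]
    have h8 : x none = 1 ∨ x none = 3 := by
      have h9 : x none ^ 2 - 1 + (x (some 0) ^ 2 - 1) ≤ 8 := by
        have := sum_le_sum_of_subset_of_nonneg (f := fun q => x q ^ 2 - 1)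
          (subset_univ {none, some 0}) fun q _ _ => h7 q
        rw [sum_pair (by simp), sum_sub_distrib, h1, sum_const24] at this
        omega
      obtain ⟨k, hk⟩ := h4 none
      have : x (some 0) = 4 - x none := by omega
      rw [this] at h9
      have : x none ≤ 3 := by nlinarith
      have : 1 ≤ x none := by nlinarith
      omega
    let p : GolayPt := if x none = 3 then none else some 0
    have hp : x p = 3 := by
      simp only [p]; split_ifs <;> omega
    have h9 := eq_zero_of_sum (f := fun q => x q ^ 2 - 1 - if q = p then 8 else 0) (fun q => by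
      split_ifs with h
      · rw [h, hp]; norm_num
      · simpa using h7 q) (by
      rw [sum_sub_distrib, sum_sub_distrib, h1, sum_ite_eq', if_pos (mem_univ _), sum_const24]
      omega)
    have h10 : ∀ q, x q = (1 + if q = p then 4 else 0) - 2 * ((word m q).val : ℤ) := fun q => by
      obtain ⟨k, hk⟩ := h4 q
      have := hv q
      have h11 := h9 q
      split_ifs at h11 ⊢ with h
      · rw [h] at hk this ⊢; omega
      · have : (x q - 1) * (x q + 1) = 0 := by linarith
        rcases mul_eq_zero.mp this with h | h <;> omega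
    have h11 : ∑ q, x q = 28 - 2 * (pc m : ℤ) := by
      rw [sum_congr rfl fun q _ => h10 q, sum_sub_distrib, sum_add_distrib, ← mul_sum, hs,
        sum_ite_eq', if_pos (mem_univ _), sum_const24]
      omega
    have h12 : x none = 3 := by omega
    have h13 : p = none := if_pos h12
    rw [h13] at h10
    have h14 := h10 none
    have h15 := h10 (some 0)
    simp only [if_true, reduceCtorEq, if_false] at h14 h15
    obtain ⟨i, hi⟩ := (h5.resolve_left (by omega)).2 (by omega) (hne (by omega))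
    refine ⟨i, hi.trans (funext fun q => ?_)⟩
    rw [hcand, if_pos (by omega), h10 q]

theorem exists_Psi : ∃ Ψ : McL →* Perm (Fin 275), ∀ (g : McL) (i : Fin 275),
    (g : Perm leechLattice) • XV i = XV (Ψ g i) := by
  refine exists_perm_hom McL XV_inj fun g hg i => ?_
  have hV : g leechV = leechV := hg.1.2
  have hU : g leechU = leechU := hg.2
  obtain ⟨j, hj⟩ := classify (g (XV i)).2
    (by rw [hg.1.1.2, sqNorm_eq_dot]; exact (dot_XV i i).2.mpr rfl)
    (by have := Co0_dot hg.1.1 (XV i) leechV; rw [hV] at this; exact this.trans (XV_dot i).1)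
    (by have := Co0_dot hg.1.1 (XV i) leechU; rw [hU] at this; exact this.trans (XV_dot i).2)
  exact ⟨j, Subtype.ext hj.symm⟩

/-- The action on the 275 vectors. -/
noncomputable def Psi : McL →* Perm (Fin 275) := exists_Psi.choose

theorem Psi_spec (g : McL) (i : Fin 275) : (g : Perm leechLattice) (XV i) = XV (Psi g i) :=
  exists_Psi.choose_spec g i

theorem Psi_inj : Function.Injective Psi := by
  refine (injective_iff_map_eq_one _).mpr fun g hg => Subtype.ext (Equiv.ext fun v => Subtype.ext ?_)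
  have hV : g.1 leechV = leechV := g.2.1.2
  have hU : g.1 leechU = leechU := g.2.2
  have h1 : ∀ q, q ≠ none → (g.1 v).1 q + (g.1 v).1 none = v.1 q + v.1 none := by
    intro q hq
    by_cases h : q = some 0
    · have := Co0_dot g.2.1.1 v leechU
      rw [hU] at this
      change dotInt _ vecU = dotInt _ vecU at this
      rw [vecU_eq, dot_vPair, dot_vPair, ← h] at this
      omega
    · obtain ⟨i, -, hi⟩ := XV_pair q hq h
      have := Co0_dot g.2.1.1 v (XV i)
      rw [Psi_spec, hg] at this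
      change dotInt _ (vf _) = dotInt _ (vf _) at this
      rw [Perm.one_apply, hi, dot_vPair, dot_vPair] at this
      omega
  have h2 := Co0_dot g.2.1.1 v leechV
  rw [hV] at h2
  change dotInt _ vecV = dotInt _ vecV at h2
  rw [dot_vecV, dot_vecV, Fintype.sum_option, Fintype.sum_option] at h2
  have h3 : ∑ q : ZMod 23, ((g.1 v).1 (some q) + (g.1 v).1 none) =
      ∑ q : ZMod 23, (v.1 (some q) + v.1 none) := sum_congr rfl fun q _ => h1 _ (by simp)
  simp only [sum_add_distrib, sum_const, card_univ, ZMod.card, nsmul_eq_mul] at h3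
  have h4 : (g.1 v).1 none = v.1 none := by omega
  funext q
  by_cases hq : q = none
  · rw [hq]; exact h4
  · have := h1 q hq
    change (g.1 v).1 q = v.1 q
    omega

theorem Psi_mem (g : McL) : Psi g ∈ gAut 275 adj := fun i j => by
  rw [Bool.eq_iff_iff, ← (dot_XV _ _).1, ← (dot_XV _ _).1, ← Psi_spec, ← Psi_spec,
    Co0_dot g.2.1.1]

theorem gChk_sound {c : ℕ} (h : gChk c = true) {g : Perm (Fin 275)} (hg : Rep 12 4095 c g) :
    g ∈ gAut 275 adj := fun i j => by
  simp only [gChk, allB_iff, force_eq, Nat.beq_eq, bit_eq] at h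
  have h1 := h i i.2 j j.2
  have h2 : ∀ i : Fin 275, Nat.div (app 4095 c (Nat.mul 12 i)) 12 = g i := fun i => by
    rw [show Nat.mul 12 i = 12 * i from rfl, hg i]
    exact Nat.mul_div_cancel_left _ (by norm_num)
  rw [h2, h2] at h1
  revert h1
  cases (adj.get (g i)).testBit (g j) <;> cases (adj.get i).testBit j <;> simp

theorem mem_range_of {N c : ℕ} {H : Trie} (h1 : autChk N H = true) (h2 : gChk c = true)
    (h3 : imgChk N uV uV = true) (h4 : imgChk N (uPair 0) (uPair 0) = true)
    (h5 : allL (fun b => imgChk N (dg (XC.get b))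
      (dg (XC.get (Nat.div (app 4095 c (Nat.mul 12 b)) 12)))) [117, 25, 205, 31, 114] = true)
    {g : Perm (Fin 275)} (hg : Rep 12 4095 c g) : g ∈ Psi.range := by
  obtain ⟨f, hf, e⟩ := autChk_sound h1
  let F : McL := ⟨f, ⟨hf, apply_eq_of_imgChk e h3 vf_uV.symm vf_uV.symm⟩,
    apply_eq_of_imgChk e h4 vf_uU.symm vf_uU.symm⟩
  refine ⟨F, ?_⟩
  rw [← inv_mul_eq_one]
  refine eq_one_of_refine (by norm_num) (by norm_num) (by norm_num) ref5
    (mul_mem (inv_mem (Psi_mem F)) (gChk_sound h2 hg)) fun i hi => ?_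
  have h6 := allL_iff.mp h5 i hi
  rw [show Nat.mul 12 i = 12 * i from rfl, hg i,
    show Nat.div (12 * (g i : ℕ)) 12 = g i from Nat.mul_div_cancel_left _ (by norm_num)] at h6
  have h7 : f (XV i) = XV (g i) := apply_eq_of_imgChk e h6 rfl rfl
  rw [Perm.mul_apply, ← XV_inj ((Psi_spec F i).symm.trans h7)]
  simp

theorem MM_le : MM ≤ Psi.range := by
  refine Grp_le (by norm_num) fun c hc => ?_
  obtain ⟨g, -, hg⟩ := validM c hc
  refine ⟨g, ?_, hg⟩
  rcases List.mem_cons.mp hc with rfl | hc
  · exact mem_range_of aut_h gChk_h (by decide +kernel) (by decide +kernel) (by decide +kernel) hg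
  · rw [List.mem_singleton.mp hc] at hg
    exact mem_range_of aut_y gChk_Y (by decide +kernel) (by decide +kernel) (by decide +kernel) hg

theorem sigma_notMem {g : Perm (Fin 275)} (hg : Rep 12 4095 cσ g) : g ∉ Psi.range := by
  rintro ⟨f, rfl⟩
  have hV : f.1 leechV = leechV := f.2.1.2
  have hU : f.1 leechU = leechU := f.2.2
  let E : leechLattice := ⟨vf (uPair 23), inL_sound (m := 0) (h := 0) (by decide +kernel)⟩
  let ι : Fin 22 → Fin 275 := Fin.castLE (by norm_num)
  have h1 : (9 : ℤ) • E = ∑ i, XV (ι i) + leechU + (4 : ℤ) • leechV := by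
    refine Subtype.ext (funext fun q => ?_)
    simp only [AddSubgroup.coe_add, AddSubgroupClass.coe_zsmul, AddSubgroup.val_finsetSum,
      Pi.add_apply, Pi.smul_apply, Finset.sum_apply, smul_eq_mul]
    revert q
    decide +kernel
  have h2 := congrArg (fun v => (addHom f.2.1.1 v).1 none) h1
  simp only [map_add, map_zsmul, map_sum] at h2
  simp only [addHom, AddMonoidHom.mk'_apply, hU, hV, Psi_spec, AddSubgroup.coe_add,
    AddSubgroupClass.coe_zsmul, AddSubgroup.val_finsetSum, Pi.add_apply, Pi.smul_apply,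
    Finset.sum_apply, smul_eq_mul] at h2
  have h3 : ∀ i, (XV (Psi f (ι i))).1 none =
      vf (dg (XC.get (app 4095 cσ (12 * (ι i).val) / 12))) none := fun i => by
    rw [hg, Nat.mul_div_cancel_left _ (by norm_num)]; rfl
  have h4 : ∑ i, vf (dg (XC.get (app 4095 cσ (12 * (ι i).val) / 12))) none + leechU.1 none +
    4 * leechV.1 none = 39 := by decide +kernel
  rw [sum_congr rfl fun i _ => h3 i, h4] at h2
  omega

theorem range_Psi : Psi.range = MM := by
  obtain ⟨σ, -, hσ⟩ := permChk_sound (w := 12) (mk := 4095) (n := 275) (c := cσ) (d := cσI)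
    (by norm_num) (by decide +kernel)
  have h1 : Psi.range < gAut 275 adj := lt_of_le_of_ne (by rintro _ ⟨g, rfl⟩; exact Psi_mem g)
    fun e => sigma_notMem hσ (e ▸ gChk_sound gChk_σ hσ)
  have h2 := card_le_of_refOK (by norm_num) (by norm_num) (by norm_num) refOK
    (A := gAut 275 adj) le_rfl (by simp)
  obtain ⟨k, hk⟩ := Subgroup.card_dvd_of_le h1.le
  obtain ⟨l, hl⟩ := Subgroup.card_dvd_of_le MM_le
  have h3 : k ≠ 1 := fun e => h1.ne (Subgroup.eq_of_le_of_card_ge h1.le (by rw [hk, e, mul_one]))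
  have h4 : 0 < Nat.card (gAut 275 adj) := Nat.card_pos
  refine (Subgroup.eq_of_le_of_card_ge MM_le ?_).symm
  rw [hk, hl, card_MM] at h2 h4
  rw [hl, card_MM]
  norm_num at h2
  have h5 : 2 ≤ k := by
    rcases k with _ | _ | k <;> simp_all
  nlinarith

/-- The McLaughlin group is the model. -/
noncomputable def isoMcL : McL ≃* MM :=
  (MonoidHom.ofInjective Psi_inj).trans (MulEquiv.subgroupCongr range_Psi)

theorem card_McL : Nat.card McL = 898128000 := by
  rw [Nat.card_congr isoMcL.toEquiv, card_MM]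

end Cfsg.Agent.L0.McL
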