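import Cfsg.Agent.L0.PnA

set_option autoImplicit false
set_option linter.unusedSectionVars false

namespace Cfsg.Agent.L0.Pn

open Finset
open scoped Pointwise

variable {G : Type} [Group G] [Finite G] {Ω : Type} [Fintype Ω] [DecidableEq Ω] [MulAction G Ω]
  {K H : Subgroup G} {O : Finset Ω} {n : ℕ}

theorem smul_eq_of_maps {S : Finset Ω} {g : G} (h : ∀ x ∈ S, g • x ∈ S) : g • S = S :=
  eq_of_subset_of_card_le (fun y hy => by
    obtain ⟨z, hz, rfl⟩ := mem_smul_finset.1 hy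
    exact h z hz) (card_smul_finset g S).ge

theorem mv_smul {k : G} (hk : k ∈ K) {x : Ω} (h : Fx K (k • x)) : Fx K x := by
  have := h _ (K.inv_mem hk)
  rw [inv_smul_smul] at this
  exact this ▸ h

theorem fin (hK : Pro K) (hKH : K ≤ H) (hI : Inv H O) (h0 : del K O = 0) (hm : Mv K O)
    (h : TrK H O (fx K O).card) : False := by
  have hc : (O \ fx K O).card = (fx K O).card := by
    rw [card_sdiff_of_subset (fx_subset K O)]; unfold del at h0; omega
  obtain ⟨ψ, p1, p2, -⟩ := exists_bij hc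
  obtain ⟨g, -, e⟩ := h _ ψ sdiff_subset hc.le p1 fun d hd => fx_subset K O (p2 d hd)
  have e1 : ∀ d ∈ O \ fx K O, Fx K (g • d) := fun d hd => e d hd ▸ (mem_fx.1 (p2 d hd)).2
  obtain ⟨w, hw, e2⟩ := hK.ex (Ω := Ω) g⁻¹ (L := MulAction.stabilizer G (O \ fx K O))
    (fun k hk => smul_eq_of_maps fun x hx => by
      rw [mem_sdiff, mem_fx] at hx ⊢
      exact ⟨hI k (hKH hk) x hx.1, fun h => hx.2 ⟨hx.1, mv_smul hk h.2⟩⟩)
    (fun k hk => smul_eq_of_maps fun x hx => by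
      rwa [inv_inv, mul_smul, mul_smul, e1 x hx k hk, inv_smul_smul])
  obtain ⟨x, hx, hx'⟩ := hm
  have hS : x ∈ O \ fx K O := mem_sdiff.2 ⟨hx, fun h => hx' (mem_fx.1 h).2⟩
  have : w⁻¹ • x ∈ O \ fx K O := by
    have : w • (O \ fx K O) = O \ fx K O := hw
    rwa [inv_smul_mem_iff, this]
  rw [mem_sdiff, mem_fx] at this
  exact this.2 ⟨this.1, (e2 x).2 (by rw [inv_inv]; exact e1 x hS)⟩

theorem card_pre (hO : Orb H O) {a : Ω} (ha : a ∈ O) {U : Finset Ω} (hU : U ⊆ O) :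
    Nat.card {g : G | g ∈ H ∧ g • a ∈ U} = U.card * Nat.card (fixS H {a}) := by
  classical
  have := Fintype.ofFinite G
  have e : ∀ s : Set G, Nat.card s = (univ.filter (· ∈ s)).card := fun s => by
    rw [Nat.card_eq_fintype_card, Fintype.card_subtype]
  rw [e, card_eq_sum_card_fiberwise (f := fun g => g • a) (t := U)
    (fun g hg => by simp at hg; simpa using hg.2), sum_const_nat]
  intro y hy
  obtain ⟨t, ht, rfl⟩ := hO.tr a ha y (hU hy)
  rw [show Nat.card (fixS H {a}) = _ from e (fixS H {a})]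
  refine card_bij' (fun g _ => t⁻¹ * g) (fun g _ => t * g) (fun g hg => ?_) (fun g hg => ?_)
    (fun _ _ => by simp) (fun _ _ => by simp)
  · simp only [mem_filter, mem_univ, true_and, Set.mem_setOf_eq, SetLike.mem_coe, mem_fixS,
      mem_singleton, forall_eq] at hg ⊢
    exact ⟨H.mul_mem (H.inv_mem ht) hg.1.1, by rw [mul_smul, hg.2, inv_smul_smul]⟩
  · simp only [mem_filter, mem_univ, true_and, Set.mem_setOf_eq, SetLike.mem_coe, mem_fixS,
      mem_singleton, forall_eq] at hg ⊢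
    rw [mul_smul, hg.2]
    exact ⟨⟨H.mul_mem ht hg.1, hy⟩, rfl⟩

theorem Exp2.syl (hKH : K ≤ H) (hI : Inv H O) (h : Exp2 K O) :
    ∃ Q : Subgroup G, Q ≤ K ∧ IsPGroup 2 Q ∧ ∀ k ∈ K, ∃ q ∈ Q, ∀ x ∈ O, q • x = k • x := by
  have : Fact (Nat.Prime 2) := ⟨Nat.prime_two⟩
  let N : Subgroup K := (fixS H O).subgroupOf K
  have hN : N.Normal := ⟨fun a ha g => ⟨hKH (g * a * g⁻¹).2, fun d hd => by
    have := ha.2 _ (hI _ (H.inv_mem (hKH g.2)) d hd)
    simp only [Subgroup.subtype_apply, Subgroup.coe_mul, InvMemClass.coe_inv, mul_smul] at this ⊢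
    rw [this, smul_inv_smul]⟩⟩
  obtain ⟨P⟩ : Nonempty (Sylow 2 K) := inferInstance
  have h2 : IsPGroup 2 (⊤ : Subgroup (K ⧸ N)) := fun x => ⟨1, Subtype.ext (by
    obtain ⟨x, -⟩ := x
    obtain ⟨k, rfl⟩ := QuotientGroup.mk_surjective x
    show ((k ^ 2 ^ 1 : K) : K ⧸ N) = 1
    rw [QuotientGroup.eq_one_iff]
    exact ⟨hKH (k ^ 2 ^ 1).2, fun d hd => by
      simpa [pow_two, mul_smul] using h k k.2 d hd⟩)⟩
  have h3 := (P.mapSurjective (QuotientGroup.mk'_surjective N)).3 h2 le_top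
  refine ⟨P.1.map K.subtype, Subgroup.map_subtype_le _, P.2.map _, fun k hk => ?_⟩
  have : QuotientGroup.mk' N ⟨k, hk⟩ ∈ (P.mapSurjective (QuotientGroup.mk'_surjective N)).1 :=
    h3 ▸ Subgroup.mem_top _
  obtain ⟨q, hq, e⟩ := this
  refine ⟨q, ⟨q, hq, rfl⟩, fun x hx => ?_⟩
  have := (QuotientGroup.eq.1 e).2 x hx
  simp only [Subgroup.subtype_apply, Subgroup.coe_mul, InvMemClass.coe_inv, mul_smul] at this
  exact (inv_smul_eq_iff.1 this).symm

theorem two (hK : Pro K) (hKH : K ≤ H) (hO : Orb H O) (h0 : del K O = 0) (hm : Mv K O)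
    (h : Exp2 K O) : False := by
  have : Fact (Nat.Prime 2) := ⟨Nat.prime_two⟩
  obtain ⟨Q, hQ, hQ2, hq⟩ := h.syl hKH hO.inv
  obtain ⟨T, hT⟩ := (hQ2.comap_subtype (K := H)).exists_le_sylow
  let F := fx K O
  let T1 : Subgroup T.1 := (MulAction.stabilizer G F).comap (H.subtype.comp T.1.subtype)
  have hT1 : T1 = ⊤ := by
    by_contra hne
    have := T.2.isNilpotent
    obtain ⟨t, ht, ht'⟩ := SetLike.exists_of_lt
      (Group.normalizerCondition_of_isNilpotent T1 (lt_top_iff_ne_top.2 hne))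
    have hF : ∀ k ∈ K, k • F = F := fun k hk => smul_eq_of_maps fun x hx => by
      rwa [(mem_fx.1 hx).2 k hk]
    obtain ⟨w, hw, e⟩ := hK.ex (Ω := Ω) (t.1.1 : G) (L := H ⊓ MulAction.stabilizer G F)
      (fun k hk => ⟨hKH hk, hF k hk⟩) (fun k hk => ⟨H.mul_mem (H.mul_mem t.1.2 (hKH hk)) (H.inv_mem t.1.2),
        smul_eq_of_maps fun x hx => by
          obtain ⟨q, hq1, hq2⟩ := hq k hk
          have h1 : (⟨⟨q, hKH (hQ hq1)⟩, hT hq1⟩ : T.1) ∈ T1 := hF q (hQ hq1)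
          have h2 : ((t.1.1 : G) * q * (t.1.1 : G)⁻¹) • F = F := (Subgroup.mem_normalizer_iff.1 ht _).1 h1
          rw [mul_smul, mul_smul, ← hq2 _ (hO.inv _ (H.inv_mem t.1.2) _ (fx_subset K O hx)),
            ← mul_smul, ← mul_smul, ← h2]
          exact smul_mem_smul_finset hx⟩)
    refine ht' (T1.inv_mem_iff.1 (smul_eq_of_maps (g := (t.1.1 : G)⁻¹) fun x hx => ?_))
    have h1 : w • F = F := hw.2
    refine mem_fx.2 ⟨hO.inv _ (H.inv_mem t.1.2) _ (fx_subset K O hx), (e x).1 ?_⟩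
    exact (mem_fx.1 (show w⁻¹ • x ∈ F by rwa [inv_smul_mem_iff, h1])).2
  obtain ⟨a, ha, -⟩ := hm
  have c1 := card_pre hO ha (fx_subset K O)
  have c2 := card_pre hO ha Subset.rfl
  have c3 : Nat.card {g : G | g ∈ H ∧ g • a ∈ O} = Nat.card H :=
    congrArg (fun s : Set G => Nat.card s) (Set.ext fun g => and_iff_left_of_imp fun hg => hO.inv g hg a ha)
  let T' := T.1.map H.subtype
  have c4 : Nat.card {g : G | g ∈ H ∧ g • a ∈ F} =
      Nat.card (QuotientGroup.mk ⁻¹' ((QuotientGroup.mk : G → G ⧸ T') '' {g | g ∈ H ∧ g⁻¹ • a ∈ F})) := by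
    refine Nat.card_congr ((Equiv.inv G).subtypeEquiv fun g => ⟨fun hg => ⟨g⁻¹, ⟨H.inv_mem hg.1, ?_⟩, rfl⟩, ?_⟩)
    · rw [inv_inv]; exact hg.2
    · rintro ⟨u, hu, e⟩
      obtain ⟨t, ht, e⟩ := QuotientGroup.eq.1 e
      have h1 : (t : G) • F = F := show (⟨t, ht⟩ : T.1) ∈ T1 from hT1 ▸ Subgroup.mem_top _
      have e' : g = (t : G)⁻¹ * u⁻¹ := by
        have : (t : G) = u⁻¹ * g⁻¹ := e
        rw [this]; group
      rw [e', Set.mem_setOf_eq, mul_smul, inv_smul_mem_iff, h1]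
      exact ⟨H.mul_mem (H.inv_mem t.2) (H.inv_mem hu.1), hu.2⟩
  rw [QuotientGroup.card_preimage_mk, Subgroup.card_map_of_injective H.subtype_injective] at c4
  have c5 := T.1.card_mul_index
  refine T.not_dvd_index ((Nat.mul_dvd_mul_iff_left (Nat.card_pos (α := T.1))).1 ?_)
  unfold del at h0
  rw [c5, ← c3, c2, show O.card = 2 * F.card by simp only [F]; omega, mul_assoc, ← c1, c4,
    mul_left_comm]
  exact mul_dvd_mul_left _ (dvd_mul_right _ _)

end Cfsg.Agent.L0.Pn
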