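import Cfsg.Agent.L0.PnC
import Cfsg.Agent.H9.PnSt
import Cfsg.Agent.H9.PnLn
import Cfsg.Agent.H4.PnBoch
import Cfsg.Agent.H8.PnPat

set_option autoImplicit false
set_option linter.unusedSectionVars false

namespace Cfsg.Agent.L0.Pn

open Finset
open scoped Pointwise

variable {G : Type} [Group G] [Finite G] {Ω : Type} [Fintype Ω] [DecidableEq Ω] [MulAction G Ω]
  {K H : Subgroup G} {O : Finset Ω} {n : ℕ}


theorem lv (hK : Pro K) (hP : PP K n) (hKH : K ≤ H) (hO : Orb H O) (hn : O.card ≤ n) (h0 : del K O = 0)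
    (hm : Mv K O) {j : ℕ} (h2 : 2 ≤ j) (h4 : j ≤ 4) (hT : TrK H O (j + 1)) : TrK H O (j + 2) := by
  by_cases hf : (fx K O).card ≤ j + 1
  · exact (fin hK hKH hO.inv h0 hm (hT.mono hf)).elim
  by_contra hT'
  refine two hK hKH hO h0 hm ?_
  by_contra hE
  obtain ⟨E, hE1, hE2⟩ := exists_subset_card_eq (show j + 1 ≤ (fx K O).card by omega)
  obtain ⟨a, D, haD, rfl, hc⟩ := card_eq_succ.1 hE2
  have hD : D ⊆ fx K O := (subset_insert _ _).trans hE1
  have ha : a ∈ fx K O := hE1 (mem_insert_self _ _)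
  have hDF : ∀ d ∈ D, Fx K d := fun d hd => (mem_fx.1 (hD hd)).2
  have hDO := hD.trans (fx_subset K O)
  have hK1 : K ≤ fixS H D := le_fixS hKH hDF
  have hO1 : Orb (fixS H D) (O \ D) := (hT.fix hDO hc).orb (hO.inv.fix D)
  have ha1 : a ∈ fx K (O \ D) := mem_fx.2 ⟨mem_sdiff.2 ⟨(mem_fx.1 ha).1, haD⟩, (mem_fx.1 ha).2⟩
  have eU : (O \ D) \ {a} = O \ insert a D := by ext x; simp only [mem_sdiff, mem_insert, mem_singleton]; tauto
  have hd : del K (O \ insert a D) = j + 1 := by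
    rw [← eU, del_erase ha1, del_sdiff hDO, del_of_fx (U := D), h0, hc]
    · ring
    · ext x; rw [mem_fx, and_iff_left_iff_imp]; exact hDF x
  have hK2 : K ≤ fixS H (insert a D) := le_fixS hKH fun d hd => (mem_fx.1 (hE1 hd)).2
  have hI := hO.inv.fix (insert a D)
  have hlt : (O \ insert a D).card < n :=
    (card_lt_card (sdiff_ssubset (hE1.trans (fx_subset K O)) ⟨a, mem_insert_self _ _⟩)).trans_le hn
  have hm' : ∀ x ∈ O \ insert a D, Mv K (orb (fixS H (insert a D)) x) := fun x hx => by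
    rw [← fixS_insert]
    refine mv_of_not_cl (O := O \ D) hK hK1 (mem_fx.1 ha).2 (sdiff_subset (eU ▸ hx : x ∈ _ \ {a})) fun h => hE ?_
    refine st hO.inv hKH hT (by omega) (by omega) h0 (by omega) hE1 hE2 (mem_sdiff.1 hx).1 (mem_sdiff.1 hx).2
      fun g hg e => ?_
    obtain ⟨m, hm, e1, e2⟩ := witt hK hKH hg hDF fun d hd => e d (mem_insert_of_mem hd)
    have := (mem_cl.1 h).2 (m⁻¹ * g) ⟨H.mul_mem (H.inv_mem hm) hg, fun d hd => by
      rw [mul_smul, ← e2 d hd, inv_smul_smul]⟩ (by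
      rw [← e1, mul_smul, smul_inv_smul]; exact e a (mem_insert_self _ _))
    rwa [← e1, mul_smul, smul_inv_smul] at this
  have hne : ∀ x, orb (fixS H (insert a D)) x ≠ O \ insert a D := fun x e =>
    hT' (hT.succ hO.inv (hE1.trans (fx_subset K O)) hE2 (e ▸ orb_orb _ x))
  have hs : ∀ x ∈ O \ insert a D, del K (orb (fixS H (insert a D)) x) ≤ j := fun x hx => by
    have := (sub_del hP hK2 hI hlt hm' (orb_orb _ x).inv (orb_subset hI hx)).resolve_left (hne x)
    omega
  have haa : a ∈ fx K O \ D := mem_sdiff.2 ⟨ha, haD⟩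
  have mU : ∀ x, x ∈ O \ D → x ≠ a → x ∈ O \ insert a D := fun x h1 h2 => by
    rw [← eU]; exact mem_sdiff.2 ⟨h1, by simpa⟩
  by_cases h1 : ∃ x ∈ O \ insert a D, del K (orb (fixS H (insert a D)) x) = 1
  · obtain ⟨x, hx, h1⟩ := h1
    have hx' := mem_sdiff.1 (eU ▸ hx : x ∈ _ \ {a})
    have := glem' hK hP hK1 hO1 ((card_le_card sdiff_subset).trans hn) ha1 hx'.1 (by simpa using hx'.2)
      (by rwa [fixS_insert]) fun z hz hz' => by
        rw [fixS_insert]; have := hs z (mU z hz hz'); omega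
    rw [fixS_insert] at this
    obtain ⟨p1, c, hc1, hc2, p2, p3, p4⟩ := this
    exact hE (ln hK hP hKH hO.inv hn hT h2 h4 h0 hD hc haa (mU c hc1 hc2) hm' p2 p4 (hne c)
      (.inl ⟨x, hx, h1, p1, p3⟩))
  have h1 : ∀ x ∈ O \ insert a D, 2 ≤ del K (orb (fixS H (insert a D)) x) := fun x hx => by
    have := orb_del hP hK2 hI hlt hm' hx
    have : del K (orb (fixS H (insert a D)) x) ≠ 1 := fun h => h1 ⟨x, hx, h⟩
    omega
  have fi : ∀ x ∈ O \ insert a D, ∀ y ∈ O \ insert a D, y ∉ orb (fixS H (insert a D)) x →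
      O \ insert a D = orb (fixS H (insert a D)) x ∪ orb (fixS H (insert a D)) y →
      del K (orb (fixS H (insert a D)) x) = 2 → del K (orb (fixS H (insert a D)) y) = j - 1 → False :=
    fun x hx y hy hxy e p1 p2 => hE (ln hK hP hKH hO.inv hn hT h2 h4 h0 hD hc haa hx hm'
      (by unfold del at p1; omega)
      (pat hK hP hKH hO.inv hn hT (by have := h1 y hy; omega) h4 hD hc haa hx hy hxy e p1 p2) (hne x) (.inr h1))
  obtain ⟨x, hx, -⟩ := mv_of_del (K := K) (U := O \ insert a D) (by omega)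
  obtain ⟨y, hy⟩ := sdiff_nonempty.2 fun h => hne x ((orb_subset hI hx).antisymm h)
  have hy' := mem_sdiff.1 hy
  have s1 := orb_subset hI hx
  have i1 := hI.sdiff (orb_orb (fixS H (insert a D)) x).inv
  have s2 := orb_subset i1 hy
  have i2 := i1.sdiff (orb_orb (fixS H (insert a D)) y).inv
  have a1 := del_sdiff (K := K) s1
  have a2 := del_sdiff (K := K) s2
  have a3 := h1 x hx
  have a4 := h1 y hy'.1
  have e0 : ((O \ insert a D) \ orb (fixS H (insert a D)) x) \ orb (fixS H (insert a D)) y = ∅ := by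
    by_contra h
    obtain ⟨z, hz⟩ := nonempty_iff_ne_empty.2 h
    have := h1 z (mem_sdiff.1 (mem_sdiff.1 hz).1).1
    rcases sub_del hP hK2 i2 ((card_le_card (sdiff_subset.trans sdiff_subset)).trans_lt hlt)
      (fun u hu => hm' u (mem_sdiff.1 (mem_sdiff.1 hu).1).1) (orb_orb _ z).inv (orb_subset i2 hz) with e | e
    · rw [e] at this; omega
    · omega
  rw [e0, del_empty] at a2
  have e : O \ insert a D = orb (fixS H (insert a D)) x ∪ orb (fixS H (insert a D)) y := by
    rw [sdiff_sdiff_left, sdiff_eq_empty_iff_subset] at e0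
    exact e0.antisymm (union_subset s1 (s2.trans sdiff_subset))
  by_cases p : del K (orb (fixS H (insert a D)) x) = 2
  · exact fi x hx y hy'.1 hy'.2 e p (by omega)
  · exact fi y hy'.1 x hx (fun h => hy'.2 (by rw [orb_eq h]; exact self_mem_orb _ _))
      (e.trans (union_comm _ _)) (by omega) (by omega)

theorem step (hK : Pro K) (hP : PP K n) : PP K (n + 1) := by
  intro Ω _ _ _ H O hKH hO hn hm
  have hn := Nat.lt_succ_iff.1 hn
  by_contra h
  obtain ⟨a, ha⟩ : (fx K O).Nonempty := by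
    by_contra h0
    obtain ⟨x, hx, -⟩ := hm
    have := card_pos.2 ⟨x, hx⟩
    unfold del at h
    rw [not_nonempty_iff_eq_empty.1 h0] at h
    simp only [card_empty, Nat.cast_zero, mul_zero, sub_zero] at h; omega
  have hm' := cl_eq_of_lt hK hP hKH hO hn hm ha (by omega)
  have hd := del_erase ha
  have ha' := mem_fx.1 ha
  have hK' : K ≤ fixS H {a} := le_fixS hKH (by simpa using ha'.2)
  have hI := hO.inv.fix {a}
  have hlt : (O \ {a}).card < n :=
    (card_lt_card (sdiff_ssubset (by simpa using ha'.1) (by simp))).trans_le hn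
  obtain ⟨b, hb, hb'⟩ := id hm
  have hbU : b ∈ O \ {a} := mem_sdiff.2 ⟨hb, fun e => hb' (mem_singleton.1 e ▸ ha'.2)⟩
  have h1 := orb_del hP hK' hI hlt hm' hbU
  have e := (sub_del hP hK' hI hlt hm' (orb_orb _ b).inv (orb_subset hI hbU)).resolve_right (by omega)
  rw [e] at h1
  have h0 : del K O = 0 := by omega
  have o1 : Orb (fixS H {a}) (O \ {a}) := e ▸ orb_orb _ b
  have t2 := hO.trK.succ hO.inv (D := {a}) (by simpa using ha'.1) rfl o1
  have t := (TrK.fix (j := 1) (k := 1) (D := {b}) (e1 hK hP hK' o1 hlt.le ⟨b, hbU, hb'⟩ (by omega))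
    (by simpa using hbU) rfl).orb (hI.fix _)
  rw [fixS_insert, show (O \ {a}) \ {b} = O \ insert b {a} by
    ext x; simp only [mem_sdiff, mem_insert, mem_singleton]; tauto] at t
  have t3 := t2.succ hO.inv (insert_subset hb (by simpa using ha'.1))
    (card_pair (by simpa using (mem_sdiff.1 hbU).2)) t
  have t6 := lv hK hP hKH hO hn h0 hm (j := 4) (by omega) le_rfl
    (lv hK hP hKH hO hn h0 hm (j := 3) (by omega) (by omega) (lv hK hP hKH hO hn h0 hm le_rfl (by omega) t3))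
  refine fin hK hKH hO.inv h0 hm ?_
  by_cases hf : (fx K O).card ≤ 6
  · exact t6.mono hf
  obtain ⟨k, hk⟩ := not_forall.1 hb'
  obtain ⟨hk, hk'⟩ := Classical.not_imp.1 hk
  have c1 : (O.filter fun x => k • x ≠ x).card ≤ (O \ fx K O).card := card_le_card fun x hx =>
    mem_sdiff.2 ⟨(mem_filter.1 hx).1, fun h => (mem_filter.1 hx).2 ((mem_fx.1 h).2 k hk)⟩
  rw [card_sdiff_of_subset (fx_subset K O)] at c1
  unfold del at h0
  exact (boch hO.inv t6 (hKH hk) ⟨b, hb, hk'⟩ (by omega)).mono (by omega)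

theorem pp (hK : Pro K) (n : ℕ) : PP K n := by
  induction n with
  | zero => intro Ω _ _ _ H O _ _ h; omega
  | succ n ih => exact step hK ih

theorem main (n : ℕ) (G : Subgroup (Equiv.Perm (Fin n)))
    (htrans : ∀ a b : Fin n, ∃ g ∈ G, g a = b)
    (K : Subgroup (Equiv.Perm (Fin n))) (hKG : K ≤ G) (hK : K ≠ ⊥)
    (hpro : ∀ g ∈ G, ∃ w ∈ K ⊔ K.map (MulAut.conj g).toMonoidHom,
      K.map (MulAut.conj w).toMonoidHom = K.map (MulAut.conj g).toMonoidHom) :
    2 * Nat.card {a : Fin n // ∀ k ∈ K, k a = a} + 1 ≤ n := by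
  have e : ∀ g : G, ((K.subgroupOf G).map (MulAut.conj g).toMonoidHom).map G.subtype =
      K.map (MulAut.conj (g : Equiv.Perm (Fin n))).toMonoidHom := fun g => by
    conv_rhs => rw [← Subgroup.map_subgroupOf_eq_of_le hKG]
    rw [Subgroup.map_map, Subgroup.map_map]; rfl
  have h1 : Pro (K.subgroupOf G) := fun g => by
    obtain ⟨w, hw, h⟩ := hpro g g.2
    rw [← e, ← Subgroup.map_subgroupOf_eq_of_le hKG, ← Subgroup.map_sup, Subgroup.map_subgroupOf_eq_of_le hKG] at hw
    obtain ⟨w, hw, rfl⟩ := hw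
    exact ⟨w, hw, Subgroup.map_injective G.subtype_injective (by rw [e, e]; exact h)⟩
  have h2 : ∀ a : Fin n, Fx (K.subgroupOf G) a ↔ ∀ k ∈ K, k a = a := fun a =>
    ⟨fun h k hk => h ⟨k, hKG hk⟩ hk, fun h k hk => h k hk⟩
  have := pp h1 (n + 1) (Fin n) ⊤ univ le_top ⟨fun _ _ _ _ => mem_univ _, fun a _ b _ => by
    obtain ⟨g, hg, h⟩ := htrans a b
    exact ⟨⟨g, hg⟩, trivial, h⟩⟩ (by simp) (by
      by_contra h
      refine hK (eq_bot_iff.2 fun k hk => Equiv.ext fun a => ?_)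
      exact (h2 a).1 (by_contra fun h' => h ⟨a, mem_univ _, h'⟩) k hk)
  have h3 : Nat.card {a : Fin n // ∀ k ∈ K, k a = a} = (fx (K.subgroupOf G) (univ : Finset (Fin n))).card := by
    rw [← Nat.card_eq_finsetCard]
    exact Nat.card_congr (Equiv.subtypeEquivRight fun a => by simp [h2])
  unfold del at this
  rw [card_univ, Fintype.card_fin] at this
  omega

end Cfsg.Agent.L0.Pn
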