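import Mathlib

/-! Definitions for S3399 (pronormal subgroups fix fewer than half of the points). -/

set_option autoImplicit false

namespace Cfsg.Agent.L0.Pn

open Finset

variable {G : Type} [Group G] {Ω : Type} [Fintype Ω] [DecidableEq Ω] [MulAction G Ω]

/-- `K` is pronormal in `G`. -/
def Pro (K : Subgroup G) : Prop :=
  ∀ g : G, ∃ w ∈ K ⊔ K.map (MulAut.conj g).toMonoidHom,
    K.map (MulAut.conj w).toMonoidHom = K.map (MulAut.conj g).toMonoidHom

/-- `x` is fixed by `K`. -/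
def Fx (K : Subgroup G) (x : Ω) : Prop := ∀ k ∈ K, k • x = x

open Classical in
/-- the points of `O` fixed by `K` -/
noncomputable def fx (K : Subgroup G) (O : Finset Ω) : Finset Ω := O.filter (Fx K)

/-- deficiency: moved minus fixed points -/
noncomputable def del (K : Subgroup G) (O : Finset Ω) : ℤ := (O.card : ℤ) - 2 * (fx K O).card

/-- `O` is `H`-invariant -/
def Inv (H : Subgroup G) (O : Finset Ω) : Prop := ∀ h ∈ H, ∀ x ∈ O, h • x ∈ O

/-- `O` is `H`-invariant and `H` is transitive on it -/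
structure Orb (H : Subgroup G) (O : Finset Ω) : Prop where
  inv : Inv H O
  tr : ∀ x ∈ O, ∀ y ∈ O, ∃ h ∈ H, h • x = y

/-- pointwise stabiliser of `D` in `H` -/
def fixS (H : Subgroup G) (D : Finset Ω) : Subgroup G where
  carrier := {g | g ∈ H ∧ ∀ d ∈ D, g • d = d}
  mul_mem' := fun {a b} ha hb => ⟨H.mul_mem ha.1 hb.1, fun d hd => by rw [mul_smul, hb.2 d hd, ha.2 d hd]⟩
  one_mem' := ⟨H.one_mem, fun d _ => one_smul _ d⟩
  inv_mem' := fun {a} ha => ⟨H.inv_mem ha.1, fun d hd => by rw [inv_smul_eq_iff, ha.2 d hd]⟩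

open Classical in
/-- the `H`-orbit of `x` -/
noncomputable def orb (H : Subgroup G) (x : Ω) : Finset Ω := univ.filter fun y => ∃ h ∈ H, h • x = y

/-- `H` is `k`-transitive on `O` -/
def TrK (H : Subgroup G) (O : Finset Ω) (k : ℕ) : Prop :=
  ∀ (D : Finset Ω) (φ : Ω → Ω), D ⊆ O → D.card ≤ k → Set.InjOn φ D → (∀ d ∈ D, φ d ∈ O) →
    ∃ h ∈ H, ∀ d ∈ D, h • d = φ d

/-- `B` is a block for `H` -/
def Blk (H : Subgroup G) (B : Finset Ω) : Prop :=
  ∀ h ∈ H, ∀ x ∈ B, h • x ∈ B → ∀ y ∈ B, h • y ∈ B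

/-- `K` acts on `O` with exponent two -/
def Exp2 (K : Subgroup G) (O : Finset Ω) : Prop := ∀ k ∈ K, ∀ x ∈ O, k • k • x = x

/-- `K` moves a point of `O` -/
def Mv (K : Subgroup G) (O : Finset Ω) : Prop := ∃ x ∈ O, ¬ Fx K x

/-- the induction hypothesis -/
def PP (K : Subgroup G) (n : ℕ) : Prop :=
  ∀ (Ω : Type) [Fintype Ω] [DecidableEq Ω] [MulAction G Ω] (H : Subgroup G) (O : Finset Ω),
    K ≤ H → Orb H O → O.card < n → Mv K O → 1 ≤ del K O

open Classical in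
/-- closure of a point -/
noncomputable def cl (K H : Subgroup G) (O : Finset Ω) (a : Ω) : Finset Ω :=
  O.filter fun x => ∀ g ∈ H, Fx K (g • a) → Fx K (g • x)

@[simp] theorem mem_fx {K : Subgroup G} {O : Finset Ω} {x : Ω} : x ∈ fx K O ↔ x ∈ O ∧ Fx K x := by
  classical simp [fx]

@[simp] theorem mem_fixS {H : Subgroup G} {D : Finset Ω} {g : G} :
    g ∈ fixS H D ↔ g ∈ H ∧ ∀ d ∈ D, g • d = d := Iff.rfl

@[simp] theorem mem_orb {H : Subgroup G} {x y : Ω} : y ∈ orb H x ↔ ∃ h ∈ H, h • x = y := by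
  classical simp [orb]

theorem mem_cl {K H : Subgroup G} {O : Finset Ω} {a x : Ω} :
    x ∈ cl K H O a ↔ x ∈ O ∧ ∀ g ∈ H, Fx K (g • a) → Fx K (g • x) := by
  classical simp [cl]

end Cfsg.Agent.L0.Pn
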