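import Cfsg.Agent.L0.U3Def
import Cfsg.Agent.H2.D1L33b
import Cfsg.Agent.H2.Pf5
import Cfsg.Agent.H3.Derangement2
import Cfsg.Agent.H3.BSBasic

/-! From a TI-family of the unitary shape to the point stabilisers, I. -/

set_option autoImplicit false
set_option linter.unusedSectionVars false

namespace Cfsg.Agent.L0.U3

open Subgroup MulAction
open scoped commutatorElement

variable {G Ω : Type*} [Group G] [Finite G] [MulAction G Ω] [Finite Ω] {q : ℕ}

theorem semireg {E : Subgroup G} {S : Set Ω} (h1 : ∀ g ∈ E, ∀ s ∈ S, g • s ∈ S)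
    (h2 : ∀ g ∈ E, ∀ s ∈ S, g • s = s → g = 1) : Nat.card E ∣ S.ncard :=
  H3.dvd_ncard_of_invariant (G := E) S (fun g => h1 g g.2) fun s hs => by
    rw [show stabilizer E s = ⊥ from eq_bot_iff.mpr fun g hg =>
      Subtype.ext (h2 g g.2 s hs hg), index_bot]

theorem semireg_conj {E : Subgroup G} {S : Set G} (h1 : ∀ g ∈ E, ∀ s ∈ S, g * s * g⁻¹ ∈ S)
    (h2 : ∀ g ∈ E, ∀ s ∈ S, g * s * g⁻¹ = s → g = 1) : Nat.card E ∣ S.ncard :=
  @semireg G G _ _ (MulAction.compHom G (MulAut.conj (G := G))) _ E S h1 h2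

theorem exists_sign {z : G} (hz : {p : Ω | z • p = p}.ncard = 10) : ∃ ε : G → ℤˣ,
    (∀ a b, Commute z a → Commute z b → ε (a * b) = ε a * ε b) ∧
    (∀ a n, Commute z a → ε (a ^ n) = ε a ^ n) ∧ (∀ a n, Commute z a → a ^ n = 1 → Odd n → ε a = 1) ∧
    ∀ s, Commute z s → s * s = 1 → (∀ p : Ω, z • p = p → s • p ≠ p) → ε s = -1 := by
  classical
  have := Fintype.ofFinite Ω
  let φ : ∀ k, Commute z k → Equiv.Perm {p : Ω // z • p = p} := fun k hk =>
    (toPerm k).subtypePerm fun p => by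
      rw [toPerm_apply, ← mul_smul, hk.eq, mul_smul, smul_left_cancel_iff]
  have hφ : ∀ k hk p, (φ k hk p).1 = k • p.1 := fun _ _ _ => rfl
  obtain ⟨ε, hε⟩ : ∃ ε : G → ℤˣ, ∀ k hk, ε k = Equiv.Perm.sign (φ k hk) :=
    ⟨fun k => if hk : Commute z k then Equiv.Perm.sign (φ k hk) else 1, fun k hk => dif_pos hk⟩
  have hm : ∀ a b, Commute z a → Commute z b → ε (a * b) = ε a * ε b := fun a b ha hb => by
    rw [hε a ha, hε b hb, hε _ (ha.mul_right hb), ← map_mul]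
    congr 1; ext p; simp [hφ, mul_smul]
  have hp : ∀ a n, Commute z a → ε (a ^ n) = ε a ^ n := fun a n ha => by
    induction n with
    | zero => simpa using hm 1 1 (Commute.one_right _) (Commute.one_right _)
    | succ n ih => rw [pow_succ, hm _ _ (ha.pow_right n) ha, ih, pow_succ]
  refine ⟨ε, hm, hp, fun a n ha e hn => ?_, fun s hs e hf => ?_⟩
  · have h1 := hp a n ha
    have h2 := hp a 0 ha
    rw [e, ← pow_zero a, h2, pow_zero] at h1
    rcases Int.units_eq_one_or (ε a) with h | h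
    · exact h
    · rw [h, hn.neg_one_pow] at h1; exact absurd h1 (by decide)
  · have : IsEmpty (Function.fixedPoints (φ s hs)) := ⟨fun p => hf _ p.1.2 (Subtype.ext_iff.1 p.2)⟩
    rw [hε s hs, Equiv.Perm.sign_of_pow_two_eq_one (by ext p; simp [sq, hφ, ← mul_smul, e]),
      Fintype.card_eq_zero (α := Function.fixedPoints _), ← Nat.card_eq_fintype_card,
      show Nat.card {p : Ω // z • p = p} = 10 from hz]
    decide

/-- the abstract setting -/
structure TP (G Ω : Type*) [Group G] [MulAction G Ω] (q : ℕ) where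
  Q : Ω → Subgroup G
  Y : Ω → Subgroup G
  hq : q = 7 ∨ q = 9
  cardΩ : Nat.card Ω = q ^ 3 + 1
  cardS : ∀ a : Ω, Nat.card (stabilizer G a) = q ^ 3 * (q ^ 2 - 1)
  cardQ : ∀ a, Nat.card (Q a) = q ^ 3
  fix : ∀ a, ∀ x ∈ Q a, x • a = a
  norm : ∀ a (k : G), k • a = a → ∀ x ∈ Q a, k * x * k⁻¹ ∈ Q a
  free : ∀ a b, a ≠ b → ∀ x ∈ Q a, x • b = b → x = 1
  le : ∀ a, Y a ≤ Q a
  cardY : ∀ a, Nat.card (Y a) = q
  cen : ∀ a, Q a ≤ centralizer (Y a : Set G)
  normY : ∀ a (k : G), k • a = a → ∀ y ∈ Y a, k * y * k⁻¹ ∈ Y a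
  cardC : ∀ a, Nat.card (centralizer (Y a : Set G)) = q ^ 3 * (q + 1)
  cfix : ∀ a, centralizer (Y a : Set G) ≤ stabilizer G a
  ceq : ∀ a, ∀ y ∈ Y a, y ≠ 1 → ∀ k, Commute k y → k ∈ centralizer (Y a : Set G)
  cx : ∀ a, ∀ x ∈ Q a, x ∉ Y a → Nat.card (centralizer ({x} : Set G)) ∣ q ^ 3
  nc : ∀ a, ∃ x ∈ Q a, ∃ x' ∈ Q a, ¬ Commute x x'
  invol : ∀ t : G, orderOf t = 2 → ∃ a : Ω, t • a = a

/-- the two-point stabiliser -/
abbrev HH (G : Type*) {Ω : Type*} [Group G] [MulAction G Ω] (a b : Ω) : Subgroup G :=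
  stabilizer G a ⊓ stabilizer G b

namespace TP

variable (T : TP G Ω q) {a b : Ω} {k x x' y y' t s z : G}

theorem pt_ne (hab : a ≠ b) (hx : x • a = a) : x • b ≠ a := fun e =>
  hab ((smul_left_cancel_iff x).1 (hx.trans e.symm))

include T

theorem cm (hy : y ∈ T.Y a) (hx : x ∈ centralizer (T.Y a : Set G)) : Commute y x := hx y hy

theorem pt_inj (hab : a ≠ b) (hx : x ∈ T.Q a) (hx' : x' ∈ T.Q a) (e : x • b = x' • b) : x = x' :=
  inv_mul_eq_one.1 (T.free a b hab _ (mul_mem (inv_mem hx) hx') (by rw [mul_smul, ← e, inv_smul_smul]))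

theorem ncard_ne (a : Ω) : ({a}ᶜ : Set Ω).ncard = q ^ 3 := by
  rw [Set.ncard_compl, T.cardΩ, Set.ncard_singleton, Nat.add_sub_cancel]

theorem trans (hab : a ≠ b) {p : Ω} (hp : p ≠ a) : ∃ x ∈ T.Q a, x • b = p := by
  obtain ⟨x, hx⟩ := (Function.Injective.bijective_of_nat_card_le
    (f := fun x : T.Q a => (⟨x.1 • b, pt_ne hab (T.fix a x x.2)⟩ : ({a}ᶜ : Set Ω)))
    (fun x x' e => Subtype.ext (T.pt_inj hab x.2 x'.2 (Subtype.ext_iff.1 e)))
    (by rw [T.cardQ, Nat.card_coe_set_eq, T.ncard_ne])).2 ⟨p, hp⟩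
  exact ⟨x, x.2, Subtype.ext_iff.1 hx⟩

theorem card_inf (hab : a ≠ b) {K : Subgroup G} (h1 : T.Q a ≤ K) (h2 : K ≤ stabilizer G a) {n : ℕ}
    (hn : Nat.card K = q ^ 3 * n) : Nat.card (K ⊓ stabilizer G b : Subgroup G) = n := by
  have e := H2.D1.card_mul_rel (inf_le_left (a := K) (b := stabilizer G b))
  rw [inf_relIndex_left, show (stabilizer G b).relIndex K = (stabilizer K b).index from rfl, index_stabilizer,
    show orbit K b = {a}ᶜ from Set.ext fun p => ⟨by rintro ⟨k, rfl⟩; exact pt_ne hab (h2 k.2),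
      fun hp => let ⟨x, hx, e⟩ := T.trans hab hp; ⟨⟨x, h1 hx⟩, e⟩⟩, T.ncard_ne, hn, mul_comm] at e
  exact Nat.eq_of_mul_eq_mul_left (by rcases T.hq with rfl | rfl <;> decide) e

theorem cardH (hab : a ≠ b) : Nat.card (HH G a b) = q ^ 2 - 1 :=
  T.card_inf hab (T.fix a) le_rfl (T.cardS a)

theorem cardW (hab : a ≠ b) :
    Nat.card (centralizer (T.Y a : Set G) ⊓ stabilizer G b : Subgroup G) = q + 1 :=
  T.card_inf hab (T.cen a) (T.cfix a) (T.cardC a)

theorem semi (hab : a ≠ b) (hk : k ∈ HH G a b) (k1 : k ≠ 1) (hx : x ∈ T.Q a)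
    (e : k * x * k⁻¹ * x⁻¹ ∈ T.Y a) : x ∈ T.Y a := by
  have hp := Nat.minFac_prime (orderOf_eq_one_iff.not.2 k1)
  have ho := orderOf_pow_orderOf_div (orderOf_pos k).ne' (Nat.minFac_dvd (orderOf k))
  have hd : ¬ (orderOf k).minFac ∣ q := fun h => by
    have h2 := (Nat.minFac_dvd _).trans (T.cardH hab ▸ orderOf_dvd_natCard _ hk)
    have := Nat.dvd_gcd h h2
    exact hp.one_lt.ne' (Nat.dvd_one.1 (by rcases T.hq with rfl | rfl <;> exact this))
  have hS : ∀ (i : ℕ), ∀ u ∈ {u | u * x⁻¹ ∈ T.Y a}, k ^ i * u * (k ^ i)⁻¹ ∈ {u | u * x⁻¹ ∈ T.Y a} := fun i u hu => by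
    induction i with
    | zero => simpa using hu
    | succ i ih =>
      have := mul_mem (T.normY a k hk.1 _ ih) e
      simpa [pow_succ', mul_assoc] using this
  have h1 := H2.Pf.card_modEq_conj hp (orderOf_dvd_iff_pow_eq_one.1 ho.dvd) _ (hS (orderOf k / (orderOf k).minFac))
  rw [show Nat.card {u | u * x⁻¹ ∈ T.Y a} = q from (Nat.card_congr
    ((Equiv.mulRight x⁻¹).subtypeEquiv fun _ => Iff.rfl)).trans (T.cardY a)] at h1
  obtain ⟨u, hu, h2⟩ := (Nat.card_ne_zero.1 fun e => hd (Nat.modEq_zero_iff_dvd.1 (e ▸ h1))).1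
  have uQ : u ∈ T.Q a := by simpa using mul_mem (T.le a hu) hx
  by_cases uY : u ∈ T.Y a
  · simpa using mul_mem (inv_mem hu) uY
  · exact (hd (hp.dvd_of_dvd_pow ((ho ▸ orderOf_dvd_natCard _
      (mem_centralizer_singleton_iff.2 h2)).trans (T.cx a u uQ uY)))).elim

theorem inv_mod (hab : a ≠ b) (ht : t ∈ HH G a b) (h2 : orderOf t = 2) :
    (∀ x ∈ T.Q a, t * x * t⁻¹ * x ∈ T.Y a) ∧ ∀ x ∈ T.Q a, ∀ x' ∈ T.Q a, ⁅x, x'⁆ ∈ T.Y a := by
  have nY : ((T.Y a).subgroupOf (T.Q a)).Normal := ⟨fun y hy x => T.normY a x (T.fix a x x.2) y hy⟩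
  let c : T.Q a →* T.Q a := ((MulAut.conj t).toMonoidHom.comp (T.Q a).subtype).codRestrict _
    fun x => T.norm a t ht.1 x x.2
  let φ := QuotientGroup.map ((T.Y a).subgroupOf (T.Q a)) ((T.Y a).subgroupOf (T.Q a)) c fun y hy => T.normY a t ht.1 y hy
  have tt : t * t = 1 := by rw [← sq, ← h2, pow_orderOf_eq_one]
  have f1 : MonoidHom.FixedPointFree φ := fun v => QuotientGroup.induction_on v fun x e =>
    (QuotientGroup.eq_one_iff _).2 (T.semi hab ht (by rintro rfl; simp at h2) x.2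
      (by simpa [c, mem_subgroupOf, div_eq_mul_inv] using QuotientGroup.eq_iff_div_mem.1 e))
  have f2 : Function.Involutive φ := fun v => QuotientGroup.induction_on v fun x =>
    congrArg QuotientGroup.mk (Subtype.ext (by
      simp [c, mul_assoc, ← mul_assoc t t, tt, inv_eq_of_mul_eq_one_left tt]))
  refine ⟨fun x hx => ?_, fun x hx x' hx' => ?_⟩
  · have := congrFun (f1.coe_eq_inv_of_involutive f2) ((⟨x, hx⟩ : T.Q a) : _ ⧸ _)
    simpa [c, mem_subgroupOf, div_eq_mul_inv] using QuotientGroup.eq_iff_div_mem.1 this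
  · have := (f1.commute_all_of_involutive f2 ((⟨x, hx⟩ : T.Q a) : _ ⧸ _) ((⟨x', hx'⟩ : T.Q a) : _ ⧸ _)).eq
    simpa [mem_subgroupOf, div_eq_mul_inv, commutatorElement_def, mul_assoc] using
      QuotientGroup.eq_iff_div_mem.1 this

theorem exists_nY (a : Ω) : ∃ x ∈ T.Q a, x ∉ T.Y a :=
  let ⟨x, hx, _, hx', h⟩ := T.nc a
  ⟨x, hx, fun e => h (T.cm e (T.cen a hx'))⟩

theorem uniq (hab : a ≠ b) (ht : t ∈ HH G a b) (h2 : orderOf t = 2) (hs : s ∈ HH G a b)
    (h2' : orderOf s = 2) : t = s := by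
  obtain ⟨x, hx, hn⟩ := T.exists_nY a
  have := mul_mem (T.normY a _ (inv_mem ht).1 _ ((T.inv_mod hab hs h2').1 x hx))
    ((T.inv_mod hab (inv_mem ht) (by simpa using h2)).1 _ (inv_mem hx))
  exact inv_mul_eq_one.1 (by_contra fun e => hn (T.semi hab (mul_mem (inv_mem ht) hs) e hx
    (by simpa [mul_assoc] using this)))

theorem cmod (hy : y ∈ T.Y a) (hx : x ∈ T.Q a) (hx' : x' ∈ T.Q a) :
    ⁅y * x, x'⁆ = ⁅x, x'⁆ ∧ ⁅x', y * x⁆ = ⁅x', x⁆ := by
  have : ⁅y * x, x'⁆ = ⁅x, x'⁆ := by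
    rw [commutatorElement_def, commutatorElement_def, ← (T.cm hy (T.cen a
      (mul_mem (mul_mem hx hx') (inv_mem hx)))).mul_inv_cancel]
    group
  exact ⟨this, by rw [← commutatorElement_inv, this, commutatorElement_inv]⟩

theorem inW (hab : a ≠ b) (ht : t ∈ HH G a b) (h2 : orderOf t = 2) : t ∈ centralizer (T.Y a : Set G) := by
  obtain ⟨x, hx, x', hx', h⟩ := T.nc a
  obtain ⟨h3, h4⟩ := T.inv_mod hab ht h2
  refine T.ceq a _ (h4 x hx x' hx') (commutatorElement_eq_one_iff_commute.not.2 h) t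
    (mul_inv_eq_iff_eq_mul.1 ?_)
  rw [conjugate_commutatorElement, ← mul_inv_cancel_right (t * x * t⁻¹) x,
    (T.cmod (h3 x hx) (inv_mem hx) (T.norm a t ht.1 _ hx')).1, ← mul_inv_cancel_right (t * x' * t⁻¹) x',
    (T.cmod (h3 x' hx') (inv_mem hx') (inv_mem hx)).2,
    ← (T.cm (h4 x hx x' hx') (T.cen a (mul_mem hx' hx))).symm.inv_mul_cancel_assoc,
    commutatorElement_def, commutatorElement_def]
  group

theorem fix_pt (hab : a ≠ b) (hk : k ∈ HH G a b) (hx : x ∈ T.Q a) (e : k • x • b = x • b) :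
    k * x * k⁻¹ = x :=
  T.pt_inj hab (T.norm a k hk.1 x hx) hx (by rw [mul_smul, mul_smul, (inv_mem hk).2, e])

theorem fix_mem (hab : a ≠ b) (hk : k ∈ HH G a b) (k1 : k ≠ 1) {p : Ω} (e : k • p = p) (hp : p ≠ a) :
    ∃ y ∈ T.Y a, y • b = p ∧ Commute k y := by
  obtain ⟨x, hx, rfl⟩ := T.trans hab hp
  have := T.fix_pt hab hk hx e
  exact ⟨x, T.semi hab hk k1 hx (by simp [this, one_mem]), rfl, mul_inv_eq_iff_eq_mul.1 this⟩

theorem fix_iff (hab : a ≠ b) (hk : k ∈ centralizer (T.Y a : Set G)) (hb : k • b = b) (k1 : k ≠ 1) (p : Ω) :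
    k • p = p ↔ p = a ∨ ∃ y ∈ T.Y a, y • b = p :=
  ⟨fun e => or_iff_not_imp_left.2 fun hp => (T.fix_mem hab ⟨T.cfix a hk, hb⟩ k1 e hp).imp
    fun _ h => ⟨h.1, h.2.1⟩, by
    rintro (rfl | ⟨y, hy, rfl⟩)
    · exact T.cfix _ hk
    · rw [← mul_smul, ← (T.cm hy hk).eq, mul_smul, hb]⟩

theorem exists_fix (hs : orderOf s = 2) (hz : orderOf z = 2) (c : Commute s z) (h1 : s • a = a)
    (h2 : z • a = a) : ∃ b, a ≠ b ∧ s • b = b ∧ z • b = b := by
  obtain ⟨b, hb, hn⟩ := (H2.D1.isPGroup_pair (H2.D1.isPElt_of_orderOf hs) (H2.D1.isPElt_of_orderOf hz)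
    c).exists_fixed_point_of_prime_dvd_card_of_fixed_point Ω
    (by rw [T.cardΩ]; rcases T.hq with rfl | rfl <;> decide) (a := a) fun k =>
      (sup_le (zpowers_le.2 h1) (zpowers_le.2 h2) : _ ≤ stabilizer G a) k.2
  exact ⟨b, hn, hb ⟨s, mem_sup_left (mem_zpowers s)⟩, hb ⟨z, mem_sup_right (mem_zpowers z)⟩⟩

theorem comm_fix (hs : orderOf s = 2) (hz : orderOf z = 2) (c : Commute s z) (h1 : s • a = a)
    (h2 : z • a = a) : s = z :=
  let ⟨_, hab, h3, h4⟩ := T.exists_fix hs hz c h1 h2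
  T.uniq hab ⟨h1, h3⟩ hs ⟨h2, h4⟩ hz

theorem cardFix (ht : orderOf t = 2) : {p : Ω | t • p = p}.ncard = q + 1 := by
  obtain ⟨a, ha⟩ := T.invol t ht
  obtain ⟨b, hab, hb, -⟩ := T.exists_fix ht ht (Commute.refl t) ha ha
  rw [show {p : Ω | t • p = p} = insert a ((· • b) '' (T.Y a : Set G)) from Set.ext
    (T.fix_iff hab (T.inW hab ⟨ha, hb⟩ ht) hb (by rintro rfl; simp at ht)), Set.ncard_insert_of_notMem,
    Set.ncard_image_of_injOn fun x hx x' hx' => T.pt_inj hab (T.le a hx) (T.le a hx'),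
    ← Nat.card_coe_set_eq]
  · exact congrArg (· + 1) (T.cardY a)
  · rintro ⟨y, hy, e⟩
    exact pt_ne hab (T.fix a y (T.le a hy)) e

theorem exists_z (hab : a ≠ b) : ∃ z ∈ HH G a b, orderOf z = 2 := by
  obtain ⟨z, hz⟩ := exists_prime_orderOf_dvd_card' (G := HH G a b) 2 (by
    rw [T.cardH hab]; rcases T.hq with rfl | rfl <;> decide)
  exact ⟨z, z.2, by simpa using hz⟩

theorem card_inv : {t : G | orderOf t = 2}.ncard * ((q + 1) * q) = (q ^ 3 + 1) * q ^ 3 := by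
  classical
  have := Fintype.ofFinite Ω
  have := Fintype.ofFinite G
  have h := Finset.card_mul_eq_card_mul (s := Finset.univ.filter fun t : G => orderOf t = 2)
    (t := (Finset.univ : Finset Ω).offDiag) (fun t p => t • p.1 = p.1 ∧ t • p.2 = p.2) (m := (q + 1) * q)
    (n := 1) (fun t ht => by
      have e := T.cardFix (Finset.mem_filter.1 ht).2
      rw [Set.ncard_eq_toFinset_card', Set.toFinset_setOf] at e
      rw [show Finset.bipartiteAbove _ _ t = (Finset.univ.filter fun p : Ω => t • p = p).offDiag from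
        Finset.ext fun p => by simp [and_comm, and_assoc, and_left_comm], Finset.offDiag_card, e, Nat.mul_succ,
        Nat.add_sub_cancel]) fun p hp => by
      have hab := (Finset.mem_offDiag.1 hp).2.2
      obtain ⟨z, hz, h2⟩ := T.exists_z hab
      exact Finset.card_eq_one.2 ⟨z, Finset.eq_singleton_iff_unique_mem.2 ⟨by simpa using ⟨h2, hz⟩,
        fun t ht => by simp at ht; exact T.uniq hab ht.2 ht.1 hz h2⟩⟩
  rw [Finset.offDiag_card, Finset.card_univ, ← Nat.card_eq_fintype_card, T.cardΩ, Nat.mul_succ (q ^ 3 + 1),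
    Nat.add_sub_cancel, mul_one] at h
  rw [Set.ncard_eq_toFinset_card', Set.toFinset_setOf, h]

end TP

end Cfsg.Agent.L0.U3
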