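import Cfsg.Agent.L0.U3C1

/-! From a TI-family of the unitary shape to the point stabilisers, II. -/

set_option autoImplicit false
set_option linter.unusedSectionVars false

namespace Cfsg.Agent.L0.U3

open Subgroup MulAction
open scoped commutatorElement

variable {G Ω : Type*} [Group G] [Finite G] [MulAction G Ω] [Finite Ω] {q : ℕ}

theorem ord_sq {e : G} (h4 : orderOf e = 4) : orderOf (e * e) = 2 := by
  rw [← sq, orderOf_pow, h4]; rfl

namespace TP

variable {a b : Ω} {k x y t s z g u : G}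

theorem four7 {e : G} (T : TP G Ω 7) (hab : a ≠ b) (he : e ∈ HH G a b) (h4 : orderOf e = 4) :
    e ∈ centralizer (T.Y a : Set G) := by
  by_contra hn
  obtain ⟨x, hx, x', hx', h⟩ := T.nc a
  obtain ⟨h3, h5⟩ := T.inv_mod hab (mul_mem he he) (ord_sq h4)
  have h1 := T.norm a e he.1 x hx
  have c : Commute x (e * x * e⁻¹) := commutatorElement_eq_one_iff_commute.1 (by_contra fun c => hn
    (T.ceq a _ (h5 x hx _ h1) c e (mul_inv_eq_iff_eq_mul.1 (by
      rw [conjugate_commutatorElement, show e * (e * x * e⁻¹) * e⁻¹ = e * e * x * (e * e)⁻¹ * x * x⁻¹ by group,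
        (T.cmod (h3 x hx) (inv_mem hx) h1).2,
        ← (T.cm (h5 x hx _ h1) (T.cen a hx)).symm.inv_mul_cancel_assoc,
        commutatorElement_def, commutatorElement_def]
      group))))
  set M := T.Q a ⊓ centralizer {x}
  have xM : x ∈ M := ⟨hx, mem_centralizer_singleton_iff.2 rfl⟩
  have YM : T.Y a ≤ M := fun y hy => ⟨T.le a hy, mem_centralizer_singleton_iff.2 (T.cm hy (T.cen a hx))⟩
  have hM : Nat.card M = 7 ^ 2 := by
    have d1 := card_dvd_of_le YM
    have d2 := Nat.mem_divisors.2 ⟨T.cardQ a ▸ card_dvd_of_le (inf_le_left : M ≤ _), by decide⟩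
    have d3 : Nat.card M ≠ 7 := fun e => h (T.cm ((eq_of_le_of_card_ge YM (by rw [e, T.cardY])).ge xM)
      (T.cen a hx'))
    have d4 : Nat.card M ≠ 7 ^ 3 := fun e => h (mem_centralizer_singleton_iff.1
      ((eq_of_le_of_card_ge (inf_le_left : M ≤ _) (by rw [e, T.cardQ])).ge hx').2).symm
    rw [T.cardY] at d1
    generalize Nat.card M = n at *
    revert d1 d3 d4
    revert d2 n
    decide
  have hc : ∀ m ∈ M, e⁻¹ * m * e ∈ M := fun m hm => ⟨by simpa using T.norm a _ (inv_mem he).1 m hm.1,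
    mem_centralizer_singleton_iff.2 (by
      have := congrArg Subtype.val ((IsPGroup.isMulCommutative_of_card_eq_prime_sq hM).is_comm.comm
        ⟨m, hm⟩ ⟨_, h1, mem_centralizer_singleton_iff.2 c.symm⟩)
      simp only [coe_mul] at this
      calc _ = e⁻¹ * (m * (e * x * e⁻¹)) * e := by group
        _ = _ := by rw [this]; group)⟩
  have hi : ∀ (i : ℕ), ∀ m ∈ M, e⁻¹ ^ i * m * (e⁻¹ ^ i)⁻¹ ∈ M := fun i m hm => by
    induction i with
    | zero => simpa using hm
    | succ i ih => simpa [pow_succ', mul_assoc] using hc _ ih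
  have hH := zpowers_le.2 (inv_mem he)
  have := semireg_conj (E := zpowers e⁻¹) (S := (M : Set G) \ T.Y a) (fun k hk m hm => ⟨by
    obtain ⟨i, rfl⟩ := mem_powers_iff_mem_zpowers.2 hk
    exact hi i m hm.1, fun e => hm.2 (by simpa [mul_assoc] using T.normY a _ (inv_mem (hH hk)).1 _ e)⟩)
    fun k hk m hm e => by_contra fun k1 => hm.2 (T.semi hab (hH hk) k1 hm.1.1 (by simp [e, one_mem]))
  rw [Set.ncard_diff YM, ← Nat.card_coe_set_eq, ← Nat.card_coe_set_eq, Nat.card_zpowers, orderOf_inv, h4] at this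
  exact absurd ((show Nat.card M - Nat.card (T.Y a) = 42 by rw [hM, T.cardY]; rfl) ▸ this) (by decide)

theorem four9 {e : G} (T : TP G Ω 9) (hab : a ≠ b) (he : e ∈ HH G a b) (h4 : orderOf e = 4) (hy : y ∈ T.Y a) :
    e * y * e⁻¹ = y⁻¹ := by
  have h1 := T.normY a e he.1 y hy
  refine eq_inv_of_mul_eq_one_right (by_contra fun c => ?_)
  have := orderOf_dvd_natCard (centralizer (T.Y a : Set G) ⊓ stabilizer G b) ⟨T.ceq a _ (mul_mem hy h1) c e
    (mul_inv_eq_iff_eq_mul.1 (by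
      rw [show e * (y * (e * y * e⁻¹)) * e⁻¹ = e * y * e⁻¹ * (e * e * y * (e * e)⁻¹) by group,
        (T.cm hy (T.inW hab (mul_mem he he) (ord_sq h4))).symm.mul_inv_cancel,
        (T.cm hy (T.cen a (T.le a h1))).eq])), he.2⟩
  rw [h4, T.cardW hab] at this
  exact absurd this (by decide)

variable (T : TP G Ω q)
include T

theorem exists_sq (hab : a ≠ b) (ht : t ∈ HH G a b) (h8 : t ^ 8 = 1) : ∃ u ∈ HH G a b, t = u * u := by
  obtain ⟨P, hP⟩ := (show H3.IsPElt 2 (⟨t, ht⟩ : HH G a b) from ⟨3, Subtype.ext h8⟩).isPGroup_zpowers.exists_le_sylow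
  have hc : Nat.card P = 16 := by
    rw [P.card_eq_multiplicity, T.cardH hab]; rcases T.hq with rfl | rfl <;> decide +kernel
  rcases H3.NoKlein.cyclic_or_quaternion (G := P) (fun u v hu hv _ => Subtype.ext (Subtype.ext
    (T.uniq hab u.1.2 (by simpa using hu) v.1.2 (by simpa using hv)))) P.isPGroup' with h | ⟨n, ⟨f⟩⟩
  · obtain ⟨g, hg⟩ := h.exists_generator
    obtain ⟨i, hi⟩ := mem_powers_iff_mem_zpowers.2 (hg ⟨_, hP (mem_zpowers _)⟩)
    have e : g.1.1 ^ i = t := by simpa using congrArg (fun x : P => x.1.1) hi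
    rw [← e, ← pow_mul, ← orderOf_dvd_iff_pow_eq_one, orderOf_coe, orderOf_coe,
      orderOf_eq_card_of_forall_mem_zpowers hg, hc] at h8
    obtain ⟨j, rfl⟩ : 2 ∣ i := by omega
    exact ⟨g.1.1 ^ j, pow_mem g.1.2 j, by rw [← e, two_mul, pow_add]⟩
  exfalso
  obtain rfl : n = 1 := by
    have := Nat.card_congr f.toEquiv
    rw [hc, Nat.card_eq_fintype_card, QuaternionGroup.card] at this
    exact Nat.succ_injective (Nat.pow_right_injective le_rfl (by simp only; omega))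
  let φ := ((HH G a b).subtype.comp (P : Subgroup (HH G a b)).subtype).comp f.symm.toMonoidHom
  have hi : Function.Injective φ := Subtype.val_injective.comp (Subtype.val_injective.comp f.symm.injective)
  have hH : ∀ x, φ x ∈ HH G a b := fun x => (f.symm x).1.2
  have h4 : ∀ i, orderOf (φ (.xa i)) = 4 := fun i => by rw [orderOf_injective φ hi, QuaternionGroup.orderOf_xa]
  have ha : ∀ i, φ (.a i) = φ (.xa 0) * φ (.xa (i - (2 ^ (1 + 1) : ℕ))) := fun i => by
    rw [← map_mul, QuaternionGroup.xa_mul_xa]; simp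
  have hW := T.cardW hab
  rcases T.hq with rfl | rfl
  · have := card_dvd_of_injective (φ.codRestrict (centralizer (T.Y a : Set G) ⊓ stabilizer G b) fun x =>
      ⟨by
        rcases x with i | i
        exacts [ha i ▸ mul_mem (T.four7 hab (hH _) (h4 _)) (T.four7 hab (hH _) (h4 _)),
          T.four7 hab (hH _) (h4 _)], (hH x).2⟩) ((MonoidHom.injective_codRestrict _ _ _).2 hi)
    rw [hW, Nat.card_eq_fintype_card, QuaternionGroup.card] at this
    exact absurd this (by decide)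
  · have := orderOf_dvd_natCard (centralizer (T.Y a : Set G) ⊓ stabilizer G b) (x := φ (.a 1))
      ⟨fun y hy => (mul_inv_eq_iff_eq_mul.1 (by
        rw [ha, mul_inv_rev, ← mul_assoc, mul_assoc _ _ y, mul_assoc _ (_ * y), T.four9 hab (hH _) (h4 _) hy,
          T.four9 hab (hH _) (h4 _) (inv_mem hy), inv_inv])).symm, (hH _).2⟩
    rw [hW, orderOf_injective φ hi, QuaternionGroup.orderOf_a_one] at this
    exact absurd this (by decide)

section swap

variable (hab : a ≠ b) (hs : orderOf s = 2) (e : s • a = b)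
include hab hs e

theorem ss : s * s = 1 ∧ s⁻¹ = s ∧ (∀ p : Ω, s • s • p = p) ∧ s • b = a := by
  have : s * s = 1 := by rw [← sq, ← hs, pow_orderOf_eq_one]
  have h : ∀ p : Ω, s • s • p = p := fun p => by rw [← mul_smul, this, one_smul]
  exact ⟨this, inv_eq_of_mul_eq_one_left this, h, by rw [← e, h]⟩

theorem sH (hk : k ∈ HH G a b) : s * k * s ∈ HH G a b := by
  obtain ⟨-, -, -, h⟩ := T.ss hab hs e
  exact ⟨show _ • _ = _ by rw [mul_smul, mul_smul, e, hk.2, h],
    show _ • _ = _ by rw [mul_smul, mul_smul, h, hk.1, e]⟩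

theorem sz (hz : z ∈ HH G a b) (h2 : orderOf z = 2) : Commute s z := by
  obtain ⟨-, h, -⟩ := T.ss hab hs e
  refine mul_inv_eq_iff_eq_mul.1 (T.uniq hab (h.symm ▸ T.sH hab hs e hz) ?_ hz h2)
  rw [← h2]; exact orderOf_injective (MulAut.conj s).toMonoidHom (MulAut.conj s).injective z

theorem bruhat : ∃ y ∈ T.Y a, ∃ y1 ∈ T.Y a, ∃ y2 ∈ T.Y a, y2⁻¹ * (s * y1⁻¹ * s * y * s) ∈ HH G a b := by
  obtain ⟨-, -, h1, h2⟩ := T.ss hab hs e
  obtain ⟨z, hz, z2⟩ := T.exists_z hab
  have c := (T.sz hab hs e hz z2).symm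
  have cz := T.inW hab hz z2
  have z1 : z ≠ 1 := by rintro rfl; simp at z2
  have : Nontrivial (T.Y a) := Finite.one_lt_card_iff_nontrivial.1 (by
    rw [T.cardY]; rcases T.hq with rfl | rfl <;> decide)
  obtain ⟨⟨y, hy⟩, y0⟩ := exists_ne (1 : T.Y a)
  have cy := (T.cm hy cz).symm
  obtain ⟨y1, h3, h4, -⟩ := T.fix_mem hab hz z1 (p := (s * y) • b)
    (by rw [← mul_smul, (c.mul_right cy).eq, mul_smul, hz.2]) fun e' => y0 (Subtype.ext
      (T.free a b hab y (T.le a hy) (by rw [← h1 (y • b), ← mul_smul s y, e', e])))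
  have h5 : (s * y1⁻¹ * s * y * s) • a = a := by
    rw [mul_smul, e, mul_assoc, mul_smul, ← h4, mul_smul, inv_smul_smul, h2]
  obtain ⟨y2, h6, h7, -⟩ := T.fix_mem hab hz z1 (p := (s * y1⁻¹ * s * y * s) • b)
    (by rw [← mul_smul, ((((c.mul_right (T.cm h3 cz).symm.inv_right).mul_right c).mul_right cy).mul_right
      c).eq, mul_smul, hz.2]) (pt_ne hab h5)
  exact ⟨y, hy, y1, h3, y2, h6, show _ • _ = _ by rw [mul_smul, h5, T.fix a _ (inv_mem (T.le a h6))],
    show _ • _ = _ by rw [mul_smul, ← h7, inv_smul_smul]⟩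

theorem dvd_of_comm (hu : u ∈ HH G a b) (c : Commute u s)
    (hd : ∀ d ∈ (orderOf u).divisors, d ∣ q + 1 → d = 1 ∨ 2 ∣ d) : orderOf u ∣ q + 1 := by
  obtain ⟨-, -, -, h2⟩ := T.ss hab hs e
  have hc : ∀ k ∈ zpowers u, Commute k s := by rintro _ ⟨i, rfl⟩; exact c.zpow_left i
  rw [← T.cardFix hs, ← Nat.card_zpowers]
  refine semireg (fun k hk p hp => ?_) fun k hk p hp kp => by_contra fun k1 => ?_
  · rw [Set.mem_setOf_eq, ← mul_smul, ← (hc k hk).eq, mul_smul, hp]
  have kH := zpowers_le.2 hu hk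
  obtain ⟨y, hy, rfl, h3⟩ := T.fix_mem hab kH k1 kp (by rintro rfl; exact hab (hp.symm.trans e))
  have y1 : y ≠ 1 := by rintro rfl; exact hab (h2.symm.trans (by simpa using hp))
  have h4 := (hd _ (Nat.mem_divisors.2 ⟨orderOf_dvd_of_mem_zpowers hk, (orderOf_pos u).ne'⟩)
    (T.cardW hab ▸ Subgroup.orderOf_dvd_natCard (centralizer (T.Y a : Set G) ⊓ stabilizer G b)
      ⟨T.ceq a y hy y1 k h3, kH.2⟩)).resolve_left
    (orderOf_eq_one_iff.not.2 k1)
  have h5 := T.comm_fix (orderOf_pow_orderOf_div (orderOf_pos k).ne' h4) hs ((hc k hk).pow_left _)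
    (pow_mem (show k ∈ stabilizer G _ from kp) _) hp
  exact hab ((pow_mem kH (orderOf k / 2)).1.symm.trans (h5 ▸ e))

end swap

section gen

variable (hab : a ≠ b) (hg : g ∈ HH G a b) (ho : orderOf g = q ^ 2 - 1)
include hab hg ho

theorem zp : zpowers g = HH G a b :=
  eq_of_le_of_card_ge (zpowers_le.2 hg) (by rw [Nat.card_zpowers, ho, T.cardH hab])

theorem pow_W (i : ℕ) : g ^ i ∈ centralizer (T.Y a : Set G) ↔ q - 1 ∣ i := by
  have hW := T.cardW hab
  refine ⟨fun h => ?_, ?_⟩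
  · have := orderOf_dvd_iff_pow_eq_one.1 (hW ▸ Subgroup.orderOf_dvd_natCard
      (centralizer (T.Y a : Set G) ⊓ stabilizer G b) ⟨h, (pow_mem hg i).2⟩)
    rw [← pow_mul, ← orderOf_dvd_iff_pow_eq_one, ho] at this
    rcases T.hq with rfl | rfl <;> omega
  rintro ⟨j, rfl⟩
  have hle : centralizer (T.Y a : Set G) ⊓ stabilizer G b ≤ zpowers g :=
    (T.zp hab hg ho).ge.trans' (inf_le_inf_right _ (T.cfix a))
  have e := H2.D1.card_mul_rel hle
  rw [hW, Nat.card_zpowers, ho] at e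
  have := pow_index_mem ((centralizer (T.Y a : Set G) ⊓ stabilizer G b).subgroupOf (zpowers g))
    ⟨g, mem_zpowers g⟩
  rw [show ((centralizer (T.Y a : Set G) ⊓ stabilizer G b).subgroupOf (zpowers g)).index = q - 1 by
    change relIndex _ _ = _; rcases T.hq with rfl | rfl <;> omega] at this
  exact pow_mul g _ j ▸ pow_mem this.1 j

theorem exists_m (hs : orderOf s = 2) (e : s • a = b) : ∃ m < q ^ 2 - 1,
    (∀ i, s * g ^ i * s = g ^ (m * i)) ∧ (∀ i, Commute (g ^ i) s ↔ m * i ≡ i [MOD q ^ 2 - 1]) ∧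
      m * m ≡ 1 [MOD q ^ 2 - 1] ∧ Commute (g ^ (q - 1)) s := by
  classical
  obtain ⟨h1, h2, -, -⟩ := T.ss hab hs e
  obtain ⟨m, hm, em⟩ := Finset.mem_image.1 (mem_zpowers_iff_mem_range_orderOf.1
    ((T.zp hab hg ho).ge (T.sH hab hs e hg)))
  have h3 : ∀ i, s * g ^ i * s = g ^ (m * i) := fun i => by
    rw [pow_mul, em]; simpa only [h2] using (conj_pow (a := s) (b := g) (i := i)).symm
  refine ⟨m, ho ▸ Finset.mem_range.1 hm, h3, fun i => ?_, ?_, ?_⟩
  · rw [← ho, ← pow_eq_pow_iff_modEq, ← h3, commute_iff_eq, eq_comm, ← mul_inv_eq_iff_eq_mul, h2]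
  · rw [← ho, ← pow_eq_pow_iff_modEq, ← h3, em, pow_one]; simp [← mul_assoc, h1, mul_assoc g]
  obtain ⟨y, hy, y1, hy1, y2, hy2, h4⟩ := T.bruhat hab hs e
  have hw := (T.pow_W hab hg ho _).2 dvd_rfl
  have c1 : Commute (g ^ (q - 1)) (s * y1⁻¹ * s) := by
    have := (T.cm (inv_mem hy1) ((T.pow_W hab hg ho _).2 (dvd_mul_left _ m))).conj s
    rw [← h3, h2] at this
    simpa [← mul_assoc, h1, mul_assoc _ s s] using this.symm
  obtain ⟨i, hi⟩ := (T.zp hab hg ho).ge h4
  have := (c1.mul_right (T.cm hy hw).symm).inv_right.mul_right ((T.cm hy2 hw).symm.mul_right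
    ((show g ^ i = _ from hi) ▸ ((Commute.refl g).pow_left (q - 1)).zpow_right i))
  rwa [mul_inv_cancel_left, inv_mul_cancel_left] at this

theorem bn (hs : orderOf s = 2) (e : s • a = b) (h : s * g * s * g ^ q = 1) : Nonempty (BN3 G Ω q) :=
  have z := T.zp hab hg ho
  ⟨{ α := a, β := b, Q := T.Q a, Y := T.Y a, g := g, s := s
     faith := fun k hk => by_contra fun k1 => by
       obtain ⟨x, hx, hn⟩ := T.exists_nY a
       exact hn (T.semi hab ⟨hk a, hk b⟩ k1 hx (by simp [T.fix_pt hab ⟨hk a, hk b⟩ hx (hk _), one_mem]))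
     ne := hab, fix := T.fix a, norm := T.norm a, trans := fun _ => T.trans hab, free := T.free a b hab
     cardQ := T.cardQ a, le := T.le a, cardY := T.cardY a, cen := fun _ hy _ hx => T.cm hy (T.cen a hx)
     nc := T.nc a, ord := ho, stab := fun _ => z ▸ Iff.rfl, normY := T.normY a g hg.1
     semi := fun _ hk k1 _ hx => T.semi hab (z.le hk) k1 hx
     cenW := fun y hy y1 i => ⟨fun c => (T.pow_W hab hg ho i).1 (T.ceq a y hy y1 _ c),
       fun h => (T.cm hy ((T.pow_W hab hg ho i).2 h)).symm⟩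
     s2 := (T.ss hab hs e).1, sα := e, sg := h }⟩

end gen

omit T in
theorem main7 (T : TP G Ω 7) : Nonempty (BN3 G Ω 7) := by
  have : Nontrivial Ω := Finite.one_lt_card_iff_nontrivial.1 (by rw [T.cardΩ]; decide)
  obtain ⟨a0, b0, h0⟩ := exists_pair_ne Ω
  obtain ⟨s, -, hs⟩ := T.exists_z h0
  obtain ⟨a, ha⟩ : ∃ a : Ω, s • a ≠ a := by
    by_contra! h
    have := T.cardFix hs
    rw [Set.eq_univ_of_forall (s := {p | s • p = p}) h, Set.ncard_univ, T.cardΩ] at this
    exact absurd this (by decide)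
  have hab := ha.symm
  generalize e : s • a = b at hab
  have : Nontrivial (T.Y a) := Finite.one_lt_card_iff_nontrivial.1 (by rw [T.cardY]; decide)
  obtain ⟨⟨y, hy⟩, y0⟩ := exists_ne (1 : T.Y a)
  have y1 : y ≠ 1 := fun e => y0 (Subtype.ext e)
  have := Fact.mk (show Nat.Prime 7 by decide)
  have y7 : orderOf y = 7 := by
    simpa using orderOf_eq_prime (x := (⟨y, hy⟩ : T.Y a)) (by simpa only [T.cardY] using pow_card_eq_one' (x := (⟨y, hy⟩ : T.Y a))) y0
  obtain ⟨g, hg, eg⟩ : ∃ g ∈ HH G a b, g * y * g⁻¹ = y ^ 3 := by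
    let _ : MulAction (HH G a b) G := MulAction.compHom G ((MulAut.conj (G := G)).comp (HH G a b).subtype)
    have e1 := H2.D1.card_mul_rel (inf_le_inf_right (stabilizer G b) (T.cfix a))
    rw [T.cardW hab, T.cardH hab, relIndex, show (centralizer (T.Y a : Set G) ⊓ stabilizer G b).subgroupOf
      (HH G a b) = stabilizer (HH G a b) y from Subgroup.ext fun k => ⟨fun h => (T.cm hy h.1).symm.mul_inv_cancel,
        fun h => ⟨T.ceq a y hy y1 k (mul_inv_eq_iff_eq_mul.1 h), k.2.2⟩⟩, index_stabilizer] at e1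
    have := Set.eq_of_subset_of_ncard_le (s := orbit (HH G a b) y) (t := (T.Y a : Set G) \ {1}) (by
      rintro _ ⟨k, rfl⟩
      exact ⟨T.normY a k k.2.1 y hy, fun e => y1 (by simpa using show k.1 * y * k.1⁻¹ = 1 from e)⟩) (by
      rw [Set.ncard_diff_singleton_of_mem (one_mem _), ← Nat.card_coe_set_eq,
        show Nat.card (T.Y a : Set G) = 7 from T.cardY a]
      exact (Nat.eq_of_mul_eq_mul_left (show 0 < 7 + 1 by decide) (e1.trans (by decide))).ge)
    obtain ⟨k, hk⟩ := this.ge ⟨pow_mem hy 3, fun e => absurd (y7 ▸ orderOf_dvd_iff_pow_eq_one.2 e) (by decide)⟩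
    exact ⟨k, k.2, hk⟩
  have it : ∀ (k : G) (j : ℕ), k * y * k⁻¹ = y ^ j → ∀ i : ℕ, k ^ i * y * (k ^ i)⁻¹ = y ^ j ^ i :=
    fun k j h i => by
      induction i with
      | zero => simp
      | succ i ih => rw [pow_succ' j, pow_mul, ← h, conj_pow, ← ih, pow_succ' k]; group
  have ho : orderOf g = 7 ^ 2 - 1 := by
    have d1 := Nat.mem_divisors.2 ⟨T.cardH hab ▸ Subgroup.orderOf_dvd_natCard _ hg, by decide⟩
    have d2 : ¬ orderOf g ∣ 16 := fun h => by
      have := it g 3 eg 16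
      rw [orderOf_dvd_iff_pow_eq_one.1 h, one_mul, inv_one, mul_one] at this
      exact absurd (y7 ▸ pow_eq_pow_iff_modEq.1 ((pow_one y).trans this)) (by decide)
    have d3 : ¬ orderOf g ∣ 3 * 8 := fun h => by
      obtain ⟨u, hu, e⟩ := T.exists_sq hab (pow_mem hg 3) (pow_mul g 3 8 ▸ orderOf_dvd_iff_pow_eq_one.1 h)
      obtain ⟨j, hj⟩ := mem_powers_of_prime_card (T.cardY a) (g' := ⟨_, T.normY a u hu.1 y hy⟩) y0
      have := (it u j (Subtype.ext_iff.1 hj).symm 2).symm.trans (sq u ▸ e ▸ it g 3 eg 3)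
      rw [pow_eq_pow_iff_modEq, y7, Nat.ModEq, Nat.pow_mod] at this
      have h7 := Nat.mod_lt j (show 0 < 7 by decide)
      generalize j % 7 = n at *
      revert this
      revert h7 n
      decide
    generalize orderOf g = n at *
    revert d2 d3
    revert d1 n
    decide
  obtain ⟨m, hm, h1, h2, h3, h4⟩ := T.exists_m hab hg ho hs e
  have o3 : orderOf (g ^ 3) = 16 := by rw [orderOf_pow, ho]; rfl
  have o16 : orderOf (g ^ 16) = 3 := by rw [orderOf_pow, ho]; rfl
  have n3 := (h2 3).not.1 fun c => absurd (o3 ▸ T.dvd_of_comm hab hs e (pow_mem hg 3) c (by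
    rw [o3]; decide)) (by decide)
  have n16 := (h2 16).not.1 fun c => absurd (o16 ▸ T.dvd_of_comm hab hs e (pow_mem hg 16) c (by
    rw [o16]; decide)) (by decide)
  rw [h2] at h4
  refine T.bn hab hg ho hs e ?_
  rw [← pow_one g, h1, ← pow_mul, ← pow_add, ← orderOf_dvd_iff_pow_eq_one, ho]
  revert h3 h4 n3 n16
  clear h1 h2
  revert hm m
  decide +kernel

omit T in
theorem main9 (T : TP G Ω 9) : Nonempty (BN3 G Ω 9) := by
  have : Nontrivial Ω := Finite.one_lt_card_iff_nontrivial.1 (by rw [T.cardΩ]; decide)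
  obtain ⟨a, b0, h0⟩ := exists_pair_ne Ω
  obtain ⟨z, hz, z2⟩ := T.exists_z h0
  have z1 : z ≠ 1 := by rintro rfl; simp at z2
  have := Fact.mk Nat.prime_five
  obtain ⟨⟨v, vC, vb⟩, v5⟩ := exists_prime_orderOf_dvd_card'
    (G := (centralizer (T.Y a : Set G) ⊓ stabilizer G b0 : Subgroup G)) 5 (by rw [T.cardW h0]; decide)
  replace v5 : orderOf v = 5 := (orderOf_coe _).trans v5
  have v1 : v ≠ 1 := by rintro rfl; simp at v5
  have va : v • a = a := T.cfix a vC
  have cj : ∀ k t : G, orderOf (k * t * k⁻¹) = orderOf t := fun k =>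
    orderOf_injective (MulAut.conj k).toMonoidHom (MulAut.conj k).injective
  have vz : ∀ p : Ω, v • p = p ↔ z • p = p := fun p =>
    (T.fix_iff h0 vC vb v1 p).trans (T.fix_iff h0 (T.inW h0 hz z2) hz.2 z1 p).symm
  have cz : ∀ k, Commute k v → Commute z k := fun k c => by
    have f : ∀ p : Ω, z • p = p → z • k • p = k • p ∧ (k * z * k⁻¹) • k • p = k • p := fun p hp =>
      ⟨(vz _).1 (by rw [← mul_smul, ← c.eq, mul_smul, (vz p).2 hp]), by
        rw [mul_smul, mul_smul, inv_smul_smul, hp]⟩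
    exact (mul_inv_eq_iff_eq_mul.1 (T.uniq ((smul_left_cancel_iff k).not.2 h0)
      ⟨(f a hz.1).2, (f b0 hz.2).2⟩ ((cj k z).trans z2) ⟨(f a hz.1).1, (f b0 hz.2).1⟩ z2)).symm
  obtain ⟨s, hs, sv, sz⟩ : ∃ s, orderOf s = 2 ∧ Commute s v ∧ s ≠ z := by
    by_contra! h
    have h1 := H2.Pf.card_modEq_conj Nat.prime_five (v5 ▸ pow_orderOf_eq_one v) {t | orderOf t = 2}
      fun t ht => (cj v t).trans ht
    have h2 := T.card_inv
    have h3 : Nat.card {y // y ∈ {t : G | orderOf t = 2} ∧ v * y = y * v} ≤ 1 :=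
      Finite.card_le_one_iff_subsingleton.2 ⟨fun x y => Subtype.ext
        ((h _ x.2.1 x.2.2.symm).trans (h _ y.2.1 y.2.2.symm).symm)⟩
    rw [Nat.card_coe_set_eq, Nat.ModEq] at h1
    omega
  have zs := cz s sv
  have fp : ∀ r, orderOf r = 2 → Commute z r → r ≠ z → ∀ p : Ω, z • p = p → r • p ≠ p :=
    fun r h1 h2 h3 p h4 h5 => h3 (T.comm_fix h1 z2 h2.symm h5 h4)
  have hab := (fp s hs zs sz a hz.1).symm
  have vH : v ∈ HH G a (s • a) := ⟨va, show _ • _ = _ by rw [← mul_smul, ← sv.eq, mul_smul, va]⟩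
  have zH : z ∈ HH G a (s • a) := ⟨hz.1, (vz _).1 vH.2⟩
  generalize e : s • a = b at hab vH zH
  obtain ⟨s2, -, -, -⟩ := T.ss hab hs e
  obtain ⟨ε, εm, εp, εo, εs⟩ := exists_sign (T.cardFix z2)
  have es := εs s zs s2 (fp s hs zs sz)
  have zc : ∀ k ∈ HH G a b, Commute z k := fun k hk => (mul_inv_eq_iff_eq_mul.1 (T.uniq hab
    (mul_mem (mul_mem hk zH) (inv_mem hk)) ((cj k z).trans z2) zH z2)).symm
  have eY : ∀ y ∈ T.Y a, Commute y v ∧ Commute z y ∧ ε y = 1 := fun y hy =>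
    ⟨T.cm hy vC, cz y (T.cm hy vC), εo y 9 (cz y (T.cm hy vC)) (by
      simpa [T.cardY] using congrArg Subtype.val (pow_card_eq_one' (x := (⟨y, hy⟩ : T.Y a)))) (by decide)⟩
  obtain ⟨y, hy, y1, hy1, y2, hy2, hh⟩ := T.bruhat hab hs e
  obtain ⟨a1, a2, a3⟩ := eY y hy
  obtain ⟨b1, b2, b3⟩ := eY _ (inv_mem hy1)
  obtain ⟨c1, c2, c3⟩ := eY _ (inv_mem hy2)
  have hv := c1.mul_left ((((sv.mul_left b1).mul_left sv).mul_left a1).mul_left sv)
  have eh : ε (y2⁻¹ * (s * y1⁻¹ * s * y * s)) = -1 := by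
    rw [εm _ _ c2 ((((zs.mul_right b2).mul_right zs).mul_right a2).mul_right zs),
      εm _ _ (((zs.mul_right b2).mul_right zs).mul_right a2) zs, εm _ _ ((zs.mul_right b2).mul_right zs) a2,
      εm _ _ (zs.mul_right b2) zs, εm _ _ zs b2, es, a3, b3, c3]
    decide
  generalize y2⁻¹ * (s * y1⁻¹ * s * y * s) = h at hh hv eh
  have e5 : ε (h ^ 5) = -1 := by rw [εp _ _ (zc h hh), eh]; decide
  have o5 : orderOf (h ^ 5) = 2 ^ (3 + 1) := orderOf_eq_prime_pow (fun h8 => by
    obtain ⟨u, hu, e⟩ := T.exists_sq hab (pow_mem hh 5) h8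
    rw [e, εm _ _ (zc u hu) (zc u hu), Int.units_mul_self] at e5
    exact absurd e5 (by decide)) (by
      rw [← pow_mul, ← orderOf_dvd_iff_pow_eq_one]
      exact (T.cardH hab ▸ Subgroup.orderOf_dvd_natCard _ hh : _ ∣ 9 ^ 2 - 1))
  have hg := mul_mem (pow_mem hh 5) vH
  have ho : orderOf (h ^ 5 * v) = 9 ^ 2 - 1 := by
    rw [(hv.pow_left 5).orderOf_mul_eq_mul_orderOf_of_coprime (by rw [o5, v5]; decide), o5, v5]; rfl
  have eg : ε (h ^ 5 * v) = -1 := by
    rw [εm _ _ (zc _ (pow_mem hh 5)) (zc v vH), e5, εo v 5 (zc v vH) (v5 ▸ pow_orderOf_eq_one v) (by decide),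
      mul_one]
  generalize h ^ 5 * v = g at hg ho eg
  obtain ⟨m, hm, h1, h2, h3, h4⟩ := T.exists_m hab hg ho hs e
  have o20 : orderOf (g ^ 20) = 4 := by rw [orderOf_pow, ho]; rfl
  have n20 := (h2 20).not.1 fun c => absurd (o20 ▸ T.dvd_of_comm hab hs e (pow_mem hg 20) c (by
    rw [o20]; decide)) (by decide)
  have n5 : ¬ 9 ^ 2 - 1 ∣ 5 + m * 5 := fun h => by
    have g5 := pow_mem hg 5
    have r2 : g ^ 5 * s * (g ^ 5 * s) = 1 := by
      rw [mul_assoc, ← mul_assoc s, h1, ← pow_add, ← orderOf_dvd_iff_pow_eq_one, ho]; exact h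
    have ra : (g ^ 5 * s) • a ≠ a := by rw [mul_smul, e, g5.2]; exact hab.symm
    have c := (zc _ g5).mul_right zs
    have := εs _ c r2 (fp _ (orderOf_eq_prime ((sq _).trans r2) (by rintro h; simp [h] at ra)) c
      (by rintro h; exact ra (h ▸ hz.1)))
    rw [εm _ _ (zc _ g5) zs, εp _ _ (zc _ hg), eg, es] at this
    exact absurd this (by decide)
  rw [h2] at h4
  refine T.bn hab hg ho hs e ?_
  rw [← pow_one g, h1, ← pow_mul, ← pow_add, ← orderOf_dvd_iff_pow_eq_one, ho]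
  revert h3 h4 n20 n5
  clear h1 h2
  revert hm m
  decide +kernel

end TP

theorem TIS.bn3 {r : ℕ} (hq : (q = 7 ∧ r = 7) ∨ (q = 9 ∧ r = 3)) [Fact r.Prime] (h : TIS G q r) :
    Nonempty (BN3 G (Sylow r G) q) := by
  choose Y h1 h2 h3 h4 h5 h6 h7 h8 using h.exY
  have hq' : q = 7 ∨ q = 9 := hq.imp And.left And.left
  have st : ∀ (P : Sylow r G) (k : G), k • P = P ↔ k ∈ normalizer ((P : Subgroup G) : Set G) :=
    fun P k => Sylow.smul_eq_iff_mem_normalizer
  let T : TP G (Sylow r G) q :=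
  { Q P := P, Y := Y, hq := hq', cardΩ := h.num, cardQ := h.cardP, le := h1, cardY := h2, cen := h3
    cardC := h5, cx := h7, nc := h8, invol := h.invol
    cardS P := by
      have := (stabilizer G P).card_mul_index
      rw [index_stabilizer_of_transitive, h.num, h.card, mul_right_comm] at this
      exact Nat.eq_of_mul_eq_mul_right (Nat.succ_pos _) this
    fix P x hx := (st P x).2 (le_normalizer hx)
    norm P k hk x hx := (mem_normalizer_iff.1 ((st P k).1 hk) x).1 hx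
    free P P' hn x hx e := (h.ti P P' hn).le ⟨hx, H2.D1.mem_syl P' (by
      obtain ⟨k, hk⟩ := P.isPGroup' ⟨x, hx⟩
      exact ⟨k, Subtype.ext_iff.1 hk⟩) ((st P' x).1 e)⟩
    normY P k hk y hy := (mem_normalizer_iff.1 (h4 P ((st P k).1 hk)) y).1 hy
    cfix P k hk := by_contra fun hn => by
      have : Y P ≤ ⊥ := fun y hy => (h.ti _ _ hn).le ⟨by
        rw [Sylow.smul_def, Sylow.pointwise_smul_def, ← (show Commute y k from hk y hy).symm.mul_inv_cancel]
        exact smul_mem_pointwise_smul y (MulAut.conj k) _ (h1 P hy), h1 P hy⟩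
      have := card_le_of_le this
      rw [h2, card_bot] at this
      omega
    ceq P y hy y1 k c := h6 P y hy y1 ▸ mem_centralizer_singleton_iff.2 c }
  rcases hq' with rfl | rfl
  exacts [T.main7, T.main9]

end Cfsg.Agent.L0.U3
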