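import Cfsg.Agent.H2.D1Non5

/-! Interfaces for the recognition of `PSU₃(q)`, `q = 7, 8, 9`, by the group order. -/

set_option autoImplicit false

namespace Cfsg.Agent.L0.U3

open Cfsg Subgroup

/-- No normal subgroup of order `p`. -/
def NN (G : Type*) [Group G] (p : ℕ) : Prop :=
  ∀ x : G, orderOf x = p → ¬ (zpowers x).Normal

/-- The three parameter sets `(q, c, p, r)`: `|G| = q³ c p`, `q` is a power of the prime `r`. -/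
def Par (q c p r : ℕ) : Prop :=
  (q = 7 ∧ c = 384 ∧ p = 43 ∧ r = 7) ∨ (q = 8 ∧ c = 567 ∧ p = 19 ∧ r = 2) ∨
    (q = 9 ∧ c = 800 ∧ p = 73 ∧ r = 3)

/-- What the principal `p`-block `{1, α, β, θ's}` (degrees `1, q² - q, q³, c`) gives. -/
structure UB (G : Type*) [Group G] (q c p : ℕ) where
  α : IrrCharacter G
  β : IrrCharacter G
  a : G → ℤ
  b : G → ℤ
  /-- the non-trivial elements of order dividing `q³` -/
  U : Finset G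
  memU : ∀ u, u ∈ U ↔ u ≠ 1 ∧ u ^ q ^ 3 = 1
  ha : ∀ g, (α : G → ℂ) g = a g
  hb : ∀ g, (β : G → ℂ) g = b g
  a1 : a 1 = (q : ℤ) ^ 2 - q
  b1 : b 1 = (q : ℤ) ^ 3
  uniq : ∀ χ : IrrCharacter G, (χ : G → ℂ) 1 = (q : ℂ) ^ 3 → χ = β
  card : Nat.card G = q ^ 3 * c * p
  cent : ∀ g : G, g ≠ 1 → p ∣ Nat.card (centralizer ({g} : Set G)) → orderOf g = p
  bdvd : ∀ g : G, (q : ℤ) ^ 3 ∣ (centralizer ({g} : Set G)).index * b g
  cdvd : ∀ g : G, orderOf g ≠ p → (c : ℤ) ∣ (centralizer ({g} : Set G)).index * (a g + b g - 1)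
  b0 : ∀ g : G, ¬ (orderOf g).Coprime q → b g = 0
  c0 : ∀ g : G, ¬ (orderOf g).Coprime c → a g + b g = 1
  S1 : ∑ u ∈ U, (a u - 1) = -(c * ((q : ℤ) ^ 3 + 1))
  S2 : ∑ u ∈ U, a u * (a u - 1) = c * ((q : ℤ) ^ 3 - q ^ 2 + q)
  inv : ∀ t : G, orderOf t = 2 → a t = if q % 2 = 0 then -(q : ℤ) else 1 - q

/-- The values of `α` on the `r`-elements. -/
structure UB.ZA {G : Type*} [Group G] {q c p : ℕ} (h : UB G q c p) : Prop where
  val : ∀ u ∈ h.U, h.a u = 0 ∨ h.a u = -q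
  zero : ∀ u ∈ h.U, h.a u = 0 → Nat.card (centralizer ({u} : Set G)) ∣ q ^ 3
  dvd : ∀ u ∈ h.U, h.a u = -q → Nat.card (centralizer ({u} : Set G)) ∣ q ^ 3 * (q + 1)
  cnt : (h.U.filter fun u => h.a u = -q).card = (q - 1) * (q ^ 3 + 1)
  /-- every subgroup of order dividing `q³` and at least `q²` has exactly `q - 1` special elements -/
  big : ∀ M : Subgroup G, Nat.card M ∣ q ^ 3 → q ^ 2 ≤ Nat.card M →
    Nat.card {u : G // u ∈ M ∧ u ≠ 1 ∧ h.a u = -q} = q - 1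

/-- The Sylow `r`-subgroups form a TI-family of the unitary shape (`q` odd). -/
structure TIS (G : Type*) [Group G] (q r : ℕ) : Prop where
  card : Nat.card G = q ^ 3 * (q ^ 3 + 1) * (q ^ 2 - 1)
  cardP : ∀ P : Sylow r G, Nat.card P = q ^ 3
  ti : ∀ P P' : Sylow r G, P ≠ P' → (P : Subgroup G) ⊓ P' = ⊥
  num : Nat.card (Sylow r G) = q ^ 3 + 1
  exY : ∀ P : Sylow r G, ∃ Y : Subgroup G, Y ≤ P ∧ Nat.card Y = q ∧
    (P : Subgroup G) ≤ centralizer (Y : Set G) ∧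
    normalizer ((P : Subgroup G) : Set G) ≤ normalizer (Y : Set G) ∧
    Nat.card (centralizer (Y : Set G)) = q ^ 3 * (q + 1) ∧
    (∀ y ∈ Y, y ≠ 1 → centralizer ({y} : Set G) = centralizer (Y : Set G)) ∧
    (∀ x ∈ (P : Subgroup G), x ∉ Y → Nat.card (centralizer ({x} : Set G)) ∣ q ^ 3) ∧
    ∃ x ∈ (P : Subgroup G), ∃ x' ∈ (P : Subgroup G), ¬ Commute x x'
  invol : ∀ t : G, orderOf t = 2 → ∃ P : Sylow r G, t • P = P

/-- A doubly transitive group with the point stabiliser of `PSU₃(q)`, `q` odd, `3 ∤ q + 1`. -/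
structure BN3 (G Ω : Type*) [Group G] [MulAction G Ω] (q : ℕ) where
  α : Ω
  β : Ω
  Q : Subgroup G
  Y : Subgroup G
  g : G
  s : G
  faith : ∀ x : G, (∀ p : Ω, x • p = p) → x = 1
  ne : α ≠ β
  fix : ∀ x ∈ Q, x • α = α
  norm : ∀ k : G, k • α = α → ∀ x ∈ Q, k * x * k⁻¹ ∈ Q
  trans : ∀ p : Ω, p ≠ α → ∃ x ∈ Q, x • β = p
  free : ∀ x ∈ Q, x • β = β → x = 1
  cardQ : Nat.card Q = q ^ 3
  le : Y ≤ Q
  cardY : Nat.card Y = q
  cen : ∀ y ∈ Y, ∀ x ∈ Q, Commute y x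
  nc : ∃ x ∈ Q, ∃ x' ∈ Q, ¬ Commute x x'
  ord : orderOf g = q ^ 2 - 1
  stab : ∀ k : G, (k • α = α ∧ k • β = β) ↔ k ∈ zpowers g
  normY : ∀ y ∈ Y, g * y * g⁻¹ ∈ Y
  semi : ∀ k ∈ zpowers g, k ≠ 1 → ∀ x ∈ Q, k * x * k⁻¹ * x⁻¹ ∈ Y → x ∈ Y
  cenW : ∀ y ∈ Y, y ≠ 1 → ∀ i : ℕ, Commute (g ^ i) y ↔ (q - 1) ∣ i
  s2 : s * s = 1
  sα : s • α = β
  sg : s * g * s * g ^ q = 1

end Cfsg.Agent.L0.U3
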