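import Cfsg.Agent.L0.U3Id3
import Cfsg.Agent.L0.U3C2
import Cfsg.Agent.H3.U3Ti3
import Cfsg.Agent.H3.U3Za
import Cfsg.Agent.H8.U3Pu
import Cfsg.Agent.H8.U3Ns
import Cfsg.Agent.H6.DegChar

/-! Recognition of `PSU₃(q)`, `q = 7, 8, 9`: assembly. -/

set_option autoImplicit false

namespace Cfsg.Agent.L0.U3

open Cfsg H2.D1

universe u v

theorem primes_congr {S T : Type*} [Group S] [Group T] (e : S ≃* T) : degreePrimes S = degreePrimes T := by
  unfold degreePrimes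
  rw [(H6.charDegrees_subset e.symm.toMonoidHom e.symm.surjective).antisymm
    (H6.charDegrees_subset e.toMonoidHom e.surjective)]

/-- the statement of `x38` -/
def X38 [Fact (Nat.Prime 19)] : Prop := ∀ (S : Type u) [Group S] [Finite S] [NS S], Nat.card S ∣ 5515776 →
  ∀ {x : S} (h : Ctx 19 x), Nat.card S = 5515776 ∧ Nat.card h.K = 1 ∧ Nat.card h.H = 3

/-- the statement of `ub_of` -/
def UBO (q c p : ℕ) [Fact p.Prime] : Prop := ∀ (G : Type u) [Group G] [Finite G] [NS G],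
  Nat.card G = q ^ 3 * c * p → ∀ {x : G} (h : Ctx p x), Nat.card h.K = 1 → Nat.card h.H = 3 →
    Nonempty (UB G q c p) ∧ HasDeg G p

theorem psu {q c p r : ℕ} [Fact p.Prime] (hP : Par q c p r) (x1 : X38.{0}) (x2 : X38.{u})
    (u1 : UBO.{0} q c p) (u2 : UBO.{u} q c p) {F : Type} [Field F] [Fintype F]
    (hF : Fintype.card F = q ^ 2) {G : Type u} [Group G] [Finite G] (hc : Nat.card G = Nat.card (PSU 3 F q))
    (hd : degreePrimes G = degreePrimes (PSU 3 F q)) : Nonempty (G ≃* PSU 3 F q) := by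
  obtain ⟨h1, h2⟩ := pu hP hF
  have : Finite (PSU 3 F q) := Nat.finite_of_card_ne_zero (by
    rw [h1]; rcases hP with ⟨rfl, rfl, rfl, -⟩ | ⟨rfl, rfl, rfl, -⟩ | ⟨rfl, rfl, rfl, -⟩ <;> decide)
  obtain ⟨_, x, h, hK, hH⟩ := ns_of hP x1 h1 h2
  have h3 : HasDeg G p := hasDeg_iff_mem.1
    (hd.ge (⟨Fact.out, hasDeg_iff_mem.2 (u1 _ h1 h hK hH).2⟩ : p ∈ degreePrimes _)).2
  obtain ⟨_, y, k, kK, kH⟩ := ns_of hP x2 (hc.trans h1) fun y hy =>
    Ctx.not_normal ⟨h.odd, hy, hc ▸ h.nsq⟩ h3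
  obtain ⟨B⟩ := (u2 _ (hc.trans h1) k kK kH).1
  have : Fact r.Prime := ⟨hP.facts.1⟩
  by_cases hq : q = 8
  · obtain ⟨rfl, rfl, rfl⟩ : q = 8 ∧ c = 567 ∧ p = 19 := by unfold Par at hP; omega
    exact B.iso8 (B.za hP) F hF
  · have h4 : (q = 7 ∧ r = 7) ∨ (q = 9 ∧ r = 3) := by unfold Par at hP; omega
    obtain ⟨N⟩ := (UB.tis hP hq B (B.za hP)).bn3 h4
    exact N.iso (h4.imp And.left And.left) F hF

end Cfsg.Agent.L0.U3
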