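import Cfsg.Agent.L0.U3Def
import Cfsg.Agent.L0.U3Id2
import Cfsg.Agent.H3.ZassId

/-! Coordinates on the point stabiliser of a `BN3` group. -/

set_option autoImplicit false

namespace Cfsg.Agent.L0.U3

open H1 Subgroup
open scoped commutatorElement

theorem card_skew {E : Type*} [Field E] [Fintype E] {q : ℕ} (U : UField E q) (h2 : (2 : E) ≠ 0) :
    Nat.card {t : E // U.σ t = -t} = q := by
  obtain ⟨θ, θ0, hθ⟩ := U.exists_skew
  have := Nat.card_eq_of_bijective (fun p : {t : E // U.σ t = -t} × {t : E // U.σ t = -t} =>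
    p.1.1 + θ * p.2.1) ⟨fun ⟨⟨a, ha⟩, ⟨b, hb⟩⟩ ⟨⟨c, hc⟩, ⟨d, hd⟩⟩ e => by
      have e' := congrArg U.σ e
      simp only [map_add, map_mul, ha, hb, hc, hd, hθ] at e e'
      have e1 : a = c := mul_left_cancel₀ h2 (by linear_combination e - e')
      have e2 : b = d := mul_left_cancel₀ θ0 (by linear_combination e - e1)
      subst e1 e2; rfl, fun a => ⟨(⟨(a - U.σ a) / 2, by
        simp only [map_div₀, map_sub, U.σσ, map_ofNat]; ring⟩, ⟨(a + U.σ a) / (2 * θ), by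
        simp only [map_div₀, map_add, map_mul, U.σσ, map_ofNat, hθ]; field_simp; ring⟩), by
        field_simp; ring⟩⟩
  rw [Nat.card_prod, Nat.card_eq_fintype_card (α := E), U.card, ← sq] at this
  exact Nat.pow_left_injective two_ne_zero this

variable {G Ω : Type*} [Group G] [Finite G] [MulAction G Ω] {q : ℕ}

namespace BN3

variable (h : BN3 G Ω q)

theorem conjQ {k : G} (hk : k ∈ zpowers h.g) {x : G} (hx : x ∈ h.Q) : k * x * k⁻¹ ∈ h.Q :=
  h.norm k ((h.stab k).2 hk).1 x hx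

theorem conjY {k : G} (hk : k ∈ zpowers h.g) {x : G} (hx : x ∈ h.Y) : k * x * k⁻¹ ∈ h.Y := by
  obtain ⟨i, rfl⟩ := mem_powers_iff_mem_zpowers.2 hk
  clear hk
  induction i with
  | zero => simpa using hx
  | succ i ih => simpa [pow_succ', mul_assoc] using h.normY _ ih

theorem lin (hq : q = 7 ∨ q = 9) (E : Type*) [Field E] [Fintype E] (hE : Fintype.card E = q ^ 2) :
    ∃ (X : G → E) (l : E), (∀ x ∈ h.Q, ∀ x' ∈ h.Q, X (x * x') = X x + X x') ∧
      (∀ x ∈ h.Q, X x = 0 ↔ x ∈ h.Y) ∧ (∀ a, ∃ x ∈ h.Q, X x = a) ∧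
      ∀ x ∈ h.Q, X (h.g * x * h.g⁻¹) = l * X x := by
  have nY : (h.Y.subgroupOf h.Q).Normal := ⟨fun y hy x => by
    rw [mem_subgroupOf] at hy ⊢
    simpa [← (h.cen y hy x x.2).eq] using hy⟩
  let H := zpowers h.g
  let V := h.Q ⧸ h.Y.subgroupOf h.Q
  let c : H → h.Q →* h.Q := fun k => ((MulAut.conj k.1).toMonoidHom.comp h.Q.subtype).codRestrict h.Q
    fun x => h.conjQ k.2 x.2
  let φ : H → V →* V := fun k => QuotientGroup.map _ _ (c k) fun y hy => h.conjY k.2 hy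
  have φ1 : ∀ v, φ 1 v = v := fun v => QuotientGroup.induction_on v fun x =>
    congrArg QuotientGroup.mk (Subtype.ext (by simp [c]))
  have φm : ∀ k k' v, φ (k * k') v = φ k (φ k' v) := fun k k' v => QuotientGroup.induction_on v fun x =>
    congrArg QuotientGroup.mk (Subtype.ext (by simp [c, mul_assoc]))
  have φf : ∀ k, k ≠ 1 → ∀ v, φ k v = v → v = 1 := fun k k1 v => QuotientGroup.induction_on v fun x e =>
    (QuotientGroup.eq_one_iff _).2 (h.semi k k.2 (fun e => k1 (Subtype.ext e)) x x.2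
      (by simpa [c, mem_subgroupOf, div_eq_mul_inv] using QuotientGroup.eq_iff_div_mem.1 e))
  have hV : Nat.card V = q ^ 2 := by
    have := card_eq_card_quotient_mul_card_subgroup (h.Y.subgroupOf h.Q)
    rw [h.cardQ, Nat.card_congr (subgroupOfEquivOfLe h.le).toEquiv, h.cardY, pow_succ] at this
    exact Nat.eq_of_mul_eq_mul_right (by omega) this.symm
  have hH : Nat.card H = q ^ 2 - 1 := by rw [Nat.card_zpowers, h.ord]
  have tr : ∀ v w : V, v ≠ 1 → w ≠ 1 → ∃ k, φ k v = w := fun v w v1 w1 => by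
    classical
    have := Fintype.ofFinite V
    obtain ⟨k, hk⟩ := (Function.Injective.bijective_of_nat_card_le
      (f := fun k : H => (⟨φ k v, fun e => v1 (by rw [← φ1 v, ← inv_mul_cancel k, φm, e, map_one])⟩ :
        {w : V // w ≠ 1})) (fun k k' e => inv_mul_eq_one.1 (by_contra fun hn => v1 (φf _ hn v (by
          rw [φm, ← show φ k v = φ k' v from Subtype.ext_iff.1 e, ← φm, inv_mul_cancel, φ1])))) (by
        rw [hH, ← hV]; simp [Fintype.card_subtype_compl])).2 ⟨w, w1⟩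
    exact ⟨k, Subtype.ext_iff.1 hk⟩
  obtain ⟨z, hz⟩ := exists_prime_orderOf_dvd_card' (G := H) 2 (by rw [hH]; rcases hq with rfl | rfl <;> decide)
  have z1 : z ≠ 1 := by rintro rfl; simp at hz
  let _ : CommGroup V := { (inferInstance : Group V) with
    mul_comm := fun a b => MonoidHom.FixedPointFree.commute_all_of_involutive (φ := φ z) (φf z z1)
      (fun v => by rw [← φm, ← sq, ← hz, pow_orderOf_eq_one, φ1]) a b }
  let _ : CommGroup H := IsCyclic.commGroup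
  have hV' : Nat.card (Additive V) = q ^ 2 := hV
  have : Nontrivial (Additive V) := Finite.one_lt_card_iff_nontrivial.1 (by
    rw [hV']; rcases hq with rfl | rfl <;> decide)
  let ρ : H →* Module.End ℤ (Additive V) := ⟨⟨fun k => (MonoidHom.toAdditive (φ k)).toIntLinearMap, by
    ext v; exact φ1 _⟩, fun a b => by ext v; exact φm _ _ _⟩
  obtain ⟨ψ, hψ⟩ := (H3.exists_field_of_irreducible ρ (fun W hW => or_iff_not_imp_left.2 fun hn => by
    obtain ⟨⟨v, hv⟩, v0⟩ := AddSubgroup.ne_bot_iff_exists_ne_zero.1 hn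
    refine (AddSubgroup.eq_top_iff' _).2 fun w => ?_
    by_cases w0 : w = 0
    · exact w0 ▸ W.zero_mem
    obtain ⟨k, hk⟩ := tr v.toMul w.toMul (fun e => v0 (Subtype.ext e)) w0
    exact (show ρ k v = w from hk) ▸ hW k v hv)).2 E (by rw [hV', Nat.card_eq_fintype_card, hE])
  obtain ⟨l, hl⟩ := hψ ⟨h.g, mem_zpowers _⟩
  classical
  refine ⟨fun x => if hx : x ∈ h.Q then ψ (Additive.ofMul ((⟨x, hx⟩ : h.Q) : V)) else 0, l,
    fun x hx y hy => ?_, fun x hx => ?_, fun a => ?_, fun x hx => ?_⟩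
  · simp only [dif_pos hx, dif_pos hy, dif_pos (mul_mem hx hy), ← map_add]; rfl
  · simp only [dif_pos hx, map_eq_zero_iff _ ψ.injective]
    exact QuotientGroup.eq_one_iff (N := h.Y.subgroupOf h.Q) _
  · obtain ⟨x, hx⟩ := QuotientGroup.mk_surjective (ψ.symm a).toMul
    exact ⟨x, x.2, by simp [hx]⟩
  · simp only [dif_pos hx, dif_pos (h.conjQ (mem_zpowers _) hx), ← hl]; rfl

variable {E : Type*} [Field E] [Fintype E] (U : UField E q)

/-- coordinates on `Q` -/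
structure Crd where
  X : G → E
  y : G → E
  l : E
  X_mul : ∀ x ∈ h.Q, ∀ x' ∈ h.Q, X (x * x') = X x + X x'
  y_mul : ∀ x ∈ h.Q, ∀ x' ∈ h.Q, y (x * x') = y x + y x' + U.σ (X x) * X x'
  rel : ∀ x ∈ h.Q, y x + U.σ (y x) = X x * U.σ (X x)
  inj : ∀ x ∈ h.Q, ∀ x' ∈ h.Q, X x = X x' → y x = y x' → x = x'
  surj : ∀ a b, b + U.σ b = a * U.σ a → ∃ x ∈ h.Q, X x = a ∧ y x = b
  gen : ∀ m : E, m ≠ 0 → ∃ i : ℕ, l ^ i = m
  l0 : l ≠ 0
  Xg : ∀ x ∈ h.Q, X (h.g * x * h.g⁻¹) = l * X x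
  yg : ∀ x ∈ h.Q, y (h.g * x * h.g⁻¹) = l * U.σ l * y x

include U in
theorem two_ne (hq : q = 7 ∨ q = 9) : (2 : E) ≠ 0 := fun e => one_ne_zero (α := E) (by
  have := Tau.cast_q (U := U)
  rcases hq with rfl | rfl
  · push_cast at this; linear_combination this - 3 * e
  · push_cast at this; linear_combination this - 4 * e)

theorem nonempty_crd (hq : q = 7 ∨ q = 9) : Nonempty (h.Crd U) := by
  classical
  obtain ⟨X, l, Xm, X0, Xs, Xg⟩ := h.lin hq E U.card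
  have h2 := two_ne U hq
  have gi : ∀ i : ℕ, h.g ^ i ∈ zpowers h.g := fun i => pow_mem (mem_zpowers _) i
  have Xi : ∀ i : ℕ, ∀ x ∈ h.Q, X (h.g ^ i * x * (h.g ^ i)⁻¹) = l ^ i * X x := fun i x hx => by
    induction i with
    | zero => simp
    | succ i ih => rw [pow_succ' l, mul_assoc l, ← ih, ← Xg _ (h.conjQ (gi i) hx), pow_succ']; group
  have X1 : X 1 = 0 := (X0 1 (one_mem _)).2 (one_mem _)
  have Xn : ∀ x ∈ h.Q, X x⁻¹ = -X x := fun x hx =>
    eq_neg_of_add_eq_zero_left (by rw [← Xm _ (inv_mem hx) _ hx, inv_mul_cancel, X1])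
  choose r rQ rX using Xs
  have ol : orderOf l = q ^ 2 - 1 := h.ord ▸ orderOf_eq_orderOf_iff.2 fun i => ⟨fun e => by_contra fun hn =>
    one_ne_zero (α := E) (by
      rw [← rX 1, X0 _ (rQ 1)]
      refine h.semi _ (gi i) hn _ (rQ 1) ((X0 _ (mul_mem (h.conjQ (gi i) (rQ 1)) (inv_mem (rQ 1)))).1 ?_)
      rw [Xm _ (h.conjQ (gi i) (rQ 1)) _ (inv_mem (rQ 1)), Xi _ _ (rQ 1), Xn _ (rQ 1), e, one_mul,
        add_neg_cancel]), fun e => by simpa [e, rX] using (Xi i _ (rQ 1)).symm⟩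
  have n0 : q ^ 2 - 1 ≠ 0 := by rcases hq with rfl | rfl <;> decide
  have ln : l ^ (q ^ 2 - 1) = 1 := ol ▸ pow_orderOf_eq_one l
  have l0 : l ≠ 0 := by rintro rfl; rw [zero_pow n0] at ln; exact zero_ne_one ln
  have gen : ∀ m : E, m ≠ 0 → ∃ i : ℕ, l ^ i = m := fun m m0 => by
    have : zpowers (Units.mk0 l l0) = ⊤ := eq_top_of_card_eq _ (by
      rw [Nat.card_zpowers, ← orderOf_units, Units.val_mk0, ol, Nat.card_units, Nat.card_eq_fintype_card,
        U.card])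
    obtain ⟨i, hi⟩ := mem_powers_iff_mem_zpowers.2 (this.ge (mem_top (Units.mk0 m m0)))
    exact ⟨i, by simpa using congrArg Units.val hi⟩
  -- the commutator form
  have cY : ∀ x ∈ h.Q, ∀ x' ∈ h.Q, ⁅x, x'⁆ ∈ h.Y := fun x hx x' hx' => by
    have a1 := mul_mem (mul_mem hx hx') (inv_mem hx)
    rw [commutatorElement_def, ← X0 _ (mul_mem a1 (inv_mem hx')), Xm _ a1 _ (inv_mem hx'),
      Xm _ (mul_mem hx hx') _ (inv_mem hx), Xm _ hx _ hx', Xn _ hx, Xn _ hx']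
    ring
  have cl : ∀ x ∈ h.Q, ∀ x' ∈ h.Q, ∀ w ∈ h.Q, ⁅x * x', w⁆ = ⁅x, w⁆ * ⁅x', w⁆ := fun x hx x' hx' w hw => by
    rw [(h.cen _ (cY x hx w hw) _ (h.le (cY x' hx' w hw))).eq,
      show ⁅x * x', w⁆ = x * ⁅x', w⁆ * x⁻¹ * ⁅x, w⁆ by group, ← (h.cen _ (cY x' hx' w hw) x hx).eq]
    group
  have cr : ∀ w ∈ h.Q, ∀ x ∈ h.Q, ∀ x' ∈ h.Q, ⁅w, x * x'⁆ = ⁅w, x⁆ * ⁅w, x'⁆ := fun w hw x hx x' hx' => by
    rw [← commutatorElement_inv, cl x hx x' hx' w hw, mul_inv_rev, commutatorElement_inv,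
      commutatorElement_inv, (h.cen _ (cY w hw x hx) _ (h.le (cY w hw x' hx'))).eq]
  have rr : ∀ x ∈ h.Q, ∃ w ∈ h.Y, x = r (X x) * w := fun x hx => ⟨(r (X x))⁻¹ * x,
    (X0 _ (mul_mem (inv_mem (rQ _)) hx)).1 (by rw [Xm _ (inv_mem (rQ _)) _ hx, Xn _ (rQ _), rX,
      neg_add_cancel]), by simp⟩
  obtain ⟨β, hβ⟩ : ∃ β : E → E → G, ∀ a a', β a a' = ⁅r a, r a'⁆ := ⟨_, fun _ _ => rfl⟩
  have cβ : ∀ x ∈ h.Q, ∀ x' ∈ h.Q, ⁅x, x'⁆ = β (X x) (X x') := fun x hx x' hx' => by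
    obtain ⟨w, hw, e⟩ := rr x hx
    obtain ⟨w', hw', e'⟩ := rr x' hx'
    rw [hβ]
    conv_lhs => rw [e, cl _ (rQ _) _ (h.le hw) _ hx', (h.cen w hw _ hx').commutator_eq, mul_one, e',
      cr _ (rQ _) _ (rQ _) _ (h.le hw'), (h.cen w' hw' _ (rQ _)).symm.commutator_eq, mul_one]
  have βl : ∀ a b c, β (a + b) c = β a c * β b c := fun a b c => by
    rw [hβ a, hβ b, ← cl _ (rQ _) _ (rQ _) _ (rQ _), cβ _ (mul_mem (rQ _) (rQ _)) _ (rQ _),
      Xm _ (rQ _) _ (rQ _), rX, rX, rX]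
  have βr : ∀ a b c, β a (b + c) = β a b * β a c := fun a b c => by
    rw [hβ a b, hβ a c, ← cr _ (rQ _) _ (rQ _) _ (rQ _), cβ _ (rQ _) _ (mul_mem (rQ _) (rQ _)),
      Xm _ (rQ _) _ (rQ _), rX, rX, rX]
  have βY : ∀ a b, β a b ∈ h.Y := fun a b => hβ a b ▸ cY _ (rQ _) _ (rQ _)
  have βi : ∀ (i : ℕ) a b, h.g ^ i * β a b * (h.g ^ i)⁻¹ = β (l ^ i * a) (l ^ i * b) := fun i a b => by
    rw [hβ, conjugate_commutatorElement, cβ _ (h.conjQ (gi i) (rQ _)) _ (h.conjQ (gi i) (rQ _)),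
      Xi _ _ (rQ _), Xi _ _ (rQ _), rX, rX]
  have β0 : ∀ a, β 0 a = 1 ∧ β a 0 = 1 := fun a =>
    ⟨by simpa using βl 0 0 a, by simpa using βr a 0 0⟩
  have βe : ∀ e a b, β (e * a) b = β a (U.σ e * b) := by
    let R : AddSubgroup E := AddSubgroup.mk (⟨⟨{e | ∀ a b, β (e * a) b = β a (U.σ e * b)},
      fun {e e'} he he' a b => by rw [add_mul, βl, he, he', map_add, add_mul, βr]⟩,
      fun a b => by simp [β0]⟩) fun {e} he a b => mul_left_cancel (a := β (e * a) b) (by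
        rw [← βl, he, ← βr]; simp [β0])
    have hζ : l ^ (q - 1) * U.σ (l ^ (q - 1)) = 1 := by
      rw [U.norm_eq, ← pow_mul, ← ln]; rcases hq with rfl | rfl <;> rfl
    have R1 : ∀ a b, β (l ^ (q - 1) * a) b = β a (U.σ (l ^ (q - 1)) * b) := fun a b => by
      have := βi (q - 1) a (U.σ (l ^ (q - 1)) * b)
      rw [← mul_assoc, hζ, one_mul] at this
      rw [← this]
      by_cases e : β a (U.σ (l ^ (q - 1)) * b) = 1
      · rw [e, mul_one, mul_inv_cancel]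
      · exact ((h.cenW _ (βY _ _) e _).2 dvd_rfl).mul_inv_cancel
    have hp := pow_card_of_mul_mem (S := (Finset.univ.filter (· ∈ R)).erase 0) (pow_ne_zero (q - 1) l0)
      (Finset.notMem_erase _ _) fun v hv => by
        simp only [Finset.mem_erase, Finset.mem_filter, Finset.mem_univ, true_and] at hv ⊢
        exact ⟨mul_ne_zero (pow_ne_zero _ l0) hv.1, fun a b => by
          rw [mul_assoc, R1, hv.2, map_mul, mul_left_comm, mul_assoc]⟩
    rw [Finset.card_erase_of_mem (by simpa using R.zero_mem), ← pow_mul, ← orderOf_dvd_iff_pow_eq_one, ol,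
      ← Fintype.card_subtype, ← Nat.card_eq_fintype_card] at hp
    have d1 := R.card_addSubgroup_dvd_card
    have d2 : Nat.card R ≠ 1 := fun e => one_ne_zero (α := E)
      ((AddSubgroup.card_eq_one.1 e).le (show (1 : E) ∈ R from fun a b => by simp))
    have d3 : Nat.card R = Nat.card E := by
      rw [Nat.card_eq_fintype_card (α := E), U.card] at d1 ⊢
      change q ^ 2 - 1 ∣ (q - 1) * (Nat.card R - 1) at hp
      have d4 := Nat.mem_divisors.2 ⟨d1, by rcases hq with rfl | rfl <;> decide⟩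
      clear d1
      generalize Nat.card R = n at d2 d4 hp ⊢
      revert d2 hp
      rcases hq with rfl | rfl <;> revert d4 n <;> decide
    exact fun e => (AddSubgroup.eq_top_of_card_eq R d3).ge trivial
  obtain ⟨f, hf⟩ : ∃ f : E → G, ∀ e, f e = β 1 e := ⟨_, fun _ => rfl⟩
  have βf : ∀ a b, β a b = f (U.σ a * b) := fun a b => by rw [hf, ← βe, mul_one]
  have fa : ∀ a b, f (a + b) = f a * f b := fun a b => by rw [hf, hf, hf, βr]
  have fY : ∀ e, f e ∈ h.Y := fun e => hf e ▸ βY _ _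
  have f0 : f 0 = 1 := by simpa using fa 0 0
  have fi : ∀ (i : ℕ) e, h.g ^ i * f e * (h.g ^ i)⁻¹ = f (l ^ i * U.σ (l ^ i) * e) := fun i e => by
    rw [hf, βi, βf, mul_one, ← mul_assoc, mul_comm (U.σ _)]
  have fσ : ∀ e, f e * f (U.σ e) = 1 := fun e => by
    rw [← mul_one (U.σ e), ← βf, hf, hβ, hβ, ← commutatorElement_inv (r e), inv_mul_cancel]
  have Y2 : ∀ w ∈ h.Y, w * w = 1 → w = 1 := fun w hw e => by
    have e1 : w ^ q = 1 := by
      simpa [h.cardY] using congrArg Subtype.val (pow_card_eq_one' (x := (⟨w, hw⟩ : h.Y)))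
    rw [← pow_gcd_eq_one.2 ⟨e1, (sq w).trans e⟩]
    rcases hq with rfl | rfl <;> simp
  have fF : ∀ e, U.σ e = e → f e = 1 := fun e he => Y2 _ (fY e) (by simpa [he] using fσ e)
  have fT : ∀ e, f e = f ((e - U.σ e) / 2) := fun e => by
    rw [← mul_one (f (_ / 2)), ← fF ((e + U.σ e) / 2) (by
      simp only [map_div₀, map_add, U.σσ, map_ofNat, add_comm]), ← fa]
    congr 1; field_simp; ring
  have fK : ∀ t, U.σ t = -t → f t = 1 → t = 0 := fun t ht e => by_contra fun t0 => by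
    obtain ⟨x, hx, x', hx', hn⟩ := h.nc
    refine hn (commutatorElement_eq_one_iff_commute.1 ?_)
    rw [cβ x hx x' hx', βf, fT]
    generalize U.σ (X x) * X x' = a
    by_cases a0 : a - U.σ a = 0
    · rw [a0, zero_div, f0]
    obtain ⟨m, hm⟩ := U.exists_norm (s := (a - U.σ a) / 2 / t) (by simp [*]) (by
      simp only [map_div₀, map_sub, U.σσ, map_ofNat, ht]; field_simp; ring)
    obtain ⟨i, rfl⟩ := gen m (by rintro rfl; exact (by simp [a0, h2, t0] : (a - U.σ a) / 2 / t ≠ 0) (by simpa using hm.symm))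
    rw [← div_mul_cancel₀ ((a - U.σ a) / 2) t0, ← hm, ← fi, e]; simp
  have fs : ∀ w ∈ h.Y, ∃ t, U.σ t = -t ∧ f t = w := fun w hw => by
    obtain ⟨t, ht⟩ := (Function.Injective.bijective_of_nat_card_le
      (f := fun t : {t : E // U.σ t = -t} => (⟨f t, fY t⟩ : h.Y)) (fun t t' e => Subtype.ext
        (sub_eq_zero.1 (fK _ (by rw [map_sub, t.2, t'.2]; ring) (mul_right_cancel (b := f t') (by
          rw [← fa, sub_add_cancel, one_mul]; exact Subtype.ext_iff.1 e)))))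
      (by rw [h.cardY, card_skew U h2])).2 ⟨w, hw⟩
    exact ⟨t, t.2, Subtype.ext_iff.1 ht⟩
  choose! T Tσ fT' using fs
  have Tf : ∀ e, T (f e) = (e - U.σ e) / 2 := fun e => sub_eq_zero.1 (fK _ (by
    simp only [map_div₀, map_sub, U.σσ, map_ofNat, Tσ _ (fY e)]; ring) (mul_right_cancel
      (b := f ((e - U.σ e) / 2)) (by rw [← fa, sub_add_cancel, one_mul, fT' _ (fY e), ← fT])))
  have Ta : ∀ w ∈ h.Y, ∀ w' ∈ h.Y, T (w * w') = T w + T w' := fun w hw w' hw' => by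
    conv_lhs => rw [← fT' w hw, ← fT' w' hw', ← fa, Tf, map_add, Tσ w hw, Tσ w' hw']
    field_simp; ring
  obtain ⟨i, hi⟩ := gen (-1) (by simp)
  set z := h.g ^ i with hz
  have zY : ∀ w ∈ h.Y, z * w * z⁻¹ = w := fun w hw => by
    rw [← fT' w hw, fi, hi]; simp
  have cz : ∀ x ∈ h.Q, x * (z * x * z⁻¹) ∈ h.Y := fun x hx => by
    rw [← X0 _ (mul_mem hx (h.conjQ (gi i) hx)), Xm _ hx _ (h.conjQ (gi i) hx), Xi _ _ hx, hi]; ring
  obtain ⟨y, hy⟩ : ∃ y : G → E, ∀ x, y x = X x * U.σ (X x) / 2 + T (x * (z * x * z⁻¹)) :=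
    ⟨_, fun _ => rfl⟩
  have ym : ∀ x ∈ h.Q, ∀ x' ∈ h.Q, y (x * x') = y x + y x' + U.σ (X x) * X x' := fun x hx x' hx' => by
    rw [hy, hy, hy, show x * x' * (z * (x * x') * z⁻¹) =
      ⁅x, x'⁆ * (x' * (x * (z * x * z⁻¹)) * x'⁻¹ * (x' * (z * x' * z⁻¹))) by
        rw [commutatorElement_def]; group, ← (h.cen _ (cz x hx) x' hx').eq,
      mul_inv_cancel_right, Ta _ (cY x hx x' hx') _ (mul_mem (cz x hx) (cz x' hx')),
      Ta _ (cz x hx) _ (cz x' hx'), cβ x hx x' hx', βf, Tf, Xm x hx x' hx']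
    simp only [map_add, map_mul, U.σσ]
    field_simp; ring
  have yr : ∀ x ∈ h.Q, y x + U.σ (y x) = X x * U.σ (X x) := fun x hx => by
    simp only [hy, map_add, map_div₀, map_mul, U.σσ, map_ofNat, Tσ _ (cz x hx)]
    field_simp; ring
  have yY : ∀ x ∈ h.Q, ∀ w ∈ h.Y, X (x * w) = X x ∧ y (x * w) = y x + 2 * T w := fun x hx w hw => by
    rw [Xm x hx w (h.le hw), ym x hx w (h.le hw), hy w, zY w hw, Ta w hw w hw, (X0 w (h.le hw)).2 hw]
    exact ⟨add_zero _, by ring⟩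
  refine ⟨⟨X, y, l, Xm, ym, yr, fun x hx x' hx' e e' => ?_, fun a b hb => ?_, gen, l0, Xg, fun x hx => ?_⟩⟩
  · have hw := (X0 _ (mul_mem (inv_mem hx) hx')).1 (by rw [Xm _ (inv_mem hx) _ hx', Xn _ hx, e,
      neg_add_cancel])
    have := (yY x hx _ hw).2
    rw [mul_inv_cancel_left, e', left_eq_add, mul_eq_zero_iff_left h2] at this
    rw [← inv_mul_eq_one, ← fT' _ hw, this, f0]
  · have := yr _ (rQ a)
    refine ⟨r a * f ((b - y (r a)) / 2), mul_mem (rQ a) (h.le (fY _)), by rw [(yY _ (rQ a) _ (fY _)).1, rX], ?_⟩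
    rw [(yY _ (rQ a) _ (fY _)).2, Tf]
    rw [rX] at this
    simp only [map_div₀, map_sub, map_ofNat]
    field_simp
    linear_combination this - hb
  · have := fi 1 (T (x * (z * x * z⁻¹)))
    rw [pow_one, pow_one, fT' _ (cz x hx)] at this
    rw [hy, hy, Xg x hx, show h.g * x * h.g⁻¹ * (z * (h.g * x * h.g⁻¹) * z⁻¹) =
      h.g * (x * (z * x * z⁻¹)) * h.g⁻¹ by rw [hz]; group, this, Tf]
    simp only [map_mul, U.σσ, Tσ _ (cz x hx)]
    field_simp; ring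

end BN3

end Cfsg.Agent.L0.U3
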