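import Cfsg.Agent.L0.U3Id1
import Cfsg.Agent.H2.PfU4

/-! A `BN3` group is `PSU₃(q)`. -/

set_option autoImplicit false
set_option linter.unusedSectionVars false

namespace Cfsg.Agent.L0.U3

open H1 Subgroup H2.Pf
open Matrix hiding mul_smul

variable {E : Type*} [Field E] [Fintype E] {q : ℕ} (U : UField E q)

theorem exists_P (h2 : (2 : E) ≠ 0) : ∃ P P' : Matrix (Fin 3) (Fin 3) E, P' * P = 1 ∧
    Pᵀ * P.map U.σ = !![0, 1, 0; 1, 0, 0; 0, 0, 1] ∧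
    (∀ u v, U.H (P *ᵥ u) (P *ᵥ v) = u 0 * U.σ (v 1) + u 1 * U.σ (v 0) + u 2 * U.σ (v 2)) ∧
    ∀ A : SU 3 E q, suAct A (P *ᵥ ![1, 0, 0]) = P *ᵥ ![1, 0, 0] →
      suAct A (P *ᵥ ![0, 1, 0]) = P *ᵥ ![0, 1, 0] → A = 1 := by
  obtain ⟨ν, hν⟩ := U.exists_norm (s := -1) (by simp) (by simp)
  have i2 : (2 : E) * 2⁻¹ = 1 := mul_inv_cancel₀ h2
  have s2 : U.σ 2⁻¹ = 2⁻¹ := by rw [map_inv₀, map_ofNat]
  generalize (2⁻¹ : E) = t at i2 s2
  refine ⟨!![1, t, 0; ν, -ν * t, 0; 0, 0, 1], !![t, -U.σ ν * t, 0; 1, U.σ ν, 0; 0, 0, 1], ?_, ?_,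
    fun u v => ?_, fun A h1 h2 => ?_⟩
  · ext i j
    fin_cases i <;> fin_cases j <;> simp [Matrix.mul_apply, Fin.sum_univ_three] <;> grind
  · ext i j
    fin_cases i <;> fin_cases j <;> simp [Matrix.mul_apply, Fin.sum_univ_three, s2] <;> grind
  · simp [U.H_def, mulVec, dotProduct, Fin.sum_univ_three, s2]; grind
  have e0 : suAct A (ev E 0) = ev E 0 := by
    have : ev E (0 : Fin 3) = t • (!![1, t, 0; ν, -ν * t, 0; 0, 0, 1] *ᵥ ![1, 0, 0]) +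
        !![1, t, 0; ν, -ν * t, 0; 0, 0, 1] *ᵥ ![0, 1, 0] := by
      ext i; fin_cases i <;> simp [ev] <;> grind
    rw [this, map_add, map_smul, h1, h2]
  have e1 : suAct A (ev E 1) = ev E 1 := by
    have : ev E (1 : Fin 3) = (-U.σ ν * t) • (!![1, t, 0; ν, -ν * t, 0; 0, 0, 1] *ᵥ ![1, 0, 0]) +
        U.σ ν • (!![1, t, 0; ν, -ν * t, 0; 0, 0, 1] *ᵥ ![0, 1, 0]) := by
      ext i; fin_cases i <;> simp [ev] <;> grind
    rw [this, map_add, map_smul, map_smul, h1, h2]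
  have a0 := U.act_apply_of_fix e0 (ev E 2)
  have a1 := U.act_apply_of_fix e1 (ev E 2)
  have hd := det_suMat A
  rw [det_fin_three] at hd
  simp only [← suAct_ev, e0, e1, a0, a1] at hd
  refine su_ext fun a => ?_
  fin_cases a
  · simpa using e0
  · simpa using e1
  · ext i
    fin_cases i
    · simpa using a0
    · simpa using a1
    · simpa [ev] using hd

theorem exists_su {P P' M : Matrix (Fin 3) (Fin 3) E} (h1 : P' * P = 1)
    (h2 : Pᵀ * P.map U.σ = !![0, 1, 0; 1, 0, 0; 0, 0, 1])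
    (h3 : Mᵀ * !![0, 1, 0; 1, 0, 0; 0, 0, 1] * M.map U.σ = !![0, 1, 0; 1, 0, 0; 0, 0, 1])
    (h4 : M.det = 1) : ∃ A : SU 3 E q, ∀ v, suAct A (P *ᵥ v) = P *ᵥ (M *ᵥ v) := by
  have h5 := mul_eq_one_comm.1 h1
  refine ⟨U.mkSU (P * M * P') ((U.isU_iff _).2 ?_) ?_, fun v => ?_⟩
  · rw [transpose_mul, transpose_mul, Matrix.map_mul, Matrix.map_mul, show P'ᵀ * (Mᵀ * Pᵀ) *
      (P.map U.σ * M.map U.σ * P'.map U.σ) = P'ᵀ * (Mᵀ * (Pᵀ * P.map U.σ) * M.map U.σ) * P'.map U.σ by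
        simp only [Matrix.mul_assoc], h2, h3, ← h2, ← Matrix.mul_assoc, ← transpose_mul, Matrix.mul_assoc,
      ← Matrix.map_mul, h5]
    simp
  · rw [det_mul, det_mul, h4, mul_one, ← det_mul, h5, det_one]
  · rw [suAct_def, UField.suMat_mk, mulVec_mulVec, mulVec_mulVec, Matrix.mul_assoc, h1, Matrix.mul_one]

variable {G Ω : Type*} [Group G] [Finite G] [MulAction G Ω]

namespace BN3

variable (h : BN3 G Ω q)

theorem ss (p : Ω) : h.s • h.s • p = p := by rw [← mul_smul, h.s2, one_smul]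

theorem sβ : h.s • h.β = h.α := by rw [← h.sα, h.ss]

theorem pt_ne {x : G} (hx : x ∈ h.Q) : x • h.β ≠ h.α := fun e =>
  h.ne (by rw [← h.fix _ (inv_mem hx), ← e, inv_smul_smul])

theorem pt_inj {x x' : G} (hx : x ∈ h.Q) (hx' : x' ∈ h.Q) (e : x • h.β = x' • h.β) : x = x' :=
  inv_mul_eq_one.1 (h.free _ (mul_mem (inv_mem hx) hx') (by rw [mul_smul, ← e, inv_smul_smul]))

theorem gβ (i : ℕ) : (h.g ^ i)⁻¹ • h.β = h.β :=
  ((h.stab _).2 (inv_mem (pow_mem (mem_zpowers _) i))).2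

theorem dec {k : G} (hk : k • h.α = h.α) : ∃ w ∈ h.Q, ∃ j : ℕ, k = w * h.g ^ j := by
  obtain ⟨w, hw, e⟩ := h.trans (k • h.β) fun e => h.ne ((smul_left_cancel_iff k).1 (hk.trans e.symm))
  obtain ⟨j, hj⟩ := mem_powers_iff_mem_zpowers.2 ((h.stab (w⁻¹ * k)).1
    ⟨by rw [mul_smul, hk, h.fix _ (inv_mem hw)], by rw [mul_smul, ← e, inv_smul_smul]⟩)
  exact ⟨w, hw, j, by simp only at hj; rw [hj, mul_inv_cancel_left]⟩

theorem exists_τ : ∃ τ : G → G, ∀ x ∈ h.Q, x ≠ 1 → τ x ∈ h.Q ∧ τ x ≠ 1 ∧ h.s • x • h.β = τ x • h.β := by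
  have : ∀ x ∈ h.Q, x ≠ 1 → ∃ t, t ∈ h.Q ∧ t ≠ 1 ∧ h.s • x • h.β = t • h.β := fun x hx x1 => by
    obtain ⟨t, ht, e⟩ := h.trans (h.s • x • h.β) fun e => x1 (h.free x hx (by rw [← h.ss (x • h.β), e, h.sα]))
    refine ⟨t, ht, ?_, e.symm⟩
    rintro rfl
    exact h.pt_ne hx (by rw [← h.sβ, ← h.ss (x • _), ← e, one_smul])
  choose! τ hτ using this
  exact ⟨τ, hτ⟩

namespace Crd

variable {h U} (C : h.Crd U)

theorem X1 : C.X 1 = 0 := by simpa using C.X_mul 1 (one_mem _) 1 (one_mem _)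

theorem y1 : C.y 1 = 0 := by simpa [C.X1] using C.y_mul 1 (one_mem _) 1 (one_mem _)

theorem y_ne {x : G} (hx : x ∈ h.Q) : C.y x ≠ 0 ↔ x ≠ 1 := ⟨fun e e' => e (e' ▸ C.y1), fun x1 e => by
  have h1 := C.rel x hx
  rw [e, map_zero, add_zero, eq_comm, mul_eq_zero, U.σ_eq_zero, or_self] at h1
  exact x1 (C.inj x hx 1 (one_mem _) (h1.trans C.X1.symm) (e.trans C.y1.symm))⟩

theorem pow (i : ℕ) {x : G} (hx : x ∈ h.Q) : C.X (h.g ^ i * x * (h.g ^ i)⁻¹) = C.l ^ i * C.X x ∧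
    C.y (h.g ^ i * x * (h.g ^ i)⁻¹) = C.l ^ i * U.σ (C.l ^ i) * C.y x := by
  induction i with
  | zero => simp
  | succ i ih =>
    have := h.conjQ (pow_mem (mem_zpowers _) i) hx
    rw [show h.g ^ (i + 1) * x * (h.g ^ (i + 1))⁻¹ = h.g * (h.g ^ i * x * (h.g ^ i)⁻¹) * h.g⁻¹ by group,
      C.Xg _ this, C.yg _ this, ih.1, ih.2, pow_succ, map_mul]
    exact ⟨by ring, by ring⟩

theorem inv {x : G} (hx : x ∈ h.Q) : C.X x⁻¹ = -C.X x ∧ C.y x⁻¹ = U.σ (C.y x) := by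
  have h1 := C.X_mul x hx _ (inv_mem hx)
  have h2 := C.y_mul x hx _ (inv_mem hx)
  rw [mul_inv_cancel] at h1 h2
  rw [C.X1] at h1
  rw [C.y1] at h2
  exact ⟨by linear_combination -h1, by linear_combination -h2 - C.rel x hx + U.σ (C.X x) * h1⟩

theorem tau (h2 : (2 : E) ≠ 0) : ∃ S : E, S ≠ 0 ∧ U.σ S = S ∧ ∀ x ∈ h.Q, x ≠ 1 → ∃ t ∈ h.Q,
    h.s • x • h.β = t • h.β ∧ C.X t = S * C.X x / C.y x ∧ C.y t = S ^ 2 / C.y x := by
  obtain ⟨τ, hτ⟩ := h.exists_τ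
  choose! r rQ rX ry using C.surj
  have rr : ∀ x ∈ h.Q, r (C.X x) (C.y x) = x := fun x hx =>
    C.inj _ (rQ _ _ (C.rel x hx)) _ hx (rX _ _ (C.rel x hx)) (ry _ _ (C.rel x hx))
  have ex : ∀ a b, b + U.σ b = a * U.σ a → b ≠ 0 → ∃ x ∈ h.Q, x ≠ 1 ∧ C.X x = a ∧ C.y x = b :=
    fun a b hb b0 => ⟨_, rQ a b hb, (C.y_ne (rQ a b hb)).1 ((ry a b hb).symm ▸ b0), rX a b hb, ry a b hb⟩
  have un : ∀ x ∈ h.Q, x ≠ 1 → ∀ t ∈ h.Q, h.s • x • h.β = t • h.β → τ x = t := fun x hx x1 t ht e =>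
    h.pt_inj (hτ x hx x1).1 ht ((hτ x hx x1).2.2.symm.trans e)
  let T : Tau U :=
  { A a b := C.X (τ (r a b))
    B a b := C.y (τ (r a b))
    two := h2
    card := card_skew U h2
    val a b hb b0 := by
      obtain ⟨x, hx, x1, rfl, rfl⟩ := ex a b hb b0
      rw [rr x hx]
      exact ⟨C.rel _ (hτ x hx x1).1, (C.y_ne (hτ x hx x1).1).2 (hτ x hx x1).2.1⟩
    inv a b hb b0 := by
      obtain ⟨x, hx, x1, rfl, rfl⟩ := ex a b hb b0
      obtain ⟨h1, h3, h4⟩ := hτ x hx x1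
      rw [rr x hx, rr _ h1, un _ h1 h3 x hx (by rw [← h4, h.ss])]
      exact ⟨rfl, rfl⟩
    eqv l a b l0 hb b0 := by
      obtain ⟨x, hx, x1, rfl, rfl⟩ := ex a b hb b0
      obtain ⟨i, rfl⟩ := C.gen l l0
      have hq := h.conjQ (pow_mem (mem_zpowers _) i) hx
      obtain ⟨h1, -, h4⟩ := hτ _ hq (by simpa using x1)
      have e : h.s * h.g ^ i * h.s = (h.g ^ (i * q))⁻¹ := by
        rw [mul_comm i, pow_mul, ← inv_pow, ← eq_inv_of_mul_eq_one_left h.sg]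
        simpa only [inv_eq_of_mul_eq_one_left h.s2] using (conj_pow (a := h.s) (b := h.g) (i := i)).symm
      have e' : ∀ p : Ω, h.s • h.g ^ i • p = (h.g ^ (i * q))⁻¹ • h.s • p := fun p => by
        rw [← e, mul_smul, mul_smul, h.ss]
      rw [← (C.pow i hx).1, ← (C.pow i hx).2, rr _ hq, rr x hx, un x hx x1 _
        (h.conjQ (pow_mem (mem_zpowers _) (i * q)) h1) (by
          rw [mul_smul, mul_smul, h.gβ, ← h4, mul_smul, mul_smul, h.gβ, e', smul_inv_smul]), (C.pow _ h1).1, (C.pow _ h1).2, pow_mul,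
        ← U.pow, U.σσ, mul_comm (U.σ _) (C.l ^ i)]
      exact ⟨rfl, rfl⟩
    star a b hb b0 := by
      obtain ⟨x, hx, x1, rfl, rfl⟩ := ex a b hb b0
      obtain ⟨h1, h3, h4⟩ := hτ x hx x1
      obtain ⟨w, hw, j, e⟩ := h.dec (k := h.s * (τ x)⁻¹ * h.s * x * h.s) (by
        simp only [mul_smul, h.sα, h4, inv_smul_smul, h.sβ])
      have e1 : ∀ p : Ω, h.s • x • h.s • p = τ x • h.s • w • h.g ^ j • p := fun p => by
        rw [← mul_smul w, ← e]; simp only [mul_smul, h.ss, smul_inv_smul]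
      have e2 : h.s • w • h.β = (τ x)⁻¹ • h.β := by
        have := e1 ((h.g ^ j)⁻¹ • h.β)
        rw [smul_inv_smul, h.gβ, h.sβ, h.fix x hx, h.sα] at this
        rw [eq_inv_smul_iff, ← this]
      have w1 : w ≠ 1 := by
        rintro rfl
        exact h.pt_ne (inv_mem h1) (by rw [← e2, one_smul, h.sβ])
      refine ⟨_, _, C.l ^ j, C.rel w hw, (C.y_ne hw).2 w1, pow_ne_zero _ C.l0, ?_, ?_, fun a b hb b0 hn => ?_⟩
      · rw [rr x hx, rr w hw, un w hw w1 _ (inv_mem h1) e2, (C.inv h1).1]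
      · rw [rr x hx, rr w hw, un w hw w1 _ (inv_mem h1) e2, (C.inv h1).2]
      obtain ⟨x', hx', x1', rfl, rfl⟩ := ex a b hb b0
      obtain ⟨k1, -, k4⟩ := hτ x' hx' x1'
      have hc := h.conjQ (pow_mem (mem_zpowers _) j) k1
      have hu := mul_mem hw hc
      have hm := mul_mem hx hx'
      rw [← C.y_mul x hx x' hx', C.y_ne hm] at hn
      have e3 : h.s • (x * x') • h.β = τ x • h.s • (w * (h.g ^ j * τ x' * (h.g ^ j)⁻¹)) • h.β := by
        simp only [mul_smul, h.gβ]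
        rw [← e1, ← k4, h.ss]
      have u1 : w * (h.g ^ j * τ x' * (h.g ^ j)⁻¹) ≠ 1 := fun e => hn (h.free _ hm (by
        rw [← h.ss (_ • _), e3, e, one_smul, h.sβ, h.fix _ h1, h.sα]))
      obtain ⟨l1, -, l4⟩ := hτ _ hu u1
      rw [rr x hx, rr x' hx', ← (C.pow j k1).1, ← (C.pow j k1).2, ← C.X_mul w hw _ hc, ← C.y_mul w hw _ hc,
        ← C.X_mul x hx x' hx', ← C.y_mul x hx x' hx', rr _ hm, rr _ hu,
        un _ hm hn _ (mul_mem h1 l1) (by rw [e3, l4, mul_smul])]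
      exact ⟨(C.y_ne hu).2 u1, C.X_mul _ h1 _ l1, C.y_mul _ h1 _ l1⟩ }
  obtain ⟨S, S0, hS, H⟩ := T.main
  refine ⟨S, S0, hS, fun x hx x1 => ⟨τ x, (hτ x hx x1).1, (hτ x hx x1).2.2, ?_⟩⟩
  have := H _ _ (C.rel x hx) ((C.y_ne hx).2 x1)
  simpa only [T, rr x hx] using this

end Crd

include h in
theorem iso (hq : q = 7 ∨ q = 9) (E : Type*) [Field E] [Fintype E] (hE : Fintype.card E = q ^ 2) :
    Nonempty (G ≃* PSU 3 E q) := by
  classical
  obtain ⟨U⟩ := nonempty_uField hE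
  obtain ⟨C⟩ := h.nonempty_crd U hq
  have h2 := two_ne U hq
  obtain ⟨S, S0, hS, hτ⟩ := C.tau h2
  obtain ⟨P, P', hP, hJ, hH, hfix⟩ := exists_P U h2
  have Pi : ∀ u v, P *ᵥ u = P *ᵥ v → u = v := fun u v e => by
    simpa [mulVec_mulVec, hP] using congrArg (P' *ᵥ ·) e
  obtain ⟨vc, va, vx⟩ : ∃ vc : Ω → Fin 3 → E, vc h.α = ![1, 0, 0] ∧
      ∀ x ∈ h.Q, vc (x • h.β) = ![-C.y x, 1, C.X x] :=
    ⟨fun p => if hp : p ≠ h.α then ![-C.y (h.trans p hp).choose, 1, C.X (h.trans p hp).choose] else ![1, 0, 0],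
      dif_neg (by simp), fun x hx => by
        have := (h.trans _ (h.pt_ne hx)).choose_spec
        simp only [dif_pos (h.pt_ne hx), h.pt_inj this.1 hx this.2]⟩
  have vb : vc h.β = ![0, 1, 0] := by simpa [C.X1, C.y1] using vx 1 (one_mem _)
  have cs : ∀ p, p = h.α ∨ ∃ x ∈ h.Q, x • h.β = p := fun p => or_iff_not_imp_left.2 (h.trans p)
  set vec : Ω → Fin 3 → E := fun p => P *ᵥ vc p with hvec
  have rel : ∀ {A : SU 3 E q} {M : Matrix (Fin 3) (Fin 3) E} {g : G}, (∀ v, suAct A (P *ᵥ v) = P *ᵥ (M *ᵥ v)) →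
      (∀ p, ∃ c : E, M *ᵥ vc p = c • vc (g • p)) → Rel vec A g := fun hA hM p =>
    (hM p).imp fun c e => by rw [hvec, hA, e, mulVec_smul]
  have h0 : ∀ p, vec p ≠ 0 := fun p e => by
    have := Pi _ 0 (e.trans (mulVec_zero _).symm)
    rcases cs p with rfl | ⟨x, hx, rfl⟩
    · simpa [va] using congrFun this 0
    · simpa [vx x hx] using congrFun this 1
  have hiso : ∀ p, U.H (vec p) (vec p) = 0 := fun p => by
    rw [hvec, hH]
    rcases cs p with rfl | ⟨x, hx, rfl⟩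
    · simp [va]
    · simp [vx x hx]; linear_combination -C.rel x hx
  have hinj : ∀ p p' (l : E), vec p = l • vec p' → p = p' := fun p p' l e => by
    have := Pi _ _ (e.trans (mulVec_smul _ _ _).symm)
    have h1 := congrFun this 0
    have h2 := congrFun this 1
    have h3 := congrFun this 2
    rcases cs p with rfl | ⟨x, hx, rfl⟩ <;> rcases cs p' with rfl | ⟨y, hy, rfl⟩
    · rfl
    · simp [va, vx y hy] at h1 h2; simp [← h2] at h1
    · simp [va, vx x hx] at h2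
    · simp [vx x hx, vx y hy] at h1 h2 h3
      rw [C.inj x hx y hy (by simpa [← h2] using h3) (by simpa [← h2] using h1)]
  have hsurj : ∀ v, U.H v v = 0 → ∃ p, ∃ l : E, v = l • vec p := fun v hv => by
    obtain ⟨u, rfl⟩ : ∃ u, v = P *ᵥ u := ⟨P' *ᵥ v, by rw [mulVec_mulVec, mul_eq_one_comm.1 hP, one_mulVec]⟩
    rw [hH] at hv
    by_cases e : u 1 = 0
    · have e2 : u 2 = 0 := by simpa [e] using hv
      exact ⟨h.α, u 0, by
        rw [hvec, ← mulVec_smul, va]; congr 1; ext i; fin_cases i <;> simp [e, e2]⟩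
    · have e' := U.σ_eq_zero.not.2 e
      obtain ⟨x, hx, h1, h2⟩ := C.surj (u 2 / u 1) (-(u 0 / u 1)) (by
        simp only [map_neg, map_div₀]; field_simp; linear_combination -hv)
      refine ⟨x • h.β, u 1, ?_⟩
      rw [hvec, ← mulVec_smul, vx x hx, h1, h2]; congr 1; ext i
      fin_cases i <;> simp [mul_div_cancel₀, e]
  have rQ : ∀ x ∈ h.Q, ∃ A : SU 3 E q, Rel vec A x := fun x hx => by
    have hr := C.rel x hx
    obtain ⟨A, hA⟩ := exists_su U (M := !![1, -C.y x, -U.σ (C.X x); 0, 1, 0; 0, C.X x, 1]) hP hJ (by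
      ext i j
      fin_cases i <;> fin_cases j <;> simp [Matrix.mul_apply, Fin.sum_univ_three]
      linear_combination -hr) (by simp [det_fin_three])
    refine ⟨A, rel hA fun p => ⟨1, ?_⟩⟩
    rcases cs p with rfl | ⟨y, hy, rfl⟩
    · rw [h.fix x hx, va]; ext i; fin_cases i <;> simp
    · rw [← mul_smul, vx y hy, vx _ (mul_mem hx hy), C.X_mul x hx y hy, C.y_mul x hx y hy]
      ext i; fin_cases i <;> simp [mulVec, dotProduct, Fin.sum_univ_three]; ring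
  have rs : ∃ A : SU 3 E q, Rel vec A h.s := by
    obtain ⟨A, hA⟩ := exists_su U (M := !![0, S, 0; S⁻¹, 0, 0; 0, 0, -1]) hP hJ (by
      ext i j
      fin_cases i <;> fin_cases j <;> simp [Matrix.mul_apply, Fin.sum_univ_three, hS, S0])
      (by simp [det_fin_three, S0])
    refine ⟨A, rel hA fun p => ?_⟩
    rcases cs p with rfl | ⟨y, hy, rfl⟩
    · exact ⟨S⁻¹, by rw [h.sα, va, vb]; ext i; fin_cases i <;> simp⟩
    by_cases y1 : y = 1
    · exact ⟨S, by rw [y1, one_smul, h.sβ, va, vb]; ext i; fin_cases i <;> simp⟩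
    obtain ⟨t, ht, e, e1, e2⟩ := hτ y hy y1
    have := (C.y_ne hy).2 y1
    refine ⟨-C.y y / S, ?_⟩
    rw [e, vx y hy, vx t ht, e1, e2]
    ext i; fin_cases i <;> simp [mulVec, dotProduct, Fin.sum_univ_three] <;> field_simp
  have rD : ∀ μ : E, μ ≠ 0 → ∃ A : SU 3 E q, (∀ j : ℕ, C.l ^ j * μ = U.σ μ ^ 2 → Rel vec A (h.g ^ j)) ∧
      suAct A (vec h.α) = μ • vec h.α ∧ suAct A (vec h.β) = (U.σ μ)⁻¹ • vec h.β := fun μ μ0 => by
    have μ1 := U.σ_eq_zero.not.2 μ0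
    obtain ⟨A, hA⟩ := exists_su U (M := !![μ, 0, 0; 0, (U.σ μ)⁻¹, 0; 0, 0, U.σ μ / μ]) hP hJ (by
      ext i j
      fin_cases i <;> fin_cases j <;> simp [Matrix.mul_apply, Fin.sum_univ_three, μ0, μ1])
      (by simp [det_fin_three]; field_simp)
    refine ⟨A, fun j e => rel hA fun p => ?_, ?_, ?_⟩
    · have gj := pow_mem (mem_zpowers h.g) j
      rcases cs p with rfl | ⟨y, hy, rfl⟩
      · exact ⟨μ, by rw [((h.stab _).2 gj).1, va]; ext i; fin_cases i <;> simp⟩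
      have e' := congrArg U.σ e
      rw [map_mul, map_pow U.σ (U.σ μ), U.σσ] at e'
      refine ⟨(U.σ μ)⁻¹, ?_⟩
      rw [show h.g ^ j • y • h.β = (h.g ^ j * y * (h.g ^ j)⁻¹) • h.β by rw [mul_smul, mul_smul, h.gβ],
        vx y hy, vx _ (h.conjQ gj hy), (C.pow j hy).1, (C.pow j hy).2, eq_div_of_mul_eq μ1 e',
        eq_div_of_mul_eq μ0 e]
      ext i; fin_cases i <;> simp [mulVec, dotProduct, Fin.sum_univ_three] <;> field_simp
    · rw [hvec, hA, ← mulVec_smul, va]; congr 1; ext i; fin_cases i <;> simp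
    · rw [hvec, hA, ← mulVec_smul, vb]; congr 1; ext i; fin_cases i <;> simp
  have ra : ∀ k : G, k • h.α = h.α → ∃ A : SU 3 E q, Rel vec A k := fun k hk => by
    obtain ⟨w, hw, j, rfl⟩ := h.dec hk
    have l0 := pow_ne_zero j C.l0
    have l1 := FiniteField.pow_card_sub_one_eq_one _ l0
    obtain ⟨μ, μ0, e⟩ : ∃ μ : E, μ ≠ 0 ∧ C.l ^ j * μ = U.σ μ ^ 2 := by
      rw [hE] at l1
      generalize C.l ^ j = m at *
      rcases hq with rfl | rfl
      · exact ⟨m ^ 37, pow_ne_zero _ l0, by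
          rw [U.pow, ← mul_one (m * _), ← one_pow 10, ← l1]; ring⟩
      · exact ⟨m ^ 33, pow_ne_zero _ l0, by
          rw [U.pow, ← mul_one (m * _), ← one_pow 7, ← l1]; ring⟩
    obtain ⟨A, hA, -⟩ := rD μ μ0
    exact ⟨_, (rQ w hw).choose_spec.mul (hA j e)⟩
  have h1 : ∀ g : G, ∃ A : SU 3 E q, Rel vec A g := fun g => by
    rcases cs (g • h.α) with e | ⟨x, hx, e⟩
    · exact ra g e
    · obtain ⟨A, hA⟩ := ra (h.s * x⁻¹ * g) (by rw [mul_smul, mul_smul, ← e, inv_smul_smul, h.sβ])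
      exact ⟨_, show x * h.s * (h.s * x⁻¹ * g) = g by
        rw [mul_assoc h.s, mul_assoc x, ← mul_assoc h.s, h.s2, one_mul, mul_inv_cancel_left] ▸ ((rQ x hx).choose_spec.mul rs.choose_spec).mul hA⟩
  refine iso_PSU U h.faith h0 hiso hinj hsurj h1 fun A => ?_
  obtain ⟨p, l, e⟩ := hsurj (suAct A (vec h.α)) (by rw [U.H_act, hiso])
  obtain ⟨p', l', e'⟩ := hsurj (suAct A (vec h.β)) (by rw [U.H_act, hiso])
  have pp : p ≠ p' := by
    rintro rfl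
    refine h.ne (hinj _ _ (l * l'⁻¹) ?_)
    rw [← suAct_inv_eq e, ← suAct_inv_eq e', ← map_smul, smul_smul,
      inv_mul_cancel_right₀ (ne_zero_of_act (h0 _) e')]
  obtain ⟨g, rfl, rfl⟩ : ∃ g : G, g • h.α = p ∧ g • h.β = p' := by
    obtain ⟨k, rfl⟩ : ∃ k : G, k • h.α = p := by
      rcases cs p with rfl | ⟨x, -, rfl⟩
      exacts [⟨1, one_smul _ _⟩, ⟨x * h.s, by rw [mul_smul, h.sα]⟩]
    obtain ⟨x, hx, e⟩ := h.trans (k⁻¹ • p') fun e => pp (by rw [← e, smul_inv_smul])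
    exact ⟨k * x, by rw [mul_smul, h.fix x hx], by rw [mul_smul, e, smul_inv_smul]⟩
  obtain ⟨B, hB⟩ := h1 g⁻¹
  obtain ⟨m, em⟩ := hB (g • h.α)
  obtain ⟨m', em'⟩ := hB (g • h.β)
  rw [inv_smul_smul] at em em'
  have e1 : suAct (B * A) (vec h.α) = (l * m) • vec h.α := by rw [suAct_mul, e, map_smul, em, smul_smul]
  have e2 : suAct (B * A) (vec h.β) = (l' * m') • vec h.β := by
    rw [suAct_mul, e', map_smul, em', smul_smul]
  have l0 := ne_zero_of_act (h0 _) e1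
  have e3 := U.H_act (B * A) (vec h.β) (vec h.α)
  rw [e1, e2, U.H_smul_left, U.H_smul_right, hvec, hH, va, vb] at e3
  obtain ⟨D, hD, d1, d2⟩ := rD _ l0
  obtain ⟨j, hj⟩ := C.gen (U.σ (l * m) ^ 2 / (l * m)) (div_ne_zero (pow_ne_zero _ (U.σ_eq_zero.not.2 l0)) l0)
  have e4 : D⁻¹ * (B * A) = 1 := hfix _ (by rw [← va, suAct_mul]; exact (congrArg _ e1).trans (suAct_inv_eq d1))
    (by
      rw [← vb, suAct_mul]
      refine (congrArg _ e2).trans (suAct_inv_eq (d2.trans ?_))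
      rw [inv_eq_of_mul_eq_one_left (by simpa using e3)])
  exact ⟨_, (show B⁻¹ * D = A by rw [inv_mul_eq_one.1 e4, inv_mul_cancel_left]) ▸
    (hB.inv h0).mul (hD j (by rw [hj, div_mul_cancel₀ _ l0]))⟩

end BN3

end Cfsg.Agent.L0.U3
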